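import Groth.Agent.H12AlgSp.Basic

/-!
# Gluing morphisms from representables into fppf sheaves
-/

set_option autoImplicit false
set_option backward.isDefEq.respectTransparency false
set_option backward.isDefEq.respectTransparency.types false

universe u

open CategoryTheory CategoryTheory.Limits AlgebraicGeometry Opposite
open AlgSp

namespace Groth.Agent.H14Quot

variable {S : Scheme.{u}} {Q Z : Sp S}

lemma equiv_map {T T' : Over S} (g : T' ⟶ T) (x : (yon S).obj T ⟶ Q) :
    Q.obj.map g.op ((J S).uliftYonedaEquiv x) = (J S).uliftYonedaEquiv ((yon S).map g ≫ x) :=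
  GrothendieckTopology.uliftYonedaEquiv_naturality _ _ _

/-- Separatedness of a sheaf, in terms of morphisms from representables. -/
lemma yon_ext {T : Over S} {R : Sieve T} (hR : R ∈ J S T) {a b : (yon S).obj T ⟶ Q}
    (h : ∀ ⦃W : Over S⦄ (g : W ⟶ T), R g → (yon S).map g ≫ a = (yon S).map g ≫ b) : a = b := by
  apply (J S).uliftYonedaEquiv.injective
  refine (((isSheaf_iff_isSheaf_of_type _ _).1 Q.property) _ hR).isSeparatedFor.ext ?_
  intro W g hg
  rw [equiv_map, equiv_map, h g hg]

/-- Gluing for a sheaf, in terms of morphisms from representables. -/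
lemma yon_glue {T : Over S} {R : Sieve T} (hR : R ∈ J S T)
    (f : ∀ ⦃W : Over S⦄ (g : W ⟶ T), R g → ((yon S).obj W ⟶ Q))
    (hf : ∀ ⦃W W' : Over S⦄ (k : W' ⟶ W) (g : W ⟶ T) (hg : R g),
      (yon S).map k ≫ f g hg = f (k ≫ g) (R.downward_closed hg k)) :
    ∃ a : (yon S).obj T ⟶ Q, ∀ ⦃W : Over S⦄ (g : W ⟶ T) (hg : R g),
      (yon S).map g ≫ a = f g hg := by
  let fam : Presieve.FamilyOfElements Q.obj R.arrows := fun W g hg =>
    (J S).uliftYonedaEquiv (f g hg)
  have hc : fam.Compatible := by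
    rw [Presieve.compatible_iff_sieveCompatible]
    intro W W' g k hg
    exact ((equiv_map k _).trans (congrArg _ (hf k g hg))).symm
  obtain ⟨t, ht, -⟩ := ((isSheaf_iff_isSheaf_of_type _ _).1 Q.property) _ hR fam hc
  refine ⟨((J S).uliftYonedaEquiv).symm t, fun W g hg => ?_⟩
  apply (J S).uliftYonedaEquiv.injective
  rw [← equiv_map, Equiv.apply_symm_apply]
  exact ht g hg

/-- A morphism of sheaves from a natural assignment on morphisms from representables. -/
noncomputable def homOfPoints (F : ∀ T : Over S, ((yon S).obj T ⟶ Q) → ((yon S).obj T ⟶ Z))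
    (nat : ∀ ⦃T T' : Over S⦄ (k : T' ⟶ T) (x : (yon S).obj T ⟶ Q),
      F T' ((yon S).map k ≫ x) = (yon S).map k ≫ F T x) : Q ⟶ Z :=
  ObjectProperty.homMk
    { app := fun T => ↾fun s =>
        (J S).uliftYonedaEquiv (F T.unop ((J S).uliftYonedaEquiv.symm s))
      naturality := fun T T' g => by
        ext s
        change (J S).uliftYonedaEquiv (F T'.unop ((J S).uliftYonedaEquiv.symm (Q.obj.map g s))) =
          Z.obj.map g ((J S).uliftYonedaEquiv (F T.unop ((J S).uliftYonedaEquiv.symm s)))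
        rw [GrothendieckTopology.uliftYonedaEquiv_naturality']
        congr 1
        rw [← nat]
        congr 1
        apply (J S).uliftYonedaEquiv.injective
        rw [Equiv.apply_symm_apply, ← GrothendieckTopology.uliftYonedaEquiv_naturality',
          Equiv.apply_symm_apply] }

lemma comp_homOfPoints (F : ∀ T : Over S, ((yon S).obj T ⟶ Q) → ((yon S).obj T ⟶ Z))
    (nat : ∀ ⦃T T' : Over S⦄ (k : T' ⟶ T) (x : (yon S).obj T ⟶ Q),
      F T' ((yon S).map k ≫ x) = (yon S).map k ≫ F T x)
    {T : Over S} (x : (yon S).obj T ⟶ Q) : x ≫ homOfPoints F nat = F T x := by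
  apply (J S).uliftYonedaEquiv.injective
  rw [GrothendieckTopology.uliftYonedaEquiv_comp]
  change (J S).uliftYonedaEquiv (F T ((J S).uliftYonedaEquiv.symm ((J S).uliftYonedaEquiv x))) = _
  rw [Equiv.symm_apply_apply]

/-- A square of sheaves is cartesian if it has the universal property for representables. -/
lemma isPullback_of_yon {A B C D : Sp S} {f : A ⟶ B} {g : A ⟶ C} {i : B ⟶ D} {j : C ⟶ D}
    (w : f ≫ i = g ≫ j)
    (hl : ∀ (T : Over S) (b : (yon S).obj T ⟶ B) (c : (yon S).obj T ⟶ C), b ≫ i = c ≫ j →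
      ∃ a, a ≫ f = b ∧ a ≫ g = c)
    (hu : ∀ (T : Over S) (a a' : (yon S).obj T ⟶ A), a ≫ f = a' ≫ f → a ≫ g = a' ≫ g → a = a') :
    IsPullback f g i j := by
  choose l hl₁ hl₂ using hl
  let lift : ∀ s : PullbackCone i j, s.pt ⟶ A := fun s =>
    homOfPoints (fun T x => l T (x ≫ s.fst) (x ≫ s.snd)
      (by rw [Category.assoc, s.condition, Category.assoc]))
      fun T T' k x => hu _ _ _
        (by rw [Category.assoc ((yon S).map k) (l T _ _ _), hl₁, hl₁, Category.assoc])
        (by rw [Category.assoc ((yon S).map k) (l T _ _ _), hl₂, hl₂, Category.assoc])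
  refine ⟨⟨w⟩, ⟨PullbackCone.IsLimit.mk w lift (fun s => H12AlgSp.hom_ext_yon fun T x => ?_)
    (fun s => H12AlgSp.hom_ext_yon fun T x => ?_) fun s m h₁ h₂ =>
      H12AlgSp.hom_ext_yon fun T x => ?_⟩⟩
  · rw [← Category.assoc, comp_homOfPoints, hl₁]
  · rw [← Category.assoc, comp_homOfPoints, hl₂]
  · rw [comp_homOfPoints]
    exact hu _ _ _ (by rw [hl₁, Category.assoc, h₁]) (by rw [hl₂, Category.assoc, h₂])

end Groth.Agent.H14Quot
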