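import Groth.Agent.H14Quot.AffineDescent
import Groth.Agent.H12AlgSp.DescentLQF
import Groth.Agent.H13AlgSp.QAffLocal

/-!
A sheaf over a scheme which is quasi-affine after an fppf cover is representable and quasi-affine.
-/

set_option autoImplicit false
set_option backward.isDefEq.respectTransparency false
set_option backward.isDefEq.respectTransparency.types false

universe u

open CategoryTheory CategoryTheory.Limits AlgebraicGeometry Opposite MorphismProperty
open AlgSp Groth.Agent.H12AlgSp Groth.Agent.H13AlgSp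

namespace Groth.Agent.H14Quot

variable {S : Scheme.{u}}

/-- Quasi-affineness over an affine base after a finite fppf cover. -/
theorem exists_qaff_of_finite_fppf
    {Q : Sp S} {Z : Over S} [IsAffine Z.left] (pr : Q ⟶ (yon S).obj Z) {m : ℕ}
    {W : Fin m → Over S} (c : ∀ j, W j ⟶ Z) [∀ j, IsAffine (W j).left] [∀ j, Flat (c j).left]
    [∀ j, LocallyOfFinitePresentation (c j).left]
    (hs : ∀ z : Z.left, ∃ j, z ∈ Set.range (c j).left)
    (hr : ∀ j, ∃ (V : Over S) (b : V ⟶ W j) (a : (yon S).obj V ⟶ Q),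
      IsPullback a ((yon S).map b) pr ((yon S).map (c j)) ∧ qaffMor b.left) :
    ∃ (Z₀ : Over S) (z₀ : Z₀ ⟶ Z) (fst : (yon S).obj Z₀ ⟶ Q),
      IsPullback fst ((yon S).map z₀) pr (𝟙 _) ∧ qaffMor z₀.left := by
  let σ : (∐ fun j => (W j).left) ⟶ Z.left := Sigma.desc fun j => (c j).left
  let WS : Over S := Over.mk (σ ≫ Z.hom)
  let cS : WS ⟶ Z := Over.homMk σ rfl
  have hWS : IsAffine WS.left := inferInstanceAs (IsAffine (∐ fun j => (W j).left))
  have hflat : Flat cS.left :=
    IsZariskiLocalAtSource.sigmaDesc (P := @Flat) fun j => ‹∀ j, Flat (c j).left› j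
  have hsurj : Surjective cS.left := ⟨fun z => by
    obtain ⟨j, w, rfl⟩ := hs z
    refine ⟨Sigma.ι (fun j => (W j).left) j w, ?_⟩
    change σ _ = _
    rw [← Scheme.Hom.comp_apply, Sigma.ι_desc]⟩
  let ι : ∀ j, W j ⟶ WS := fun j => Over.homMk (Sigma.ι (fun j => (W j).left) j) (by
    change _ ≫ σ ≫ Z.hom = _
    rw [Sigma.ι_desc_assoc]
    exact Over.w (c j))
  have hιc : ∀ j, ι j ≫ cS = c j := fun j => Over.OverMorphism.ext (Sigma.ι_desc _ _)
  let B : Set WS.left.Opens := {V | IsAffineOpen V ∧ ∃ j, (V : Set WS.left) ⊆ Set.range (ι j).left}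
  have hB : TopologicalSpace.Opens.IsBasis B := by
    rw [TopologicalSpace.Opens.isBasis_iff_nbhd]
    intro U x hx
    obtain ⟨j, y, hy⟩ : ∃ j, x ∈ Set.range (ι j).left :=
      ⟨_, (sigmaOpenCover fun j => (W j).left).covers x⟩
    have : IsOpenImmersion (ι j).left :=
      inferInstanceAs (IsOpenImmersion (Sigma.ι (fun j => (W j).left) j))
    obtain ⟨V, hV, hxV, hle⟩ := TopologicalSpace.Opens.isBasis_iff_nbhd.mp WS.left.isBasis_affineOpens
      (show x ∈ U ⊓ (ι j).left.opensRange from ⟨hx, y, hy⟩)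
    exact ⟨V, ⟨hV, j, fun z hz => (hle hz).2⟩, hxV, hle.trans inf_le_left⟩
  have sqQ := IsPullback.of_hasPullback pr ((yon S).map cS)
  obtain ⟨GT, γ, μ, hμ, hμq, hγ⟩ := exists_iso_of_local_rep_property (P := qaffMor)
    (pullback.snd pr ((yon S).map cS)) hB fun V => by
      obtain ⟨j, hj⟩ := V.2.2
      have : IsOpenImmersion (ι j).left :=
        inferInstanceAs (IsOpenImmersion (Sigma.ι (fun j => (W j).left) j))
      have hsub : Set.range V.1.ι ⊆ Set.range (ι j).left := by rwa [Scheme.Opens.range_ι]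
      let t : openOver WS V.1 ⟶ W j := Over.homMk (IsOpenImmersion.lift (ι j).left V.1.ι hsub) (by
        rw [← Over.w (ι j), IsOpenImmersion.lift_fac_assoc]
        rfl)
      have ht : t ≫ ι j = openIncl WS V.1 := Over.OverMorphism.ext (IsOpenImmersion.lift_fac _ _ hsub)
      obtain ⟨V', b, a, sq, hb⟩ := hr j
      have sq1 := ((IsPullback.of_hasPullback b t).map (yon S)).paste_horiz sq
      rw [← Functor.map_comp, ← hιc, ← Category.assoc, ht, Functor.map_comp] at sq1
      refine ⟨pullback b t, pullback.snd b t, sqQ.lift ((yon S).map (pullback.fst b t) ≫ a)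
        ((yon S).map (pullback.snd b t) ≫ (yon S).map (openIncl WS V.1))
        (by rw [Category.assoc (f := (yon S).map (pullback.snd b t))]; exact sq1.w), ?_, ?_⟩
      · exact IsPullback.of_right (by rw [sqQ.lift_fst]; exact sq1) (sqQ.lift_snd _ _ _) sqQ
      · exact MorphismProperty.of_isPullback (P := qaffMor) ((IsPullback.of_hasPullback b t).map (Over.forget S)) hb
  have hGT : GT.left.IsQuasiAffine := isQuasiAffine_source hγ
  have sqG : IsPullback (μ ≫ pullback.fst pr ((yon S).map cS)) ((yon S).map γ) pr ((yon S).map cS) := by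
    have sq₀ : IsPullback μ ((yon S).map γ) (pullback.snd pr ((yon S).map cS)) (𝟙 _) :=
      IsPullback.of_horiz_isIso ⟨by rw [hμq, Category.comp_id]⟩
    have := sq₀.paste_horiz sqQ
    rwa [Category.id_comp] at this
  have hlfp : LocallyOfFinitePresentation cS.left :=
    IsZariskiLocalAtSource.sigmaDesc (P := @LocallyOfFinitePresentation)
      fun j => ‹∀ j, LocallyOfFinitePresentation (c j).left› j
  obtain ⟨Z₀, ν, hν, hZ₀⟩ :=
    exists_iso_of_quasiAffine pr cS (μ ≫ pullback.fst pr ((yon S).map cS)) γ sqG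
  obtain ⟨z₀, hz₀⟩ := (yon S).map_surjective (ν ≫ pr)
  exact ⟨Z₀, z₀, ν, IsPullback.of_horiz_isIso ⟨by rw [hz₀, Category.comp_id]⟩,
    qaffMor_of_isQuasiAffine z₀.left⟩

/-- A sheaf over a scheme which is fppf-locally quasi-affine is representable and quasi-affine. -/
theorem exists_qaff_of_fppf_local
    {Q : Sp S} {U : Over S} (q : Q ⟶ (yon S).obj U) {κ : Type*} {C : κ → Over S}
    (c : ∀ i, C i ⟶ U) (hfl : ∀ i, Flat (c i).left)
    (hfp : ∀ i, LocallyOfFinitePresentation (c i).left)
    (hs : ∀ z : U.left, ∃ i, z ∈ Set.range (c i).left)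
    (hloc : ∀ i, ∃ (V : Over S) (b : V ⟶ C i) (a : (yon S).obj V ⟶ Q),
      IsPullback a ((yon S).map b) q ((yon S).map (c i)) ∧ qaffMor b.left) :
    ∃ (GT : Over S) (γ : GT ⟶ U) (μ : (yon S).obj GT ⟶ Q),
      IsIso μ ∧ μ ≫ q = (yon S).map γ ∧ qaffMor γ.left :=
  exists_iso_of_local_rep_property q U.left.isBasis_affineOpens fun O => by
    let Z : Over S := openOver U O.1
    let g : Z ⟶ U := openIncl U O.1
    have : IsAffine Z.left := O.2
    have sqc : ∀ i, IsPullback (pullback.snd (c i) g).left (pullback.fst (c i) g).left g.left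
        (c i).left := fun i => ((IsPullback.of_hasPullback (c i) g).map (Over.forget S)).flip
    obtain ⟨m, W, d, hWa, hdfl, hdfp, hds, hfac⟩ := exists_finite_affine_refinement
      (fun i => pullback.snd (c i) g)
      (fun i => MorphismProperty.of_isPullback (P := @Flat) (sqc i).flip (hfl i))
      (fun i => MorphismProperty.of_isPullback (P := @LocallyOfFinitePresentation) (sqc i).flip (hfp i))
      (fun z => by
        obtain ⟨i, w, hw⟩ := hs (g.left z)
        obtain ⟨p, hp, -⟩ := Scheme.Pullback.exists_preimage_pullback (f := g.left) (g := (c i).left)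
          z w hw.symm
        refine ⟨i, (sqc i).isoPullback.inv p, ?_⟩
        rw [← Scheme.Hom.comp_apply, (sqc i).isoPullback_inv_fst]
        exact hp)
    have sqQ := IsPullback.of_hasPullback q ((yon S).map g)
    obtain ⟨Z₀, z₀, fst, sqZ, hz₀⟩ := exists_qaff_of_finite_fppf
      (pullback.snd q ((yon S).map g)) d hds fun j => by
        obtain ⟨i, l, hl⟩ := hfac j
        obtain ⟨V, b, a, sqV, hb⟩ := hloc i
        let k := l ≫ pullback.fst (c i) g
        have hk : k ≫ c i = d j ≫ g := by
          rw [← hl, Category.assoc, Category.assoc, pullback.condition]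
        have sq1 := ((IsPullback.of_hasPullback b k).map (yon S)).paste_horiz sqV
        rw [← Functor.map_comp, hk, Functor.map_comp] at sq1
        refine ⟨pullback b k, pullback.snd b k, sqQ.lift ((yon S).map (pullback.fst b k) ≫ a)
          ((yon S).map (pullback.snd b k) ≫ (yon S).map (d j))
          (by rw [Category.assoc ((yon S).map (pullback.snd b k))]; exact sq1.w),
          IsPullback.of_right (by rw [sqQ.lift_fst]; exact sq1) (sqQ.lift_snd _ _ _) sqQ, ?_⟩
        exact MorphismProperty.of_isPullback (P := qaffMor)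
          ((IsPullback.of_hasPullback b k).map (Over.forget S)) hb
    have := sqZ.paste_horiz sqQ
    rw [Category.id_comp] at this
    exact ⟨Z₀, z₀, _, this, hz₀⟩

end Groth.Agent.H14Quot
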