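import Groth.Agent.H14Quot.QuotDiag
import Groth.Agent.H14Quot.QAffDescent

/-!
# The diagonal of `[X/G]` is quasi-affine for quasi-separated `X`
-/

set_option autoImplicit false
set_option backward.isDefEq.respectTransparency false
set_option backward.isDefEq.respectTransparency.types false

universe u

open CategoryTheory CategoryTheory.Limits MonoidalCategory CartesianMonoidalCategory MonObj GrpObj
open AlgebraicGeometry AlgSt Opposite
open AlgSp (yon J)

namespace Groth.Agent.H14Quot

open H14Fib H14Stk H14AlgSt H12AlgSp H13AlgSp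

variable {S : Scheme.{u}}

lemma qaffMor_of_affine {X Y : Scheme.{u}} (f : X ⟶ Y) [IsAffineHom f] : qaffMor f :=
  ⟨inferInstance, fun V hV => have : IsAffine (f ⁻¹ᵁ V : Scheme.{u}) := hV.preimage f; inferInstance⟩

instance : (AlgSp.IsQuasiAffineMor : MorphismProperty (AlgSp.Sp S)).IsStableUnderBaseChange :=
  ⟨fun sq h => isQuasiAffineMor_of_isPullback sq.flip.flip h⟩

lemma baseStable_qaff : BaseStable (S := S) AlgSp.IsQuasiAffineMor :=
  fun _ _ _ _ _ _ _ _ _ _ _ _ sq h => isQuasiAffineMor_of_isPullback sq h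

lemma isQuasiAffineMor_yon_map {A B : Over S} (f : A ⟶ B) (h : qaffMor f.left) :
    AlgSp.IsQuasiAffineMor ((yon S).map f) := fun Z hZ g => by
  obtain ⟨g, rfl⟩ := (yon S).map_surjective g
  refine ⟨pullback f g, pullback.snd f g, _, (IsPullback.of_hasPullback f g).map (yon S), ?_⟩
  exact @isQuasiAffine_source _ _ _ (MorphismProperty.of_isPullback (P := qaffMor)
    ((IsPullback.of_hasPullback f g).map (Over.forget S)) h) hZ

variable {K : Precoverage Scheme.{u}} [K.HasIsos] [K.IsStableUnderBaseChange]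
  {G : Over S} [GrpObj G] {X : Over S} {aX : AlgGrp.Action G X} {U V : Over S}

lemma qaffMor_pairBase (x : FibCat.overCat V ⥤ᵇ QuotSt K G aX)
    (y : FibCat.overCat U ⥤ᵇ QuotSt K G aX) (hK : K ≤ Scheme.fppfPrecoverage)
    (hG : IsAffineHom G.hom) [QuasiSeparated X.hom] : qaffMor (pairBase x y).left := by
  let l : pairScheme x y ⟶ (top x).P ⊗ (top y).P :=
    lift (pullback.fst _ _) (pullback.snd _ _)
  have hd : qaffMor (pullback.diagonal X.hom) := H11QAff.of_isImmersion _
  have h1 : qaffMor l.left :=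
    MorphismProperty.of_isPullback (P := qaffMor)
      ((isPullback_lift_fst_snd (top x).φ (top y).φ).map (Over.forget S)) hd
  have h2 : IsAffineHom (toBase x ▷ (top y).P).left :=
    MorphismProperty.of_isPullback (P := @IsAffineHom)
      ((isPullback_whiskerRight_fst (toBase x) (top y).P).map (Over.forget S)).flip
      (toBase_prop @IsAffineHom hK hG x)
  have e : pairBase x y = l ≫ (toBase x ▷ (top y).P) := (lift_whiskerRight _ _ _).symm
  rw [e, Over.comp_left]
  exact H11QAff.comp _ _ h1 (qaffMor_of_affine _)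

/-- The diagonal of `[X/G]` is quasi-affine. -/
theorem repWith_diag_qaff (hK : K ≤ Scheme.fppfPrecoverage)
    (hG : IsAffineHom G.hom) (hGf : Flat G.hom) (hGp : LocallyOfFinitePresentation G.hom)
    [QuasiSeparated X.hom] :
    RepByAlgSpWith AlgSp.IsQuasiAffineMor (FibCat.diag (FibCat.toSelf (QuotSt K G aX))) :=
  repWith_diag_of_fpDown fun U x y => by
    have hD := fp_stack_of_le hK hG x y
    have hs := fp_setoid_slices x y
    have hsurj : Surjective (U ◁ toBase y).left := whiskerLeft_prop @Surjective U _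
      (toBase_prop @Surjective hK (surjective_group (η : 𝟙_ (Over S) ⟶ G)) y)
    obtain ⟨GT, gt, ψ, hψ, hψq, hgt⟩ := exists_qaff_of_fppf_local (classTo hD hs (prodProj x y))
      (κ := PUnit.{u + 1}) (fun _ => U ◁ toBase y)
      (fun _ => whiskerLeft_prop @Flat U _ (toBase_prop @Flat hK hGf y))
      (fun _ => whiskerLeft_prop @LocallyOfFinitePresentation U _
        (toBase_prop @LocallyOfFinitePresentation hK hGp y))
      (fun z => ⟨⟨⟩, hsurj.surj z⟩)
      (fun _ => ⟨_, pairBase x y, pairPoint hD hs, isPullback_pairPoint hD hs,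
        qaffMor_pairBase x y hK hG⟩)
    have hQ : AlgSp.IsAlgSpace (classSp hD hs) :=
      ObjectProperty.prop_of_iso AlgSp.IsAlgSpace (asIso ψ) (AlgSp.IsAlgSpace.yon_obj GT)
    rw [repWith_fpDown_iff x y hD hs]
    refine repWith_ofSpMap_of_baseStable baseStable_qaff hQ (AlgSp.IsAlgSpace.yon_obj _) _ ?_
    rw [← IsIso.inv_hom_id_assoc ψ (classTo hD hs (prodProj x y)), hψq]
    exact ((AlgSp.IsQuasiAffineMor : MorphismProperty (AlgSp.Sp S)).cancel_left_of_respectsIso _ _).2
      (isQuasiAffineMor_yon_map gt hgt)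

end Groth.Agent.H14Quot
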