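import Groth.Agent.H14AlgSt.Bootstrap
import Groth.Agent.H14Quot.Yon

/-!
# The sheaf of classes of a stack in setoids, and its points
-/

set_option autoImplicit false
set_option backward.isDefEq.respectTransparency false
set_option backward.isDefEq.respectTransparency.types false

universe u

open CategoryTheory CategoryTheory.Functor AlgebraicGeometry Opposite
open AlgSp (yon J)

namespace Groth.Agent.H14Quot

open H14Fib H14Stk H14AlgSt

variable {S : Scheme.{u}} {𝒟 : AlgSt.Cat S} (hD : Stk.IsStack (J S) 𝒟)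
  (hs : FibCat.IsFibSetoid 𝒟.p) {T T' V : Over S}

/-- The sheaf of classes. -/
noncomputable def classSp : AlgSp.Sp S :=
  ⟨classPsh hD.1, isStack_ofPsh.1 ((isStack_iff _ (classFun_isEquivOver hD.1 hs)).1 hD)⟩

/-- The point of the sheaf of classes defined by an object. -/
noncomputable def point (a : 𝒟.obj) (ha : 𝒟.p.obj a = T) : (yon S).obj T ⟶ classSp hD hs :=
  (J S).uliftYonedaEquiv.symm (clMk a ha)

lemma point_surj (b : (yon S).obj T ⟶ classSp hD hs) : ∃ a ha, point hD hs a ha = b := by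
  obtain ⟨a, ha, h⟩ := clMk_surj ((J S).uliftYonedaEquiv b)
  exact ⟨a, ha, (Equiv.symm_apply_eq _).2 h⟩

lemma map_point {a b : 𝒟.obj} (φ : b ⟶ a) (g : T' ⟶ T) (hφ : 𝒟.p.IsHomLift g φ)
    (ha : 𝒟.p.obj a = T) (hb : 𝒟.p.obj b = T') :
    (yon S).map g ≫ point hD hs a ha = point hD hs b hb := by
  apply (J S).uliftYonedaEquiv.injective
  rw [← equiv_map]
  simp only [point, Equiv.apply_symm_apply]
  exact clMap_of_lift hD.1 g φ ha hb

lemma point_eq_iff {a b : 𝒟.obj} {ha : 𝒟.p.obj a = T} {hb : 𝒟.p.obj b = T} :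
    point hD hs a ha = point hD hs b hb ↔ ∃ e : a ≅ b, 𝒟.p.IsHomLift (𝟙 T) e.hom := by
  rw [point, point, Equiv.apply_eq_iff_eq]
  exact ⟨exists_iso_of_clMk_eq, fun ⟨e, he⟩ => Quot.sound ⟨e, he⟩⟩

section To

variable (Φ : 𝒟 ⥤ᵇ FibCat.overCat V)

/-- The morphism of the base under a functor to a slice. -/
noncomputable def toSlice (a : 𝒟.obj) (ha : 𝒟.p.obj a = T) : T ⟶ V :=
  eqToHom ((Φ.w_obj a).trans ha).symm ≫ (Φ.obj a).hom

lemma toSlice_lift {a b : 𝒟.obj} (φ : b ⟶ a) (g : T' ⟶ T) (hφ : 𝒟.p.IsHomLift g φ)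
    (ha : 𝒟.p.obj a = T) (hb : 𝒟.p.obj b = T') : toSlice Φ b hb = g ≫ toSlice Φ a ha := by
  have h : (FibCat.overCat V).p.IsHomLift g (Φ.map φ) := BasedFunctor.preserves_isHomLift Φ g φ
  have e : (Φ.map φ).left = eqToHom ((Φ.w_obj b).trans hb) ≫ g ≫
      eqToHom ((Φ.w_obj a).trans ha).symm := IsHomLift.fac' (FibCat.overCat V).p g (Φ.map φ)
  rw [toSlice, toSlice, ← Over.w (Φ.map φ), e]
  simp

/-- The morphism from the sheaf of classes given by a functor to a slice. -/
noncomputable def classTo : classSp hD hs ⟶ (yon S).obj V :=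
  ObjectProperty.homMk
    { app := fun T => ↾(Quot.lift (fun a => (ULift.up (toSlice Φ a.1 a.2) :
          ((yon S).obj V).obj.obj T)) (fun a b ⟨e, he⟩ => congrArg ULift.up (by
            refine (toSlice_lift Φ e.hom (𝟙 T.unop) he b.2 a.2).trans ?_
            rw [Category.id_comp])))
      naturality := fun T T' g => by
        ext c
        obtain ⟨a, ha, rfl⟩ := clMk_surj c
        exact congrArg ULift.up (toSlice_lift Φ _ g.unop (liftHom_lift hD.1 g.unop a ha) ha
          (liftObj_obj hD.1 g.unop a ha)) }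

lemma point_classTo (a : 𝒟.obj) (ha : 𝒟.p.obj a = T) :
    point hD hs a ha ≫ classTo hD hs Φ = (yon S).map (toSlice Φ a ha) := by
  apply (J S).uliftYonedaEquiv.injective
  rw [GrothendieckTopology.uliftYonedaEquiv_comp, point, Equiv.apply_symm_apply,
    GrothendieckTopology.uliftYonedaEquiv_uliftYoneda_map]
  rfl

end To

end Groth.Agent.H14Quot
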