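import Groth.Agent.H14Quot.Chart
import Groth.Agent.H12AlgSp.Bootstrap
import Groth.Agent.H12AlgSp.LocP
import Groth.Agent.H18Descent.Basic
import Groth.Agent.H13AlgSp.LocPDescent

/-!
# Torsors inherit properties of the group; `X ⟶ [X/G]` is representable
-/

set_option autoImplicit false
set_option backward.isDefEq.respectTransparency false
set_option backward.isDefEq.respectTransparency.types false

universe u

open CategoryTheory CategoryTheory.Limits MonoidalCategory CartesianMonoidalCategory MonObj GrpObj
open AlgebraicGeometry AlgSt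

namespace Groth.Agent.H14Quot

open H14Fib H14AlgSt H12AlgSp

variable {S : Scheme.{u}} {G : Over S} [GrpObj G] {X : Over S} {aX : AlgGrp.Action G X}

section Props

variable {K : Precoverage Scheme.{u}}

/-- Over a base where it has a section, a torsor is the trivial one. -/
lemma exists_isPullback_of_sec (A : QuotObj K G aX) {T : Over S} (σ : T ⟶ A.P) :
    IsPullback ((G ◁ σ) ≫ A.act.act).left (snd G T).left A.π.left (σ ≫ A.π).left :=
  ((isPullback_whiskerLeft σ).paste_horiz A.cart).map (Over.forget S)

omit [GrpObj G] in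
lemma snd_left_of (Q : MorphismProperty Scheme.{u}) [Q.IsStableUnderBaseChange] (T : Over S)
    (hG : Q G.hom) : Q (snd G T).left := by
  have h := (isPullback_fst_snd G T).map (Over.forget S)
  have e : (Over.forget S).map (toUnit G) = G.hom := by
    have := Over.w (toUnit G)
    simpa using this
  rw [e] at h
  exact Q.of_isPullback h hG

/-- A property local for flat, locally finitely presented coverings passes from the group to
torsors. -/
theorem torsor_prop (Q : MorphismProperty Scheme.{u}) [Q.IsStableUnderBaseChange]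
    [IsZariskiLocalAtTarget Q] [Q.DescendsAlong fppfMor.{u}] (hK : K ≤ Scheme.fppfPrecoverage)
    (A : QuotObj K G aX) (hG : Q G.hom) : Q A.π.left := by
  obtain ⟨R, hR, hs⟩ := A.loc
  obtain ⟨κ, Z, g, rfl⟩ := Presieve.exists_eq_ofArrows R
  have hR' := hK _ hR
  rw [Scheme.fppfPrecoverage, Scheme.ofArrows_mem_precoverage_iff] at hR'
  obtain ⟨hcov, hmor⟩ := hR'
  choose i hi using hcov
  let c : ∀ a : A.base.left, Over.mk (g (i a) ≫ A.base.hom) ⟶ A.base := fun a =>
    Over.homMk (g (i a)) rfl
  refine of_fppf_family (P := Q) A.π c (fun a => (hmor (i a)).1) (fun a => (hmor (i a)).2)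
    (fun t => ⟨t, hi t⟩) fun a => ?_
  obtain ⟨s, hsg⟩ := hs (g (i a)) ⟨i a⟩
  change s ≫ A.π.left = g (i a) at hsg
  let σ : Over.mk (g (i a) ≫ A.base.hom) ⟶ A.P := Over.homMk s (by
    change s ≫ A.P.hom = g (i a) ≫ A.base.hom
    rw [← hsg, Category.assoc, Over.w A.π])
  have sq := exists_isPullback_of_sec A σ
  rw [show (σ ≫ A.π).left = (c a).left from hsg] at sq
  rw [← sq.isoPullback_inv_snd]
  exact (Q.cancel_left_of_respectsIso _ _).2 (snd_left_of Q _ hG)

variable [K.HasIsos] [K.IsStableUnderBaseChange]

/-- The canonical functor is representable, with every property that all torsors have. -/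
theorem repWith_atlas {P : MorphismProperty (AlgSp.Sp S)}
    (hP : ∀ (A : QuotObj K G aX) {V : Over S} (e : A.base ⟶ V) [IsIso e],
      P ((AlgSp.yon S).map (A.π ≫ e))) :
    RepByAlgSpWith P (atlas K G aX) := fun V y =>
  ⟨⟨(AlgSp.yon S).obj (top y).P, AlgSp.IsAlgSpace.yon_obj _⟩,
    BasedFunctor.comp (toOverCat (top y).P) (ptFun y),
    isEquivOver_comp (toOverCat_isEquivOver _) (ptFun_isEquivOver y),
    by
      rw [spMapOfOver_ptFun]
      exact hP (top y) (eqToHom (top_base y))⟩

/-- The canonical functor has every etale-local property of the group which descends. -/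
theorem repWith_atlas_locP (Q : MorphismProperty Scheme.{u}) [Q.IsStableUnderBaseChange]
    [IsZariskiLocalAtTarget Q] [Q.DescendsAlong fppfMor.{u}] (hQ : EtLocal Q)
    (hK : K ≤ Scheme.fppfPrecoverage) (hG : Q G.hom) :
    RepByAlgSpWith (AlgSp.LocP Q) (atlas K G aX) := by
  refine repWith_atlas fun A V e _ => locP_of_repWith hQ ((AlgSp.repWith_yon_map_iff Q _).2 ?_)
  have : IsIso e.left := inferInstanceAs (IsIso ((Over.forget S).map e))
  exact (Q.cancel_right_of_respectsIso _ _).2 (torsor_prop Q hK A hG)

omit [GrpObj G] in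
lemma surjective_group (η' : 𝟙_ (Over S) ⟶ G) : Surjective G.hom := by
  refine ⟨fun s => ⟨η'.left s, ?_⟩⟩
  rw [← Scheme.Hom.comp_apply, Over.w η']
  rfl

/-- The canonical functor is surjective. -/
theorem repWith_atlas_surjective (hK : K ≤ Scheme.fppfPrecoverage) :
    RepByAlgSpWith AlgSp.IsSurjectiveMor (atlas K G aX) := by
  refine repWith_atlas fun A V e _ => ?_
  have : IsIso e.left := inferInstanceAs (IsIso ((Over.forget S).map e))
  have h : Surjective (A.π ≫ e).left :=
    (MorphismProperty.cancel_right_of_respectsIso @Surjective _ _).2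
      (torsor_prop @Surjective hK A (surjective_group (η : 𝟙_ (Over S) ⟶ G)))
  change Function.Surjective _
  rw [AlgSp.Points.map_yon_map_eq]
  exact (Homeomorph.surjective _).comp (h.surj.comp (Homeomorph.surjective _))

end Props

end Groth.Agent.H14Quot
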