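import Groth.Agent.H14Quot.NeutralBG
import Groth.Agent.H14Quot.Torsor
import Groth.Agent.H14AlgSt.SubstackGen
import Groth.Agent.H14AlgSt.SetoidSpace
import Groth.Agent.H14AlgSt.AlgFp
import Groth.Agent.H14AlgSt.SourceDescent
import Groth.Agent.H12AlgSp.FppfBootstrap

/-!
# The classifying stack of the automorphisms of a point maps monomorphically to the stack
-/

set_option autoImplicit false
set_option backward.isDefEq.respectTransparency false
set_option backward.isDefEq.respectTransparency.types false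

universe u

open CategoryTheory CategoryTheory.Functor CategoryTheory.Limits AlgebraicGeometry Opposite
open MonoidalCategory CartesianMonoidalCategory

noncomputable section

namespace Groth.Agent.H14Quot

open H14Fib H14Stk H14AlgSt AlgSt MonObj

variable {S : Scheme.{u}} {G : Over S} [GrpObj G] {𝒳 : AlgSt.Cat S}
  (x : FibCat.overCat (Over.mk (𝟙 S) : Over S) ⥤ᵇ 𝒳)

local notation "K₀" => Scheme.fppfPrecoverage

/-- The values of a point are stable under pullback. -/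
lemma pullStable_point : PullStable (fun T : Over S => x.obj (cT T)) := by
  intro T V W g hW
  obtain rfl : T = W := (x.w_obj (cT T)).symm.trans hW
  exact ⟨V, x.map (nT g), lift_x x g⟩

/-- Being locally isomorphic to a value of the point. -/
def locPt (ξ : 𝒳.obj) : Prop :=
  Locally (QuotSh.J K₀ S) (𝒳.p.obj ξ)
    (fun _ f => ∃ (T : Over S) (m : x.obj (cT T) ⟶ ξ), 𝒳.p.IsHomLift f m)

lemma locPt_self (T : Over S) : locPt x (x.obj (cT T)) :=
  Locally.of_forall fun V f => by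
    obtain ⟨i, α, hα⟩ := pullStable_point x T f rfl
    exact ⟨i, α, hα⟩

lemma locPt_of_hom (h𝒳 : FibCat.IsFibGrpd 𝒳.p) {a b : 𝒳.obj} (φ : b ⟶ a) (h : locPt x a) :
    locPt x b := by
  refine (h.pullback (𝒳.p.map φ)).mono ?_
  rintro V f ⟨T, m, hm⟩
  have := h𝒳.isStronglyCartesian φ
  obtain ⟨χ, ⟨hχ, -⟩, -⟩ := IsStronglyCartesian.universal_property 𝒳.p (𝒳.p.map φ) φ f _ rfl m
  exact ⟨T, χ, hχ⟩

lemma locPt_closed (h𝒳 : FibCat.IsFibGrpd 𝒳.p) :
    ObjectProperty.IsClosedUnderIsomorphisms (locPt x) :=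
  ⟨fun e h => locPt_of_hom x h𝒳 e.inv h⟩

lemma localPred_locPt : LocalPred (locPt x) := by
  intro U R hR H h s
  have hs : 𝒳.p.obj (H.obj s) = s.left := H.w_obj s
  have h0 : Locally (QuotSh.J K₀ S) (𝒳.p.obj (H.obj s))
      (fun _ f => ∃ (a : (Stk.sieveCat R).obj) (m : H.obj a.obj ⟶ H.obj s),
        𝒳.p.IsHomLift f m) := by
    refine ⟨R.pullback (eqToHom hs ≫ s.hom),
      (QuotSh.J K₀ S).pullback_stable _ hR, fun V f hf => ?_⟩
    let a : (Stk.sieveCat R).obj := ⟨Over.mk (f ≫ eqToHom hs ≫ s.hom), hf⟩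
    let t : a.obj ⟶ s := Over.homMk (f ≫ eqToHom hs) (Category.assoc _ _ _)
    refine ⟨a, H.map t, ?_⟩
    refine IsHomLift.of_fac' 𝒳.p f _ (H.w_obj a.obj) rfl ?_
    rw [@IsHomLift.fac' _ _ _ _ 𝒳.p _ _ _ _ (f ≫ eqToHom hs) (H.map t)
      (@BasedFunctor.preserves_isHomLift _ _ _ _ H _ _ _ _ (f ≫ eqToHom hs) t
        (IsHomLift.of_fac' (FibCat.overCat U).p _ t rfl rfl (by
          change f ≫ eqToHom hs = 𝟙 _ ≫ (f ≫ eqToHom hs) ≫ 𝟙 _
          simp)))]
    simp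
  refine h0.bind ?_
  rintro V f ⟨a, m, hm⟩
  have hV : 𝒳.p.obj (H.obj a.obj) = V := IsHomLift.domain_eq 𝒳.p f m
  subst hV
  exact (h a).mono fun W g ⟨T, m', hm'⟩ => ⟨T, m' ≫ m, homLift_comp' hm' hm⟩

/-- A point with automorphism group `G` extends to a fully faithful functor on the classifying
stack. -/
theorem exists_ff_extension [IsAffineHom G.hom] (h𝒳 : AlgSt.IsAlgStack K₀ 𝒳)
    (r : Gerb.AutRep x (Gerb.ptsGrp (Over.mk (𝟙 S) : Over S) G)) :
    ∃ (F : AlgSt.BG K₀ G ⥤ᵇ 𝒳), F.toFunctor.Full ∧ F.toFunctor.Faithful ∧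
      ∃ v : ∀ T : Over S, x.obj (cT T) ⟶ F.obj (trivTors T),
        (∀ T, 𝒳.p.IsHomLift (𝟙 T) (v T)) ∧
        ∀ {T' T : Over S} (α : trivTors (G := G) T' ⟶ trivTors T),
          cmpMap x r α ≫ v T = v T' ≫ F.map α := by
  have hG : Stk.IsStack (QuotSh.J K₀ S) (AlgSt.BG K₀ G) := isStack_quotSt le_rfl inferInstance
  obtain ⟨e, v, hv, hvn⟩ :=
    exists_extension hG.1 h𝒳.isStack (cmp x r) pullStable_triv locCovers_trivTors
  let Q := locPt x
  have hQ : ∀ A, Q (e.obj A) := by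
    intro A
    have h : Locally (QuotSh.J K₀ S) A.base
        (fun _ f => ∃ (T : Over S) (m : x.obj (cT T) ⟶ e.obj A), 𝒳.p.IsHomLift f m) := by
      refine Locally.mono (locCovers_trivTors A) ?_
      rintro V f ⟨T, m, hm⟩
      obtain rfl : T = V := @IsHomLift.domain_eq _ _ _ _ (AlgSt.BG K₀ G).p _ _ _ _ f m hm
      have h1 := homLift_comp' (show 𝒳.p.IsHomLift (𝟙 T) (v T) from hv T)
        (@BasedFunctor.preserves_isHomLift _ _ _ _ e _ _ _ _ f m hm)
      rw [Category.id_comp] at h1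
      exact ⟨T, v T ≫ e.map m, h1⟩
    have hA : 𝒳.p.obj (e.obj A) = A.base := e.w_obj A
    refine (h.pullback (eqToHom hA)).mono ?_
    rintro V f ⟨T, m, hm⟩
    refine ⟨T, m, IsHomLift.of_fac' _ _ _ (@IsHomLift.domain_eq _ _ _ _ 𝒳.p _ _ _ _ _ m hm) rfl ?_⟩
    rw [@IsHomLift.fac' _ _ _ _ 𝒳.p _ _ _ _ _ m hm]
    simp
  let 𝒰 := AlgSt.fullSub 𝒳 Q
  have hU : Stk.IsStack (QuotSh.J K₀ S) 𝒰 :=
    fullSub_isStack_of_local (fun φ => locPt_of_hom x h𝒳.isStack.1 φ) (localPred_locPt x) h𝒳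
  let P' : Over S → 𝒰.obj := fun T => ⟨x.obj (cT T), locPt_self x T⟩
  let Φ : HomMap (fun T : Over S => trivTors (G := G) T) P' :=
    { map := fun α => ObjectProperty.homMk ((cmp x r).map α)
      lift := fun α V W g hg =>
        (BasedFunctor.isHomLift_iff (AlgSt.subIncl 𝒳 Q) g _).1 ((cmp x r).lift α g hg)
      map_id := fun T => ObjectProperty.hom_ext _ ((cmp x r).map_id T)
      map_comp := fun α β => ObjectProperty.hom_ext _ ((cmp x r).map_comp α β) }
  have hbij : ∀ T' T, Function.Bijective (Φ.map (i := T') (j := T)) := fun T' T =>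
    ⟨fun a b h => (cmp_bijective x r h𝒳.isStack.1 T' T).1 (congrArg (fun t => t.hom) h),
      fun β => by
        obtain ⟨a, ha⟩ := (cmp_bijective x r h𝒳.isStack.1 T' T).2 β.hom
        exact ⟨a, ObjectProperty.hom_ext _ ha⟩⟩
  have hloc : LocCovers (QuotSh.J K₀ S) P' := by
    intro ξ
    refine Locally.mono (U := 𝒳.p.obj ξ.obj) ξ.property ?_
    rintro V f ⟨T, m, hm⟩
    exact ⟨T, ObjectProperty.homMk m,
      (BasedFunctor.isHomLift_iff (AlgSt.subIncl 𝒳 Q) f _).1 hm⟩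
  let e' : AlgSt.BG K₀ G ⥤ᵇ 𝒰 := liftSub e hQ
  have hE : FibCat.IsEquivOver e' :=
    isEquivOver_of_bijective Φ hG hU hbij pullStable_triv locCovers_trivTors hloc e'
      (fun T => ObjectProperty.homMk (v T))
      (fun T => (BasedFunctor.isHomLift_iff (AlgSt.subIncl 𝒳 Q) _ _).1 (hv T))
      (fun α => ObjectProperty.hom_ext _ (hvn α))
  obtain ⟨⟨hf, hff⟩, -⟩ := (isEquivOver_iff e').1 hE
  refine ⟨e, ⟨fun {a b} g => ?_⟩, ⟨fun {a b} f g h => ?_⟩, v, hv, fun α => hvn α⟩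
  · obtain ⟨f, hf'⟩ := hf.map_surjective (X := a) (Y := b) (ObjectProperty.homMk g)
    exact ⟨f, congrArg (fun t => t.hom) hf'⟩
  · exact hff.map_injective (ObjectProperty.hom_ext _ h)

/-- A faithful functor from a stack with a representable flat, locally finitely presented,
surjective chart by a scheme to a stack with representable diagonal is representable. -/
theorem repByAlgSp1_of_chart {𝒲 𝒴 : AlgSt.Cat S} {Z : Over S}
    (hW : Stk.IsStack (AlgSp.J S) 𝒲) (hY : Stk.IsStack (AlgSp.J S) 𝒴)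
    (hΔ : AlgSt.RepByAlgSp1 (FibCat.diag (FibCat.toSelf 𝒴)))
    (f : 𝒲 ⥤ᵇ 𝒴) [f.toFunctor.Faithful] (c : FibCat.overCat Z ⥤ᵇ 𝒲)
    (hcs : AlgSt.RepByAlgSpWith AlgSp.IsSurjectiveMor c)
    (hcf : AlgSt.RepByAlgSpWith (AlgSp.LocP @Flat) c)
    (hcp : AlgSt.RepByAlgSpWith (AlgSp.LocP @LocallyOfFinitePresentation) c) :
    AlgSt.RepByAlgSp1 f := by
  intro U y
  let 𝒵 := FibCat.fp y f
  have hU := isStack_of_repByAlgSp (repByAlgSp_overCat U)
  have hst : Stk.IsStack (AlgSp.J S) 𝒵 := isStack_fp _ _ hU hW (isPrestack_of_isStack hY)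
  have hs : FibCat.IsFibSetoid 𝒵.p :=
    fp_fibSetoid hW.1 (isFibSetoid_of_rep (repByAlgSp_overCat U)) hY.1 y f
  let κ := classFun hst.1
  have hκ : FibCat.IsEquivOver κ := classFun_isEquivOver hst.1 hs
  let F : AlgSp.Sp S := ⟨classPsh hst.1,
    isStack_ofPsh.1 ((isStack_iff (AlgSp.J S) hκ).1 hst)⟩
  let b := FibCat.fpSnd y f
  obtain ⟨I, E, hE⟩ : AlgSt.RepByAlgSp (FibCat.fp b c) :=
    repByAlgSp_of_equiv' (pasteComp_isEquivOver y f c)
      (repByAlgSp_fp_of_diag_toSelf hY.1 hΔ y (BasedFunctor.comp c f) (repByAlgSp_overCat U)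
        (repByAlgSp_overCat Z))
  let Φ : AlgSt.ofSp I.obj ⥤ᵇ AlgSt.ofSp F :=
    BasedFunctor.comp (BasedFunctor.comp E (FibCat.fpFst b c)) κ
  let π : I.obj ⟶ F := ObjectProperty.homMk (mapOfFun Φ)
  have key : ∀ P : MorphismProperty (AlgSp.Sp S), P.RespectsIso →
      AlgSt.RepByAlgSpWith P c → AlgSp.RepBySpWith P π.hom := fun P hP h =>
    have := hP
    (repBySpWith_iff P π.hom).2 (repWith_of_iso (isoOfPshMap Φ)
      ((repWith_comp_equiv_iff hκ).2 ((repWith_equiv_comp_iff hE).1 (repWith_fpFst b h))))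
  have := respectsIso_locP (S := S) @Flat
  have := respectsIso_locP (S := S) @LocallyOfFinitePresentation
  have := respectsIso_surjective (S := S)
  have g1 := (AlgSp.repBySpWith_hom_iff _ π).1 (key _ inferInstance hcs)
  have g2 := (AlgSp.repBySpWith_hom_iff _ π).1 (key _ inferInstance hcf)
  have g3 := (AlgSp.repBySpWith_hom_iff _ π).1 (key _ inferInstance hcp)
  have hF : AlgSp.IsAlgSpace F :=
    H12AlgSp.isAlgSpace_of_repBySp_fppf I.property π fun V ξ F' fst snd sq =>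
      ⟨(g1 ξ fst snd sq).1, (g1 ξ fst snd sq).2, (g2 ξ fst snd sq).2, (g3 ξ fst snd sq).2⟩
  exact repByAlgSp_of_equiv' hκ ⟨⟨F, hF⟩, BasedFunctor.id _, isEquivOver_id _⟩

/-- The trivial torsor of a point of the base sheaf, through the atlas. -/
lemma gpElt_atlas {T' T : Over S} (m : T' ⟶ T) (h : m ≫ toUnit T = toUnit T') :
    gpElt ((quotMap K₀ G (trivAction G)).map
      (X := ⟨T', ⟨toUnit T'⟩⟩) (Y := ⟨T, ⟨toUnit T⟩⟩) ⟨m, congrArg ULift.up h⟩) = 1 := by
  change (unitSec G T' ≫ (G ◁ m)) ≫ fst G T = 1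
  rw [Category.assoc, whiskerLeft_fst, lift_fst]

/-- A point with affine, flat, locally finitely presented automorphism group gives a monomorphism
from the classifying stack. -/
theorem exists_isMono_of_autRep [IsAffineHom G.hom] [Flat G.hom]
    [LocallyOfFinitePresentation G.hom] (h𝒳 : AlgSt.IsAlgStack K₀ 𝒳)
    (r : Gerb.AutRep x (Gerb.ptsGrp (Over.mk (𝟙 S) : Over S) G)) :
    ∃ F : AlgSt.BG K₀ G ⥤ᵇ 𝒳,
      AlgSt.IsMono F ∧
      Nonempty (BasedFunctor.comp (AlgSt.quotMap K₀ G (AlgSt.trivAction G)) F ≅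
        BasedFunctor.comp (AlgSt.toOverCat (Over.mk (𝟙 S) : Over S)) x) := by
  obtain ⟨F, hFf, hFt, v, hv, hvn⟩ := exists_ff_extension x h𝒳 r
  have hG : Stk.IsStack (QuotSh.J K₀ S) (AlgSt.BG K₀ G) := isStack_quotSt le_rfl inferInstance
  have h1 : AlgSt.RepByAlgSp1 F := repByAlgSp1_of_chart hG h𝒳.isStack h𝒳.diag F
    (atlas K₀ G (trivAction G)) (repWith_atlas_surjective le_rfl)
    (repWith_atlas_locP @Flat H12AlgSp.etLocal_flat le_rfl inferInstance)
    (repWith_atlas_locP @LocallyOfFinitePresentation H12AlgSp.etLocal_lfp le_rfl inferInstance)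
  refine ⟨F, isMono_of_ff h1, ?_⟩
  let U₀ : Over S := Over.mk (𝟙 S)
  have ha : ∀ a : (AlgSt.ofSch U₀).obj, a = ⟨a.base, ⟨toUnit a.base⟩⟩ := by
    rintro ⟨T, ⟨g⟩⟩
    obtain rfl : g = toUnit T := Over.mkIdTerminal.hom_ext _ _
    rfl
  have hc : ∀ T : Over S, (AlgSt.toOverCat U₀).obj ⟨T, ⟨toUnit T⟩⟩ = cT T := fun T =>
    congrArg Over.mk (Over.mkIdTerminal.hom_ext _ _)
  let w : ∀ a : (AlgSt.ofSch U₀).obj,
      x.obj ((AlgSt.toOverCat U₀).obj a) ⟶ F.obj ((quotMap K₀ G (trivAction G)).obj a) := fun a =>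
    eqToHom (congrArg x.obj ((congrArg (AlgSt.toOverCat U₀).obj (ha a)).trans (hc a.base))) ≫
      v a.base ≫ eqToHom (congrArg F.obj
        (congrArg (quotMap K₀ G (trivAction G)).obj (ha a)).symm)
  have hw : ∀ a, 𝒳.p.IsHomLift (𝟙 a.base) (w a) := by
    rintro ⟨T, ⟨g⟩⟩
    obtain rfl : g = toUnit T := Over.mkIdTerminal.hom_ext _ _
    have := hv T
    simp only [w, eqToHom_refl, Category.comp_id]
    infer_instance
  have hnat : ∀ {a b} (m : a ⟶ b), x.map ((AlgSt.toOverCat U₀).map m) ≫ w b =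
      w a ≫ F.map ((quotMap K₀ G (trivAction G)).map m) := by
    rintro ⟨Ta, ⟨ga⟩⟩ ⟨Tb, ⟨gb⟩⟩ m
    obtain rfl : ga = toUnit Ta := Over.mkIdTerminal.hom_ext _ _
    obtain rfl : gb = toUnit Tb := Over.mkIdTerminal.hom_ext _ _
    simp only [w, eqToHom_refl, Category.comp_id]
    let α : trivTors (G := G) Ta ⟶ trivTors Tb := (quotMap K₀ G (trivAction G)).map m
    have e := hvn α
    have hα : gpElt α = 1 := gpElt_atlas m.hom (congrArg ULift.down m.map_sec)
    rw [cmpMap, hα, inv_one, autAt_one, autO_one_hom, Category.id_comp] at e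
    have ec : (AlgSt.toOverCat U₀).map m ≫ eqToHom (hc Tb) = eqToHom (hc Ta) ≫ nT m.hom := by
      apply Over.OverMorphism.ext
      simp
      rfl
    have ec' := congrArg x.map ec
    rw [x.toFunctor.map_comp, x.toFunctor.map_comp, eqToHom_map, eqToHom_map] at ec'
    calc _ = (x.map ((AlgSt.toOverCat U₀).map m) ≫ eqToHom _) ≫ v Tb := (Category.assoc _ _ _).symm
      _ = (eqToHom _ ≫ x.map (nT m.hom)) ≫ v Tb := congrArg (· ≫ v Tb) ec'
      _ = eqToHom _ ≫ v Ta ≫ F.map α := (Category.assoc _ _ _).trans (congrArg _ e)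
      _ = _ := (Category.assoc _ _ _).symm
  have hiso : ∀ a, IsIso (w a) := fun a =>
    haveI := hw a
    isIso_of_fibGrpd h𝒳.isStack.1 (𝟙 a.base) (w a)
  let i : BasedFunctor.comp (AlgSt.toOverCat U₀) x ≅
      BasedFunctor.comp (quotMap K₀ G (trivAction G)) F :=
    mkIso (fun a => asIso (w a)) (fun m => hnat m) hw
  exact ⟨i.symm⟩

end Groth.Agent.H14Quot
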