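import Groth.Agent.H14Quot.QuotDiag
import Groth.Agent.H14Quot.Torsor
import Groth.Agent.H14AlgSt.SmoothTot
import Groth.Agent.H18Torsor.DiagExact
import Groth.Agent.H21Split.SmoothTorus
import Groth.Agent.S10542
import Groth.Agent.H14AlgSt.FieldPoint
import Mathlib.LinearAlgebra.FreeModule.PID

/-!
# The classifying stack of a finite diagonalisable group is smooth
-/

set_option autoImplicit false
set_option backward.isDefEq.respectTransparency false
set_option backward.isDefEq.respectTransparency.types false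

universe u

open CategoryTheory CategoryTheory.Limits MonoidalCategory CartesianMonoidalCategory MonObj GrpObj
open AlgebraicGeometry AlgSt
open AlgSp (yon)

noncomputable section

namespace Groth.Agent.H14Quot

open H14Fib H14Stk H14AlgSt H12AlgSp

local notation "K₀" => Scheme.fppfPrecoverage

variable {S : Scheme.{u}} {G Q U : Over S} [GrpObj G] [GrpObj Q] [GrpObj U]
  (i : G ⟶ Q) [IsMonHom i] [Mono i] (v : Q ⟶ U) [IsMonHom v]

omit [Mono i] in
/-- A subgroup acts by left translations. -/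
def subAct : AlgGrp.Action G Q where
  act := (i ▷ Q) ≫ μ[Q]
  one_act := by
    rw [← comp_whiskerRight_assoc, IsMonHom.one_hom, MonObj.one_mul]
  mul_act := by
    have hl : ∀ {T : Over S} (g : T ⟶ G) (q : T ⟶ Q),
        lift g q ≫ (i ▷ Q) ≫ μ[Q] = (g ≫ i) * q := fun g q => by
      rw [lift_whiskerRight_assoc, ← Hom.mul_def]
    have e1 : μ[G] ▷ Q = lift (fst (G ⊗ G) Q ≫ μ[G]) (snd _ _) := by
      apply CartesianMonoidalCategory.hom_ext <;> simp
    have e2 : (α_ G G Q).hom ≫ G ◁ ((i ▷ Q) ≫ μ[Q]) = lift (fst (G ⊗ G) Q ≫ fst G G)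
        (lift (fst (G ⊗ G) Q ≫ snd G G) (snd _ _) ≫ (i ▷ Q) ≫ μ[Q]) := by
      apply CartesianMonoidalCategory.hom_ext
      · simp
      · rw [Category.assoc, whiskerLeft_snd, lift_snd, ← Category.assoc]
        congr 1
        apply CartesianMonoidalCategory.hom_ext <;> simp
    rw [e1, hl, reassoc_of% e2, hl, hl, MonObj.mul_eq_mul, Category.assoc, MonObj.mul_comp,
      MonObj.comp_mul, Category.assoc, Category.assoc, _root_.mul_assoc]

omit [Mono i] in
lemma comp_subAct {T : Over S} (g : T ⟶ G) (q : T ⟶ Q) :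
    lift g q ≫ (subAct i).act = (g ≫ i) * q := by
  change lift g q ≫ (i ▷ Q) ≫ μ[Q] = _
  rw [lift_whiskerRight_assoc, ← Hom.mul_def]

lemma subAct_cart (hiv : i ≫ v = 1) (hker : ∀ {T : Over S} (x : T ⟶ Q), x ≫ v = 1 → ∃ z, z ≫ i = x) :
    IsPullback (subAct i).act (snd G Q) v v := by
  have hw : (subAct i).act ≫ v = snd G Q ≫ v := by
    rw [← Category.id_comp (subAct i).act, ← lift_fst_snd, comp_subAct, MonObj.mul_comp,
      Category.assoc, hiv, MonObj.comp_one, _root_.one_mul]
  refine IsPullback.of_isLimit' ⟨hw⟩ (PullbackCone.IsLimit.mk hw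
    (fun s => lift (hker (s.fst * s.snd⁻¹) (by
      rw [MonObj.mul_comp, GrpObj.inv_comp, s.condition, mul_inv_cancel])).choose s.snd)
    (fun s => ?_) (fun s => lift_snd _ _) (fun s m h₁ h₂ => ?_))
  · rw [comp_subAct]
    generalize_proofs hz
    rw [hz.choose_spec, inv_mul_cancel_right]
  · refine CartesianMonoidalCategory.hom_ext _ _ ?_ (by rw [lift_snd, h₂])
    rw [lift_fst, ← cancel_mono i]
    generalize_proofs hz
    have e : m = lift (m ≫ fst G Q) (m ≫ snd G Q) := by
      rw [← comp_lift, lift_fst_snd, Category.comp_id]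
    have h₃ : (m ≫ fst G Q ≫ i) * s.snd = s.fst := by
      rw [← h₁, ← h₂, e, comp_subAct]
      simp only [Category.assoc, lift_fst_assoc, lift_snd]
    rw [hz.choose_spec, ← h₃, mul_inv_cancel_right, Category.assoc]

/-- The torsor of a fppf homomorphism. -/
def kerTorsor (hiv : i ≫ v = 1) (hker : ∀ {T : Over S} (x : T ⟶ Q), x ≫ v = 1 → ∃ z, z ≫ i = x)
    (hv : Presieve.singleton v.left ∈ K₀ U.left) :
    (AlgSt.BG K₀ G).obj where
  base := U
  P := Q
  act := subAct i
  π := v
  cart := subAct_cart i v hiv hker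
  loc := ⟨_, hv, fun S' f hf => by
    cases hf
    exact ⟨𝟙 _, Category.id_comp _⟩⟩
  φ := toUnit Q
  eqv := toUnit_unique _ _

omit [GrpObj G] [GrpObj Q] [GrpObj U] in
lemma baseStable_surj : BaseStable (S := S) AlgSp.IsSurjectiveMor := by
  intro X₁ Y₁ X₂ Y₂ _ _ _ _ a b a' b' sq h y
  obtain ⟨x, hx⟩ := h (AlgSp.Points.map b y)
  obtain ⟨w, -, hw⟩ := exists_point_of_isPullback sq x y hx
  exact ⟨w, hw⟩

include i v in
/-- A smooth group with a flat subgroup and smooth quotient gives a smooth chart. -/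
theorem locQ_smooth_BG [IsAffineHom G.hom] [Flat G.hom] [LocallyOfFinitePresentation G.hom]
    [Smooth Q.hom] [Smooth U.hom] (hiv : i ≫ v = 1)
    (hker : ∀ {T : Over S} (x : T ⟶ Q), x ≫ v = 1 → ∃ z, z ≫ i = x)
    (hv : Presieve.singleton v.left ∈ K₀ U.left) :
    AlgSt.LocQ (AlgSp.LocP @Smooth) (FibCat.toSelf (AlgSt.BG K₀ G)) := by
  have hst : Stk.IsStack (QuotSh.J K₀ S) (AlgSt.BG K₀ G) := isStack_quotSt le_rfl inferInstance
  have hΔ : AlgSt.RepByAlgSp1 (FibCat.diag (FibCat.toSelf (AlgSt.BG K₀ G))) :=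
    repByAlgSp1_of_with (repWith_diag_affine (aX := AlgSt.trivAction G) le_rfl inferInstance inferInstance
      inferInstance (inferInstanceAs (IsAffineHom (pullback.diagonal (𝟙 S)))))
  have := isFibered_of_fibGrpd hst.1
  let A : (AlgSt.BG K₀ G).obj := kerTorsor i v hiv hker hv
  obtain ⟨x, j₀, -, -⟩ := exists_fromOver (U := U) (x := A) rfl
  have hx1 : AlgSt.RepByAlgSp1 x := repByAlgSp1_of_diag hst.1 hΔ (repByAlgSp_overCat U) x
  let P : Over S := (top x).P
  let E : AlgSt.ofSch P ⥤ᵇ FibCat.fp (atlas K₀ G (AlgSt.trivAction G)) x :=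
    BasedFunctor.comp (BasedFunctor.comp (toOverCat P) (ptFun x))
      (fpSwap x (atlas K₀ G (AlgSt.trivAction G)))
  have hE : FibCat.IsEquivOver E :=
    isEquivOver_comp (isEquivOver_comp (toOverCat_isEquivOver _) (ptFun_isEquivOver x))
      (fpSwap_isEquivOver _ _)
  let t : P ⟶ 𝟙_ (Over S) := toUnit P
  have ht : AlgSp.LocP @Smooth ((yon S).map t) := by
    refine (locP_yon_iff etLocal_smooth t).2 ?_
    have ej : (top x).P ≅ Q :=
      { hom := j₀.hom.top
        inv := j₀.inv.top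
        hom_inv_id := congrArg (fun k => k.top) j₀.hom_inv_id
        inv_hom_id := congrArg (fun k => k.top) j₀.inv_hom_id }
    have : IsIso ej.hom.left := inferInstanceAs (IsIso ((Over.forget S).map ej.hom))
    have hP : Smooth P.hom := by
      have : Smooth (ej.hom.left ≫ Q.hom) := inferInstance
      rw [Over.w] at this
      exact this
    have e : t.left = P.hom := (Category.comp_id _).symm.trans (Over.w t)
    rw [e]
    exact hP
  have h1 : AlgSt.spMapOfOver (BasedFunctor.comp E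
      (FibCat.fpFst (atlas K₀ G (AlgSt.trivAction G)) x)) = (yon S).map t := by
    have hm := ((yon S).map_preimage (AlgSt.spMapOfOver (BasedFunctor.comp E
      (FibCat.fpFst (atlas K₀ G (AlgSt.trivAction G)) x)))).symm
    rw [hm]
    exact congrArg (yon S).map (toUnit_unique _ _)
  have hxs : AlgSt.RepByAlgSpWith (AlgSp.LocP @Smooth) x := by
    refine repWith_of_fppf (localFppf_of_fpqc (S10542.result S)) (sourceIsoInv_locP _) hx1
      (w := atlas K₀ G (AlgSt.trivAction G))
      (repWith_atlas_locP @Flat etLocal_flat le_rfl inferInstance)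
      (repWith_atlas_locP @LocallyOfFinitePresentation etLocal_lfp le_rfl inferInstance)
      (repWith_atlas_surjective le_rfl) ?_
    refine repWith_fpFst_of_data (baseStable_locP etLocal_smooth) (atlas K₀ G (AlgSt.trivAction G))
      (G := ⟨(yon S).obj P, AlgSp.IsAlgSpace.yon_obj P⟩) (e := E) hE ?_
    rw [h1]
    exact ht
  let h : U ⟶ baseObj S := Over.homMk U.hom (Category.comp_id _)
  refine ⟨U, baseObj S, x, FibCat.toSelf (FibCat.overCat (baseObj S)), h,
    eqToIso ((comp_toSelf x).trans (comp_toSelf (AlgSt.overMap h)).symm), hxs, ?_,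
    repWith_toSelf_base.1, (locP_yon_iff etLocal_smooth h).2 (inferInstanceAs (Smooth U.hom))⟩
  have hF : AlgSt.RepByAlgSpWith AlgSp.IsSurjectiveMor
      (FibCat.fpFst (atlas K₀ G (AlgSt.trivAction G)) x) := by
    refine repWith_fpFst_of_data baseStable_surj (atlas K₀ G (AlgSt.trivAction G))
      (G := ⟨(yon S).obj P, AlgSp.IsAlgSpace.yon_obj P⟩) (e := E) hE ?_
    rw [h1]
    have : Surjective t.left := ⟨fun s => ⟨(η[Q] ≫ j₀.inv.top).left s, by
      change ((η[Q] ≫ j₀.inv.top).left ≫ t.left) s = s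
      rw [← Over.comp_left, toUnit_unique (_ ≫ t) (𝟙 _)]
      rfl⟩⟩
    exact surjective_map_of_repWith le_rfl ((AlgSp.repWith_yon_map_iff @Surjective t).2 this)
  refine repWith_surjective_of_points (fibGrpd_overCat U) hst.1 hx1 fun q => ?_
  obtain ⟨p, rfl⟩ := surjective_of_repWith hst.1 (repWith_atlas_surjective (G := G)
    (aX := AlgSt.trivAction G) le_rfl) q
  obtain ⟨w, rfl⟩ := surjective_of_repWith (fibGrpd_overCat _) hF p
  refine ⟨AlgSt.Points.map (FibCat.fpSnd (atlas K₀ G (AlgSt.trivAction G)) x) w, ?_⟩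
  rw [← points_map_comp, ← points_map_iso (FibCat.fpIso (atlas K₀ G (AlgSt.trivAction G)) x),
    points_map_comp]

include i v in
omit [Mono i] in
lemma mem_fppf_singleton (h1 : Flat v.left) (h2 : LocallyOfFinitePresentation v.left)
    (h3 : Surjective v.left) : Presieve.singleton v.left ∈ K₀ U.left := by
  exact (Scheme.singleton_mem_precoverage_iff _ _).2 ⟨h3.surj, h1, h2⟩

/-- The classifying stack of a diagonalisable group with finitely generated characters. -/
theorem locQ_smooth_BG_diag (k : Type u) [Field k] {M Λ : Type} [AddCommGroup M] [AddCommGroup Λ]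
    [Module.Free ℤ Λ] [Module.Finite ℤ Λ] {n : ℕ} (φ : Λ →+ (Fin n → ℤ)) (ψ : (Fin n → ℤ) →+ M)
    (hφ : Function.Injective φ) (hψ : Function.Surjective ψ) (h0 : ∀ m, ψ (φ m) = 0)
    (hex : ∀ a, ψ a = 0 → ∃ m, φ m = a)
    [IsAffineHom (Red.diag k M).hom] [Flat (Red.diag k M).hom]
    [LocallyOfFinitePresentation (Red.diag k M).hom] :
    AlgSt.LocQ (AlgSp.LocP @Smooth) (FibCat.toSelf (AlgSt.BG K₀ (Red.diag k M))) := by
  let i : Red.diag k M ⟶ Red.DS (Spec (CommRingCat.of k)) (Fin n → ℤ) :=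
    H21Diag.diagToDS k M ≫ Red.DSmap (Spec (CommRingCat.of k)) ψ
  have : Mono (Red.DSmap (Spec (CommRingCat.of k)) ψ) := H18Torsor.DiagExact.mono_DSmap ψ hψ
  have : IsIso (H21Diag.diagToDS k M) := H21Diag.isIso_diagToDS k M
  have : Mono i := mono_comp _ _
  have : IsMonHom i := inferInstance
  have : Smooth (Red.DS (Spec (CommRingCat.of k)) (Fin n → ℤ)).hom := H21Split.smooth_DS _
  have : Smooth (Red.DS (Spec (CommRingCat.of k)) Λ).hom := H21Split.smooth_DS _
  refine locQ_smooth_BG i (Red.DSmap (Spec (CommRingCat.of k)) φ) ?_ ?_ ?_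
  · have h := (H18Torsor.DiagExact.isExactSeq (S := Spec (CommRingCat.of k)) ⊤ φ ψ hψ h0 hex
      trivial).2.2.1
    rw [Category.assoc, h, MonObj.comp_one]
  · intro T x hx
    obtain ⟨z, hz⟩ := H18Torsor.DiagExact.exists_lift_kernel φ ψ hψ hex x hx
    exact ⟨z ≫ inv (H21Diag.diagToDS k M), by rw [Category.assoc, IsIso.inv_hom_id_assoc, hz]⟩
  · have : AddGroup.FG Λ := Module.Finite.iff_addGroup_fg.mp inferInstance
    exact mem_fppf_singleton i _ (H21Diag.flat_surjective_DSmap _ φ hφ).1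
      (H18Torsor.DiagExact.locallyOfFinitePresentation_DSmap φ)
      (H21Diag.flat_surjective_DSmap _ φ hφ).2

end Groth.Agent.H14Quot
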