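import Groth.Agent.H14Quot.Factor
import Groth.Agent.H14AlgSt.Basic
import Groth.Prelude.Def_StCoarse
import Groth.Prelude.Def_W4bk4git07Quot

/-!
# Categorical quotients and categorical moduli spaces of `[X/G]`
-/

set_option autoImplicit false
set_option backward.isDefEq.respectTransparency false
set_option backward.isDefEq.respectTransparency.types false

universe u

open CategoryTheory CategoryTheory.Limits MonoidalCategory CartesianMonoidalCategory MonObj GrpObj
open AlgebraicGeometry AlgSt Opposite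
open AlgSp (yon J)

namespace Groth.Agent.H14Quot

open H14Fib H14Stk H14AlgSt

variable {S : Scheme.{u}} {Q : AlgSp.Sp S}

/-- Isomorphic functors to the category of a sheaf are equal. -/
lemma eq_of_iso_ofSp {𝒳 : AlgSt.Cat S} {F F' : 𝒳 ⥤ᵇ ofSp Q} (i : F ≅ F') : F = F' := by
  have hobj : ∀ a, F.obj a = F'.obj a := fun a => by
    refine (elt_eq_mk (F.obj a) (F.w_obj a)).trans (Eq.trans ?_ (elt_eq_mk (F'.obj a) (F'.w_obj a)).symm)
    have hm : (app i.hom a).hom =
        eqToHom (F.w_obj a) ≫ 𝟙 _ ≫ eqToHom (F'.w_obj a).symm := by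
      rw [app_hom_eq, Category.id_comp, eqToHom_trans]
    have h := secYon_map (app i.hom a) (F.w_obj a) (F'.w_obj a) (𝟙 _) hm
    rw [CategoryTheory.Functor.map_id, Category.id_comp] at h
    rw [h]
  refine basedFunctor_ext (CategoryTheory.Functor.ext hobj fun a b m => ?_)
  apply Stk.EltObj.hom_ext
  refine Eq.trans ?_ (elt_hom_conj (Q := Q) _ _ _).symm
  rw [map_hom_eq F m, map_hom_eq F' m]
  simp

variable {K : Precoverage Scheme.{u}} [K.HasIsos] {G : Over S} [GrpObj G] {X : Over S}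
  {aX : AlgGrp.Action G X}

lemma triv_snd_sec :
    (lift (fst G X) (𝟙 (G ⊗ X)) : G ⊗ X ⟶ (triv K G aX (snd G X)).P) ≫
      (triv K G aX (snd G X)).φ = aX.act := by
  change lift (fst G X) (𝟙 (G ⊗ X)) ≫ (G ◁ snd G X) ≫ aX.act = aX.act
  rw [lift_whiskerLeft_assoc, Category.id_comp, lift_fst_snd, Category.id_comp]

/-- The map to a sheaf given by a functor on the quotient is invariant. -/
lemma invariant_of_functor {ψ : QuotSt K G aX ⥤ᵇ ofSp Q} {g : (yon S).obj X ⟶ Q}
    (h : BasedFunctor.comp (quotMap K G aX) ψ = ofSpMap g) :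
    (yon S).map aX.act ≫ g = (yon S).map (snd G X) ≫ g := by
  have hobj : ∀ x : G ⊗ X ⟶ X,
      secYon (ψ.obj (triv K G aX x)) (ψ.w_obj _) = (yon S).map x ≫ g := fun x => by
    have h' : ψ.obj (triv K G aX x) = (ofSpMap g).obj ((ofOverCat X).obj (Over.mk x)) :=
      congrArg (fun F : ofSch X ⥤ᵇ ofSp Q => F.obj ((ofOverCat X).obj (Over.mk x))) h
    rw [secYon_congr h' _ (rfl : _ = G ⊗ X), secYon, eqToHom_refl, CategoryTheory.Functor.map_id,
      Category.id_comp]
    apply (J S).uliftYonedaEquiv.injective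
    rw [Equiv.apply_symm_apply, GrothendieckTopology.uliftYonedaEquiv_comp,
      GrothendieckTopology.uliftYonedaEquiv_uliftYoneda_map]
    rfl
  let m : triv K G aX aX.act ⟶ triv K G aX (snd G X) :=
    homOfSec (lift (fst G X) (𝟙 (G ⊗ X))) triv_snd_sec
  have hb : m.base = 𝟙 (G ⊗ X) := lift_snd _ _
  have hm : (ψ.map m).hom =
      eqToHom (ψ.w_obj _) ≫ 𝟙 (G ⊗ X) ≫ eqToHom (ψ.w_obj _).symm := by
    rw [← hb]; exact Functor.congr_hom ψ.w m
  have := secYon_map (ψ.map m) (ψ.w_obj (triv K G aX aX.act)) (ψ.w_obj _) (𝟙 (G ⊗ X)) hm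
  erw [CategoryTheory.Functor.map_id, Category.id_comp] at this
  rw [hobj, hobj] at this
  exact this.symm

/-- The map to a sheaf underlying a functor on the quotient. -/
noncomputable def mapOfQuot (ψ : QuotSt K G aX ⥤ᵇ ofSp Q) : (yon S).obj X ⟶ Q :=
  ObjectProperty.homMk (mapOfFun (BasedFunctor.comp (quotMap K G aX) ψ))

lemma comp_quotMap_eq (ψ : QuotSt K G aX ⥤ᵇ ofSp Q) :
    BasedFunctor.comp (quotMap K G aX) ψ = ofSpMap (mapOfQuot ψ) :=
  eq_of_iso_ofSp (isoOfPshMap _)

lemma ofSpMap_injective {P : AlgSp.Sp S} {a b : P ⟶ Q} (h : ofSpMap a = ofSpMap b) : a = b :=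
  ObjectProperty.hom_ext _ (ofPshMap_injective (eqToIso h))

/-- Functors on the quotient are determined by their restriction to the scheme. -/
lemma quot_functor_ext (hK : K ≤ Scheme.fppfPrecoverage) {ψ ψ' : QuotSt K G aX ⥤ᵇ ofSp Q}
    (h : BasedFunctor.comp (quotMap K G aX) ψ = BasedFunctor.comp (quotMap K G aX) ψ') : ψ = ψ' :=
  (existsUnique_factor hK (mapOfQuot ψ) (invariant_of_functor (comp_quotMap_eq ψ))).unique
    (comp_quotMap_eq ψ) (h.symm.trans (comp_quotMap_eq ψ))

lemma ofSpMap_comp {A B C : AlgSp.Sp S} (a : A ⟶ B) (b : B ⟶ C) :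
    ofSpMap (a ≫ b) = BasedFunctor.comp (ofSpMap a) (ofSpMap b) := rfl

/-- Categorical moduli spaces in schemes of `[X/G]` are categorical quotients. -/
theorem isCatModuliSch_iff (hK : K ≤ Scheme.fppfPrecoverage) {Y : Over S} (f : X ⟶ Y)
    (π : QuotSt K G aX ⥤ᵇ ofSch Y)
    (hπ : Nonempty (BasedFunctor.comp (quotMap K G aX) π ≅ ofSpMap ((yon S).map f))) :
    IsCatModuliSch π ↔ GIT.IsCatQuot aX f := by
  have hπ' : BasedFunctor.comp (quotMap K G aX) π = ofSpMap ((yon S).map f) :=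
    eq_of_iso_ofSp hπ.some
  have hrep : ∀ Z : Over S, ((yon S).obj Z).obj.IsRepresentable := fun Z =>
    (AlgSp.representableByOfIso (Iso.refl ((yon S).obj Z))).isRepresentable
  have hcomp : ∀ {N : AlgSp.Sp S} (h : (yon S).obj Y ⟶ N),
      BasedFunctor.comp (quotMap K G aX) (BasedFunctor.comp π (ofSpMap h)) =
        ofSpMap ((yon S).map f ≫ h) := fun h => by
    rw [← BasedFunctor.comp_assoc, hπ', ofSpMap_comp]
  constructor
  · intro hc
    refine ⟨(yon S).map_injective ?_, fun Z ψ hψ => ?_⟩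
    · rw [Functor.map_comp, Functor.map_comp]
      exact invariant_of_functor hπ'
    have hψ' : (yon S).map aX.act ≫ (yon S).map ψ = (yon S).map (snd G X) ≫ (yon S).map ψ := by
      rw [← Functor.map_comp, ← Functor.map_comp, hψ]
    obtain ⟨φ, hφ, -⟩ := existsUnique_factor hK ((yon S).map ψ) hψ'
    obtain ⟨g, ⟨ig⟩, hu⟩ := hc.2 _ (hrep Z) φ
    obtain ⟨χ, rfl⟩ := (yon S).map_surjective g
    refine ⟨χ, ?_, fun χ' hχ' => (yon S).map_injective (hu _ ⟨eqToIso ?_⟩)⟩
    · apply (yon S).map_injective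
      apply ofSpMap_injective
      rw [Functor.map_comp, ← hcomp, eq_of_iso_ofSp ig, hφ]
    · refine quot_functor_ext hK ?_
      rw [hcomp, hφ, ← Functor.map_comp, hχ']
  · intro hc
    refine ⟨hrep Y, fun N hN φ => ?_⟩
    obtain ⟨Z, ⟨er⟩⟩ := hN.has_representation
    let i := (AlgSp.isoOfRepresentableBy er).hom
    let g := mapOfQuot φ
    have hg := invariant_of_functor (comp_quotMap_eq φ)
    obtain ⟨ψ, hψ⟩ := (yon S).map_surjective (g ≫ inv i)
    have hinv : GIT.IsInvariant aX ψ := (yon S).map_injective (by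
      rw [Functor.map_comp, Functor.map_comp, hψ, ← Category.assoc, hg, Category.assoc])
    obtain ⟨χ, hχ, huniq⟩ := hc.2 Z ψ hinv
    have hfg : (yon S).map f ≫ (yon S).map χ ≫ i = g := by
      rw [← Functor.map_comp_assoc, hχ, hψ, Category.assoc, IsIso.inv_hom_id, Category.comp_id]
    refine ⟨(yon S).map χ ≫ i, ⟨eqToIso (quot_functor_ext hK ?_)⟩, fun h ⟨ih⟩ => ?_⟩
    · rw [hcomp, hfg, ← comp_quotMap_eq φ]
    · have e := congrArg (BasedFunctor.comp (quotMap K G aX)) (eq_of_iso_ofSp ih)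
      rw [hcomp, comp_quotMap_eq φ] at e
      have e' := ofSpMap_injective e
      obtain ⟨χ', hχ'⟩ := (yon S).map_surjective (h ≫ inv i)
      have : f ≫ χ' = ψ := (yon S).map_injective (by
        rw [Functor.map_comp, hχ', hψ, ← Category.assoc, e'])
      rw [← huniq χ' this, hχ', Category.assoc, IsIso.inv_hom_id, Category.comp_id]

end Groth.Agent.H14Quot
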