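import Groth.Agent.H14Quot.QuotStack
import Groth.Agent.H14Quot.Yon

/-!
# Invariant morphisms factor uniquely through the quotient category
-/

set_option autoImplicit false
set_option backward.isDefEq.respectTransparency false
set_option backward.isDefEq.respectTransparency.types false

universe u

open CategoryTheory CategoryTheory.Limits MonoidalCategory CartesianMonoidalCategory MonObj GrpObj
open AlgebraicGeometry AlgSt Opposite
open AlgSp (yon J)

namespace Groth.Agent.H14Quot

section Elt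

variable {S : Scheme.{u}} {Q : AlgSp.Sp S}

/-- The morphism of sheaves defined by an object of the category of a sheaf. -/
noncomputable def secYon (a : (ofSp Q).obj) {T : Over S} (h : a.base = T) : (yon S).obj T ⟶ Q :=
  (yon S).map (eqToHom h.symm) ≫ (J S).uliftYonedaEquiv.symm a.sec

lemma secYon_congr {a b : (ofSp Q).obj} (e : a = b) {T : Over S} (ha : a.base = T)
    (hb : b.base = T) : secYon a ha = secYon b hb := by
  subst e; rfl

lemma secYon_mk {T : Over S} (x : (yon S).obj T ⟶ Q) (h : T = T) :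
    secYon (⟨T, (J S).uliftYonedaEquiv x⟩ : (ofSp Q).obj) h = x := by
  rw [secYon, eqToHom_refl, CategoryTheory.Functor.map_id, Category.id_comp,
    Equiv.symm_apply_apply]

lemma elt_eq_mk (a : (ofSp Q).obj) {T : Over S} (h : a.base = T) :
    a = (⟨T, (J S).uliftYonedaEquiv (secYon a h)⟩ : (ofSp Q).obj) := by
  subst h
  rw [secYon, eqToHom_refl, CategoryTheory.Functor.map_id, Category.id_comp,
    Equiv.apply_symm_apply]

lemma secYon_map {a b : (ofSp Q).obj} (m : a ⟶ b) {T T' : Over S} (ha : a.base = T)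
    (hb : b.base = T') (g : T ⟶ T') (hm : m.hom = eqToHom ha ≫ g ≫ eqToHom hb.symm) :
    (yon S).map g ≫ secYon b hb = secYon a ha := by
  subst ha hb
  simp only [eqToHom_refl, Category.id_comp, Category.comp_id] at hm
  subst hm
  apply (J S).uliftYonedaEquiv.injective
  rw [← equiv_map]
  simp only [secYon, eqToHom_refl, CategoryTheory.Functor.map_id, Category.id_comp,
    Equiv.apply_symm_apply]
  exact m.map_sec

lemma elt_hom_conj {a a' b b' : (ofSp Q).obj} (ha : a = a') (m : a' ⟶ b') (hb : b' = b) :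
    (eqToHom ha ≫ m ≫ eqToHom hb).hom = eqToHom (congrArg Stk.EltObj.base ha) ≫ m.hom ≫
      eqToHom (congrArg Stk.EltObj.base hb) := by
  subst ha hb; simp

end Elt

lemma basedFunctor_ext {S : Type*} [Category S] {𝒳 𝒴 : BasedCategory S} {F F' : 𝒳 ⥤ᵇ 𝒴}
    (h : F.toFunctor = F'.toFunctor) : F = F' := by
  cases F; cases F'; cases h; rfl

variable {S : Scheme.{u}} {K : Precoverage Scheme.{u}} {G : Over S} [GrpObj G] {X : Over S}
  {aX : AlgGrp.Action G X} {Q : AlgSp.Sp S}

/-- The sieve of morphisms which lift to the torsor. -/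
def liftSieve (A : QuotObj K G aX) : Sieve A.base where
  arrows W g := ∃ σ : W ⟶ A.P, σ ≫ A.π = g
  downward_closed := by
    rintro W W' g ⟨σ, rfl⟩ k
    exact ⟨k ≫ σ, Category.assoc _ _ _⟩

lemma liftSieve_mem (hK : K ≤ Scheme.fppfPrecoverage) (A : QuotObj K G aX) :
    liftSieve A ∈ J S A.base := by
  obtain ⟨R, hR, hs⟩ := A.loc
  obtain ⟨κ, Z, g, rfl⟩ := Presieve.exists_eq_ofArrows R
  refine mem_J_of_family hK hR fun i => ?_
  obtain ⟨s, hsg⟩ := hs (g i) ⟨i⟩
  change s ≫ A.π.left = g i at hsg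
  refine ⟨Over.homMk s ?_, Over.OverMorphism.ext hsg⟩
  change s ≫ A.P.hom = g i ≫ A.base.hom
  rw [← hsg, Category.assoc, Over.w A.π]

lemma hom_ext_torsor (hK : K ≤ Scheme.fppfPrecoverage) (A : QuotObj K G aX)
    {a b : (yon S).obj A.base ⟶ Q} (h : (yon S).map A.π ≫ a = (yon S).map A.π ≫ b) : a = b := by
  refine yon_ext (liftSieve_mem hK A) ?_
  rintro W g ⟨σ, rfl⟩
  rw [Functor.map_comp, Category.assoc, Category.assoc, h]

lemma exists_desc (hK : K ≤ Scheme.fppfPrecoverage) (A : QuotObj K G aX)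
    (f : (yon S).obj X ⟶ Q)
    (hf : (yon S).map aX.act ≫ f = (yon S).map (snd G X) ≫ f) :
    ∃ s : (yon S).obj A.base ⟶ Q, (yon S).map A.π ≫ s = (yon S).map A.φ ≫ f := by
  have key : ∀ {W : Over S} (σ τ : W ⟶ A.P), σ ≫ A.π = τ ≫ A.π →
      (yon S).map (σ ≫ A.φ) ≫ f = (yon S).map (τ ≫ A.φ) ≫ f := by
    intro W σ τ h
    obtain ⟨k, hk₁, hk₂⟩ : ∃ k, k ≫ A.act.act = σ ∧ k ≫ snd G A.P = τ :=
      ⟨A.cart.lift σ τ h, A.cart.lift_fst _ _ _, A.cart.lift_snd _ _ _⟩
    rw [← hk₁, ← hk₂, Category.assoc, A.eqv, ← Category.assoc k (G ◁ A.φ), Functor.map_comp,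
      Category.assoc, hf, ← Category.assoc, ← Functor.map_comp, Category.assoc,
      whiskerLeft_snd, ← Category.assoc]
  obtain ⟨s, hs⟩ := yon_glue (liftSieve_mem hK A)
    (fun W g hg => (yon S).map (hg.choose ≫ A.φ) ≫ f)
    (fun W W' k g hg => by
      rw [← Category.assoc, ← Functor.map_comp, ← Category.assoc]
      apply key
      rw [Category.assoc, hg.choose_spec, ((liftSieve A).downward_closed hg k).choose_spec])
  refine ⟨s, ?_⟩
  have hπ : liftSieve A A.π := ⟨𝟙 _, Category.id_comp _⟩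
  rw [hs A.π hπ]
  refine (key hπ.choose (𝟙 _) (by rw [hπ.choose_spec, Category.id_comp])).trans ?_
  rw [Category.id_comp]

/-- The value of an invariant morphism on an object of the quotient. -/
noncomputable def descSec (hK : K ≤ Scheme.fppfPrecoverage) (f : (yon S).obj X ⟶ Q)
    (hf : (yon S).map aX.act ≫ f = (yon S).map (snd G X) ≫ f) (A : QuotObj K G aX) :
    (yon S).obj A.base ⟶ Q :=
  (exists_desc hK A f hf).choose

lemma descSec_spec (hK : K ≤ Scheme.fppfPrecoverage) (f : (yon S).obj X ⟶ Q)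
    (hf : (yon S).map aX.act ≫ f = (yon S).map (snd G X) ≫ f) (A : QuotObj K G aX) :
    (yon S).map A.π ≫ descSec hK f hf A = (yon S).map A.φ ≫ f :=
  (exists_desc hK A f hf).choose_spec

lemma descSec_nat (hK : K ≤ Scheme.fppfPrecoverage) (f : (yon S).obj X ⟶ Q)
    (hf : (yon S).map aX.act ≫ f = (yon S).map (snd G X) ≫ f) {A B : QuotObj K G aX}
    (m : A ⟶ B) : (yon S).map m.base ≫ descSec hK f hf B = descSec hK f hf A := by
  apply hom_ext_torsor hK A
  rw [← Category.assoc, ← Functor.map_comp, ← m.cart.w, Functor.map_comp, Category.assoc,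
    descSec_spec, descSec_spec, ← Category.assoc, ← Functor.map_comp, m.wφ]

/-- The functor induced by an invariant morphism. -/
noncomputable def descFun (hK : K ≤ Scheme.fppfPrecoverage) (f : (yon S).obj X ⟶ Q)
    (hf : (yon S).map aX.act ≫ f = (yon S).map (snd G X) ≫ f) :
    QuotSt K G aX ⥤ᵇ ofSp Q where
  toFunctor :=
    { obj := fun A => ⟨A.base, (J S).uliftYonedaEquiv (descSec hK f hf A)⟩
      map := fun {A B} m => ⟨m.base, by rw [equiv_map, descSec_nat hK f hf m]⟩ }
  w := rfl

variable [K.HasIsos]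

/-- An invariant morphism factors uniquely through the quotient category. -/
theorem existsUnique_factor (hK : K ≤ Scheme.fppfPrecoverage) (f : (yon S).obj X ⟶ Q)
    (hf : (yon S).map aX.act ≫ f = (yon S).map (snd G X) ≫ f) :
    ∃! ψ : QuotSt K G aX ⥤ᵇ ofSp Q,
      BasedFunctor.comp (quotMap K G aX) ψ = ofSpMap f := by
  refine ⟨descFun hK f hf, ?_, fun ψ hψ => ?_⟩
  · refine basedFunctor_ext (CategoryTheory.Functor.ext (fun a => ?_) fun a b m => ?_)
    · obtain ⟨T, ⟨x⟩⟩ := a
      change (⟨T, (J S).uliftYonedaEquiv (descSec hK f hf (triv K G aX x))⟩ : (ofSp Q).obj) =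
        ⟨T, f.hom.app (op T) ⟨x⟩⟩
      congr 1
      have e : descSec hK f hf (triv K G aX x) = (yon S).map x ≫ f := by
        apply hom_ext_torsor hK (triv K G aX x)
        rw [descSec_spec]
        change (yon S).map ((G ◁ x) ≫ aX.act) ≫ f = (yon S).map (snd G T) ≫ (yon S).map x ≫ f
        rw [Functor.map_comp, Category.assoc, hf, ← Category.assoc, ← Functor.map_comp,
          whiskerLeft_snd, Functor.map_comp, Category.assoc]
      rw [e, GrothendieckTopology.uliftYonedaEquiv_comp,
        GrothendieckTopology.uliftYonedaEquiv_uliftYoneda_map]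
    · apply Stk.EltObj.hom_ext
      refine Eq.trans ?_ (elt_hom_conj (Q := Q) _ _ _).symm
      exact ((congrArg (_ ≫ ·) (Category.comp_id _)).trans (Category.id_comp _)).symm
  · have hobj : ∀ A, ψ.obj A = (descFun hK f hf).obj A := fun A => by
      refine (elt_eq_mk (ψ.obj A) (ψ.w_obj A)).trans ?_
      suffices h : secYon (ψ.obj A) (ψ.w_obj A) = descSec hK f hf A by rw [h]; rfl
      apply hom_ext_torsor hK A
      let m : triv K G aX A.φ ⟶ A := homOfSec (𝟙 A.P) (Category.id_comp _)
      have hb : m.base = A.π := Category.id_comp _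
      have hm : (ψ.map m).hom = eqToHom (ψ.w_obj _) ≫ A.π ≫ eqToHom (ψ.w_obj A).symm := by
        rw [← hb]; exact Functor.congr_hom ψ.w m
      have hobj' : ψ.obj (triv K G aX A.φ) =
          (ofSpMap f).obj ((ofOverCat X).obj (Over.mk A.φ)) :=
        congrArg (fun F : ofSch X ⥤ᵇ ofSp Q => F.obj ((ofOverCat X).obj (Over.mk A.φ))) hψ
      rw [secYon_map (ψ.map m) (ψ.w_obj _) (ψ.w_obj A) A.π hm, descSec_spec,
        secYon_congr hobj' _ (rfl : _ = A.P), secYon, eqToHom_refl, CategoryTheory.Functor.map_id,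
        Category.id_comp]
      apply (J S).uliftYonedaEquiv.injective
      rw [Equiv.apply_symm_apply, GrothendieckTopology.uliftYonedaEquiv_comp,
        GrothendieckTopology.uliftYonedaEquiv_uliftYoneda_map]
      rfl
    refine basedFunctor_ext (CategoryTheory.Functor.ext hobj fun A B m => ?_)
    apply Stk.EltObj.hom_ext
    refine Eq.trans ?_ (elt_hom_conj (Q := Q) _ _ _).symm
    exact Functor.congr_hom ψ.w m

end Groth.Agent.H14Quot
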