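import Groth.Agent.H14Quot.QuotStack
import Groth.Agent.H14AlgSt.EtaleStackDiag
import Groth.Agent.H12AlgSp.AffineMor

/-!
# Quotient stacks for the etale topology
-/

set_option autoImplicit false
set_option backward.isDefEq.respectTransparency false
set_option backward.isDefEq.respectTransparency.types false

universe u

open CategoryTheory CategoryTheory.Limits MonoidalCategory AlgebraicGeometry AlgSt

namespace Groth.Agent.H14Quot

variable {S : Scheme.{u}} {G : Over S} [GrpObj G] {X : Over S} {aX : AlgGrp.Action G X}

instance : Scheme.etalePrecoverage.{u}.IsStableUnderBaseChange :=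
  inferInstanceAs (Scheme.precoverage @Etale).IsStableUnderBaseChange

instance : Scheme.etalePrecoverage.{u}.IsStableUnderComposition :=
  inferInstanceAs (Scheme.precoverage @Etale).IsStableUnderComposition

lemma etale_le_fppf_pre : Scheme.etalePrecoverage.{u} ≤ Scheme.fppfPrecoverage :=
  Scheme.precoverage_mono fun _ _ f (_ : Etale f) => ⟨inferInstance, inferInstance⟩

/-- The canonical functor by an affine group is affine. -/
theorem repWith_atlas_affine {K : Precoverage Scheme.{u}} [K.HasIsos] [K.IsStableUnderBaseChange]
    (hK : K ≤ Scheme.fppfPrecoverage) (hG : IsAffineHom G.hom) :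
    RepByAlgSpWith AlgSp.IsAffineMor (atlas K G aX) := by
  refine repWith_atlas fun A V e _ =>
    H13AlgSp.isAffineMor_iff.2 ((AlgSp.repWith_yon_map_iff @IsAffineHom _).2 ?_)
  have : IsIso e.left := inferInstanceAs (IsIso ((Over.forget S).map e))
  exact (MorphismProperty.cancel_right_of_respectsIso @IsAffineHom _ _).2
    (torsor_prop @IsAffineHom hK A hG)

end Groth.Agent.H14Quot
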