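import Groth.Prelude.Def_AlgSt5
import Groth.Agent.H14Fib.Basic

/-!
# The quotient category `[X/G]`: lifts, cartesian morphisms, morphisms out of trivial torsors
-/

set_option autoImplicit false
set_option backward.isDefEq.respectTransparency false
set_option backward.isDefEq.respectTransparency.types false

universe u

open CategoryTheory CategoryTheory.Limits MonoidalCategory CartesianMonoidalCategory MonObj GrpObj
open AlgebraicGeometry AlgSt

namespace Groth.Agent.H14Quot

variable {S : Scheme.{u}} {K : Precoverage Scheme.{u}} {G : Over S} [GrpObj G] {X : Over S}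
  {aX : AlgGrp.Action G X}

section CartLift

variable {A B C : QuotObj K G aX}

/-- A morphism of schemes over `S` underlying a cartesian square, read in schemes. -/
lemma isPullback_left (φ : A ⟶ B) : IsPullback φ.top.left A.π.left B.π.left φ.base.left :=
  φ.cart.map (Over.forget S)

/-- The unique morphism over `g` into a cartesian morphism. -/
noncomputable def cartLift (φ : B ⟶ A) (ψ : C ⟶ A) (g : C.base ⟶ B.base)
    (h : g ≫ φ.base = ψ.base) : C ⟶ B where
  base := g
  top := φ.cart.lift ψ.top (C.π ≫ g) (by rw [Category.assoc, h, ψ.cart.w])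
  eqv := by
    apply φ.cart.hom_ext
    · rw [Category.assoc, IsPullback.lift_fst, Category.assoc, φ.eqv, ψ.eqv,
        ← MonoidalCategory.whiskerLeft_comp_assoc, IsPullback.lift_fst]
    · rw [Category.assoc, IsPullback.lift_snd, Category.assoc, B.cart.w, whiskerLeft_snd_assoc,
        IsPullback.lift_snd, ← Category.assoc, C.cart.w, Category.assoc]
  cart := IsPullback.of_right (by rw [IsPullback.lift_fst, h]; exact ψ.cart)
    (IsPullback.lift_snd _ _ _ _) φ.cart
  wφ := by
    have h2 := φ.wφ
    rw [← h2, IsPullback.lift_fst_assoc, ψ.wφ]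

@[simp] lemma cartLift_base (φ : B ⟶ A) (ψ : C ⟶ A) (g : C.base ⟶ B.base)
    (h : g ≫ φ.base = ψ.base) : (cartLift φ ψ g h).base = g := rfl

@[simp] lemma cartLift_comp (φ : B ⟶ A) (ψ : C ⟶ A) (g : C.base ⟶ B.base)
    (h : g ≫ φ.base = ψ.base) : cartLift φ ψ g h ≫ φ = ψ :=
  QuotObj.hom_ext h (IsPullback.lift_fst _ _ _ _)

/-- Morphisms over the same base with the same composite into a third object are equal. -/
lemma hom_ext' (φ : B ⟶ A) {χ χ' : C ⟶ B} (hb : χ.base = χ'.base) (h : χ ≫ φ = χ' ≫ φ) :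
    χ = χ' :=
  QuotObj.hom_ext hb (φ.cart.hom_ext (congrArg QuotObj.Hom.top h)
    (by rw [χ.cart.w, χ'.cart.w, hb]))

end CartLift

section Lift

variable (A : QuotObj K G aX) {V : Over S} (f : V ⟶ A.base)

/-- The induced action on a base change of a torsor. -/
noncomputable def pullAct : AlgGrp.Action G (pullback A.π f) where
  act := pullback.lift ((G ◁ pullback.fst A.π f) ≫ A.act.act) (snd G _ ≫ pullback.snd A.π f)
    (by rw [Category.assoc, A.cart.w, whiskerLeft_snd_assoc, pullback.condition, Category.assoc])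
  one_act := by
    apply pullback.hom_ext
    · rw [Category.assoc, pullback.lift_fst, ← whisker_exchange_assoc, A.act.one_act,
        leftUnitor_naturality]
    · rw [Category.assoc, pullback.lift_snd, whiskerRight_snd_assoc, leftUnitor_hom]
  mul_act := by
    apply pullback.hom_ext
    · rw [Category.assoc, pullback.lift_fst, ← whisker_exchange_assoc, A.act.mul_act,
        associator_naturality_right_assoc, Category.assoc, Category.assoc, pullback.lift_fst,
        ← MonoidalCategory.whiskerLeft_comp_assoc, ← MonoidalCategory.whiskerLeft_comp_assoc,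
        pullback.lift_fst]
    · simp

lemma pullAct_fst : (pullAct A f).act ≫ pullback.fst A.π f =
    (G ◁ pullback.fst A.π f) ≫ A.act.act :=
  pullback.lift_fst _ _ _

lemma pullAct_snd : (pullAct A f).act ≫ pullback.snd A.π f = snd G _ ≫ pullback.snd A.π f :=
  pullback.lift_snd _ _ _

variable [K.IsStableUnderBaseChange]

lemma pull_loc : NonAbH1.IsLocallyTrivialFor K
    (Over.mk (pullback.snd A.π f).left : Over V.left) := by
  obtain ⟨R, hR, hs⟩ := A.loc
  obtain ⟨κ, Z, g, rfl⟩ := Presieve.exists_eq_ofArrows R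
  refine ⟨_, K.mem_coverings_of_isPullback g hR f.left
    (fun i => pullback.fst f.left (g i)) (fun i => pullback.snd f.left (g i))
    (fun i => IsPullback.of_hasPullback _ _), ?_⟩
  rintro _ _ ⟨i⟩
  obtain ⟨s, hsi⟩ := hs (g i) ⟨i⟩
  change s ≫ A.π.left = g i at hsi
  refine ⟨((IsPullback.of_hasPullback A.π f).map (Over.forget S)).lift
    (pullback.snd f.left (g i) ≫ s) (pullback.fst f.left (g i)) ?_, IsPullback.lift_snd _ _ _ _⟩
  exact (Category.assoc _ _ _).trans
    ((congrArg (pullback.snd f.left (g i) ≫ ·) hsi).trans pullback.condition.symm)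

/-- The base change of a torsor with its map to `X`. -/
noncomputable def pullObj : QuotObj K G aX where
  base := V
  P := pullback A.π f
  act := pullAct A f
  π := pullback.snd A.π f
  cart := by
    refine IsPullback.of_right ?_ (pullAct_snd A f) (IsPullback.of_hasPullback A.π f)
    rw [pullAct_fst, ← pullback.condition]
    exact (isPullback_whiskerLeft (pullback.fst A.π f)).paste_horiz A.cart
  loc := pull_loc A f
  φ := pullback.fst A.π f ≫ A.φ
  eqv := by
    rw [reassoc_of% (pullAct_fst A f), A.eqv, MonoidalCategory.whiskerLeft_comp, Category.assoc]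

/-- The morphism from the base change. -/
noncomputable def pullHom : pullObj A f ⟶ A where
  base := f
  top := pullback.fst A.π f
  eqv := pullAct_fst A f
  cart := IsPullback.of_hasPullback A.π f
  wφ := rfl

end Lift

/-- The quotient category is fibred in groupoids. -/
theorem quotSt_fibGrpd [K.IsStableUnderBaseChange] : FibCat.IsFibGrpd (QuotSt K G aX).p where
  exists_lift := fun {A} {V} f =>
    ⟨pullObj A f, pullHom A f, IsHomLift.map (QuotObj.forget K G aX) (pullHom A f)⟩
  isStronglyCartesian := fun {B A} φ =>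
    { universal_property' := fun {C} g ψ hψ => by
        have hg : g ≫ φ.base = ψ.base :=
          IsHomLift.eq_of_isHomLift (QuotObj.forget K G aX)
            (g ≫ (QuotObj.forget K G aX).map φ) ψ
        refine ⟨cartLift φ ψ g hg,
          ⟨IsHomLift.map (QuotObj.forget K G aX) (cartLift φ ψ g hg), cartLift_comp φ ψ g hg⟩, ?_⟩
        rintro χ ⟨hχ, h⟩
        exact hom_ext' φ (IsHomLift.eq_of_isHomLift (QuotObj.forget K G aX) g χ).symm
          (h.trans (cartLift_comp φ ψ g hg).symm) }

section Triv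

variable [K.HasIsos] {T : Over S}

variable (K G aX) in
/-- The trivial torsor attached to a point of `X`. -/
noncomputable abbrev triv (x : T ⟶ X) : QuotObj K G aX :=
  (quotMap K G aX).obj ((ofOverCat X).obj (Over.mk x))

omit [K.HasIsos] in
lemma triv_eqv {P : Over S} (act : AlgGrp.Action G P) (σ : T ⟶ P) :
    (leftMul G T).act ≫ (G ◁ σ) ≫ act.act = (G ◁ ((G ◁ σ) ≫ act.act)) ≫ act.act := by
  have hμ : fst (G ⊗ G) P ≫ μ[G] = (fst _ _ ≫ fst G G) * (fst _ _ ≫ snd G G) := by
    rw [Hom.mul_def, ← comp_lift, lift_fst_snd, Category.comp_id]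
  have h : (leftMul G T).act ≫ (G ◁ σ) = (G ◁ (G ◁ σ)) ≫ (α_ G G P).inv ≫ (μ[G] ▷ P) := by
    apply CartesianMonoidalCategory.hom_ext <;>
      simp [leftMul, comp_mul, hμ]
  have hm : (G ◁ act.act) ≫ act.act = (α_ G G P).inv ≫ (μ[G] ▷ P) ≫ act.act := by
    rw [act.mul_act, Iso.inv_hom_id_assoc]
  rw [MonoidalCategory.whiskerLeft_comp, Category.assoc, hm, reassoc_of% h]

/-- A section of a torsor over `c` gives a morphism from a trivial torsor over `c`. -/
noncomputable def homOfSec {x : T ⟶ X} {A : QuotObj K G aX} (σ : T ⟶ A.P) (h : σ ≫ A.φ = x) :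
    triv K G aX x ⟶ A where
  base := σ ≫ A.π
  top := (G ◁ σ) ≫ A.act.act
  eqv := triv_eqv A.act σ
  cart := (isPullback_whiskerLeft σ).paste_horiz A.cart
  wφ := by
    change ((G ◁ σ) ≫ A.act.act) ≫ A.φ = (G ◁ x) ≫ aX.act
    rw [← h, Category.assoc, A.eqv, MonoidalCategory.whiskerLeft_comp, Category.assoc]

variable (G T) in
/-- The unit section of the trivial torsor. -/
noncomputable abbrev unitSec : T ⟶ G ⊗ T := lift 1 (𝟙 T)

/-- The section defined by a morphism out of a trivial torsor. -/
noncomputable def secOfHom {x : T ⟶ X} {A : QuotObj K G aX} (h : triv K G aX x ⟶ A) : T ⟶ A.P :=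
  unitSec G T ≫ h.top

lemma unit_act {Y : Over S} (a : AlgGrp.Action G Y) {W : Over S} (y : W ⟶ Y) :
    lift (1 : W ⟶ G) y ≫ a.act = y := by
  calc lift (1 : W ⟶ G) y ≫ a.act = lift (toUnit W) y ≫ (η[G] ▷ Y) ≫ a.act := by
        rw [lift_whiskerRight_assoc, ← Hom.one_def]
    _ = _ := by rw [a.one_act, leftUnitor_hom, lift_snd]

lemma secOfHom_π {x : T ⟶ X} {A : QuotObj K G aX} (h : triv K G aX x ⟶ A) :
    secOfHom h ≫ A.π = h.base := by
  have hw : h.top ≫ A.π = snd G T ≫ h.base := h.cart.w
  rw [secOfHom, Category.assoc, hw, lift_snd_assoc, Category.id_comp]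

lemma secOfHom_φ {x : T ⟶ X} {A : QuotObj K G aX} (h : triv K G aX x ⟶ A) :
    secOfHom h ≫ A.φ = x := by
  have hw : h.top ≫ A.φ = (G ◁ x) ≫ aX.act := h.wφ
  rw [secOfHom, Category.assoc, hw, lift_whiskerLeft_assoc, Category.id_comp, unit_act]

lemma homOfSec_secOfHom {x : T ⟶ X} {A : QuotObj K G aX} (h : triv K G aX x ⟶ A) :
    homOfSec (secOfHom h) (secOfHom_φ h) = h := by
  refine QuotObj.hom_ext (secOfHom_π h) ?_
  change (G ◁ secOfHom h) ≫ A.act.act = h.top
  have he : (leftMul G T).act ≫ h.top = (G ◁ h.top) ≫ A.act.act := h.eqv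
  have e1 : (G ◁ unitSec G T) ≫ (leftMul G T).act = 𝟙 (G ⊗ T) := by
    apply CartesianMonoidalCategory.hom_ext <;> simp [leftMul, comp_mul]
  rw [secOfHom, MonoidalCategory.whiskerLeft_comp, Category.assoc, ← he, reassoc_of% e1]

lemma secOfHom_homOfSec {x : T ⟶ X} {A : QuotObj K G aX} (σ : T ⟶ A.P) (h : σ ≫ A.φ = x) :
    secOfHom (homOfSec (x := x) σ h) = σ := by
  change unitSec G T ≫ (G ◁ σ) ≫ A.act.act = σ
  rw [lift_whiskerLeft_assoc, Category.id_comp, unit_act]

lemma eq_of_homOfSec {x : T ⟶ X} {A : QuotObj K G aX} {σ τ : T ⟶ A.P} {h : σ ≫ A.φ = x}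
    {h' : τ ≫ A.φ = x} (e : homOfSec (x := x) σ h = homOfSec τ h') : σ = τ := by
  rw [← secOfHom_homOfSec σ h, e, secOfHom_homOfSec]

/-- The canonical functor followed by the morphism of a section is the morphism of the
composed section. -/
lemma map_comp_homOfSec {T' : Over S} {x : T ⟶ X} {A : QuotObj K G aX} (σ : T ⟶ A.P)
    (h : σ ≫ A.φ = x) {x' : T' ⟶ X} (m : Over.mk x' ⟶ Over.mk x) :
    (quotMap K G aX).map ((ofOverCat X).map m) ≫ homOfSec σ h =
      homOfSec (m.left ≫ σ) (by rw [Category.assoc, h]; exact Over.w m) := by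
  refine QuotObj.hom_ext (Category.assoc _ _ _).symm ?_
  change (G ◁ m.left) ≫ (G ◁ σ) ≫ A.act.act = (G ◁ (m.left ≫ σ)) ≫ A.act.act
  rw [MonoidalCategory.whiskerLeft_comp, Category.assoc]

end Triv

end Groth.Agent.H14Quot
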