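import Groth.Agent.H14Quot.QuotStack
import Groth.Agent.H14Stk.EquivFF
import Groth.Prelude.Def_ChGrp

/-!
# The quotient of an induced space is the quotient of the original space by the subgroup
-/

set_option autoImplicit false
set_option backward.isDefEq.respectTransparency false
set_option backward.isDefEq.respectTransparency.types false

universe u

open CategoryTheory CategoryTheory.Functor CategoryTheory.Limits AlgebraicGeometry
open MonoidalCategory CartesianMonoidalCategory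

noncomputable section

namespace Groth.Agent.H14Quot

open H14Fib H14Stk AlgSt MonObj

variable {S : Scheme.{u}}

local notation "K₀" => Scheme.fppfPrecoverage

/-- A locally trivial morphism has sections locally along every point of its target. -/
lemma locally_section {P B : Over S} (p : P ⟶ B)
    (h : NonAbH1.IsLocallyTrivialFor K₀ (Over.mk p.left : Over B.left)) {T : Over S} (y : T ⟶ B) :
    Locally (QuotSh.J K₀ S) T (fun V f => ∃ s : V ⟶ P, s ≫ p = f ≫ y) := by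
  have h0 : Locally (QuotSh.J K₀ S) B (fun V f => ∃ s : V ⟶ P, s ≫ p = f) := by
    obtain ⟨R₀, hR₀, hs⟩ := h
    obtain ⟨κ, Z, g, rfl⟩ := Presieve.exists_eq_ofArrows R₀
    refine ⟨Sieve.ofArrows _ (fun i : κ => (Over.homMk (g i) rfl : Over.mk (g i ≫ B.hom) ⟶ B)),
      mem_J_of_family le_rfl hR₀ (fun i => ⟨_, 𝟙 _, _, ⟨i⟩, Category.id_comp _⟩), ?_⟩
    rintro V f ⟨W, k, _, ⟨j⟩, rfl⟩
    obtain ⟨s, hs₁⟩ := hs (g j) ⟨j⟩
    change s ≫ p.left = g j at hs₁
    let σ : Over.mk (g j ≫ B.hom) ⟶ P := Over.homMk s (by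
      change s ≫ P.hom = g j ≫ B.hom
      rw [← hs₁, Category.assoc, Over.w p])
    refine ⟨k ≫ σ, ?_⟩
    rw [Category.assoc]
    congr 1
    exact Over.OverMorphism.ext hs₁
  exact h0.pullback y

variable {G : Over S} [GrpObj G] {X : Over S} {aX : AlgGrp.Action G X}

/-- The element of the group attached to a morphism of trivial torsors. -/
def quotElt {T' T : Over S} {x' : T' ⟶ X} {x : T ⟶ X}
    (h : triv K₀ G aX x' ⟶ triv K₀ G aX x) : T' ⟶ G := secOfHom h ≫ fst G T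

/-- The base morphism of a morphism of trivial torsors. -/
abbrev quotBase {T' T : Over S} {x' : T' ⟶ X} {x : T ⟶ X}
    (h : triv K₀ G aX x' ⟶ triv K₀ G aX x) : T' ⟶ T := h.base

variable {T'' T' T : Over S} {x'' : T'' ⟶ X} {x' : T' ⟶ X} {x : T ⟶ X}

lemma secOfHom_quot (h : triv K₀ G aX x' ⟶ triv K₀ G aX x) :
    secOfHom h = lift (quotElt h) (quotBase h) := by
  apply CartesianMonoidalCategory.hom_ext
  · exact (lift_fst _ _).symm
  · exact (secOfHom_π h).trans (lift_snd _ _).symm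

lemma quot_ext {h k : triv K₀ G aX x' ⟶ triv K₀ G aX x} (hb : quotBase h = quotBase k)
    (hg : quotElt h = quotElt k) : h = k := by
  rw [← homOfSec_secOfHom h, ← homOfSec_secOfHom k]
  congr 1
  rw [secOfHom_quot h, secOfHom_quot k, hb, hg]

lemma quot_rel (h : triv K₀ G aX x' ⟶ triv K₀ G aX x) :
    lift (quotElt h) (quotBase h ≫ x) ≫ aX.act = x' := by
  have e : secOfHom h ≫ (G ◁ x) ≫ aX.act = x' := secOfHom_φ h
  rwa [secOfHom_quot, lift_whiskerLeft_assoc] at e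

lemma quotElt_id : quotElt (𝟙 (triv K₀ G aX x)) = 1 := by
  have e : secOfHom (𝟙 (triv K₀ G aX x)) = unitSec G T := Category.comp_id _
  rw [quotElt, e, lift_fst]

lemma quotElt_comp (h : triv K₀ G aX x'' ⟶ triv K₀ G aX x')
    (k : triv K₀ G aX x' ⟶ triv K₀ G aX x) :
    quotElt (h ≫ k) = quotElt h * (quotBase h ≫ quotElt k) := by
  have e : k.top = (G ◁ secOfHom k) ≫ (leftMul G T).act :=
    (congrArg (fun t => t.top) (homOfSec_secOfHom k)).symm
  have e' : secOfHom (h ≫ k) = secOfHom h ≫ k.top := (Category.assoc _ _ _).symm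
  rw [quotElt, e', e, secOfHom_quot h, secOfHom_quot k]
  simp [leftMul, comp_mul]
  erw [lift_fst, lift_snd_assoc, lift_fst]

/-- The morphism of trivial torsors defined by an element of the group and a morphism of bases. -/
def quotHom (g : T' ⟶ G) (t : T' ⟶ T) (h : lift g (t ≫ x) ≫ aX.act = x') :
    triv K₀ G aX x' ⟶ triv K₀ G aX x :=
  homOfSec (lift g t : T' ⟶ G ⊗ T) (by
    change lift g t ≫ (G ◁ x) ≫ aX.act = x'
    rw [lift_whiskerLeft_assoc, h])

lemma quotBase_quotHom (g : T' ⟶ G) (t : T' ⟶ T) (h : lift g (t ≫ x) ≫ aX.act = x') :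
    quotBase (quotHom g t h) = t := lift_snd _ _

lemma quotElt_quotHom (g : T' ⟶ G) (t : T' ⟶ T) (h : lift g (t ≫ x) ≫ aX.act = x') :
    quotElt (quotHom g t h) = g := by
  rw [quotElt, quotHom, secOfHom_homOfSec, lift_fst]

/-- The trivial torsor, as an object of the quotient stack. -/
abbrev qTriv (aX : AlgGrp.Action G X) {T : Over S} (x : T ⟶ X) : (AlgSt.QuotSt K₀ G aX).obj :=
  triv K₀ G aX x

lemma lift_triv_hom (t : T' ⟶ T) (h : triv K₀ G aX x' ⟶ triv K₀ G aX x) (hb : quotBase h = t) :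
    (AlgSt.QuotSt K₀ G aX).p.IsHomLift t h :=
  IsHomLift.of_fac' _ _ _ rfl rfl (by
    subst hb
    simp
    rfl)

lemma locCovers_quot :
    LocCovers (QuotSh.J K₀ S) (fun c : Over X => qTriv aX c.hom) := by
  intro A
  refine (locally_section A.π A.loc (𝟙 A.base)).mono ?_
  rintro V f ⟨σ, hσ⟩
  refine ⟨Over.mk (σ ≫ A.φ), homOfSec σ rfl, IsHomLift.of_fac' _ _ _ rfl rfl ?_⟩
  change σ ≫ A.π = 𝟙 _ ≫ f ≫ 𝟙 _
  rw [hσ]
  simp

lemma pullStable_quot : PullStable (fun c : Over X => qTriv aX c.hom) := by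
  intro c V W g hW
  change c.left = W at hW
  subst hW
  refine ⟨Over.mk (g ≫ c.hom), quotHom 1 g (AlgGrp.Action.lift_one_act aX _), ?_⟩
  exact lift_triv_hom g _ (quotBase_quotHom _ _ _)

section Induced

variable {H Z Y : Over S} [GrpObj H] (i : H ⟶ G) [IsMonHom i]
  (aZ : AlgGrp.Action H Z) (aY : AlgGrp.Action G Y) (j₁ : Z ⟶ Y)

/-- `Y` is induced from `Z` along `i` through `j₁`. -/
structure IsInduced : Prop where
  /-- equivariance -/
  equiv : ∀ {T : Over S} (h : T ⟶ H) (z : T ⟶ Z),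
    lift (h ≫ i) (z ≫ j₁) ≫ aY.act = lift h z ≫ aZ.act ≫ j₁
  /-- the fibres -/
  rel : ∀ {T : Over S} (g : T ⟶ G) (z z' : T ⟶ Z), lift g (z ≫ j₁) ≫ aY.act = z' ≫ j₁ →
    ∃! h : T ⟶ H, h ≫ i = g ∧ lift h z ≫ aZ.act = z'
  /-- local surjectivity -/
  loc : ∀ {T : Over S} (y : T ⟶ Y), Locally (QuotSh.J K₀ S) T (fun V f =>
    ∃ (g : V ⟶ G) (z : V ⟶ Z), lift g (z ≫ j₁) ≫ aY.act = f ≫ y)

variable {i aZ aY j₁}

/-- The functor on trivial torsors. -/
def indMap (hI : IsInduced i aZ aY j₁) :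
    HomMap (fun c : Over Z => qTriv aZ c.hom) (fun c : Over Z => qTriv aY (c.hom ≫ j₁)) where
  map {c' c} h := quotHom (quotElt h ≫ i) (quotBase h) (by
    rw [← Category.assoc, hI.equiv, ← Category.assoc, quot_rel])
  lift {c' c} h V W g hg := by
    obtain rfl : c'.left = V := @IsHomLift.domain_eq _ _ _ _ (AlgSt.QuotSt K₀ H aZ).p _ _ _ _ g h hg
    obtain rfl : c.left = W := @IsHomLift.codomain_eq _ _ _ _ (AlgSt.QuotSt K₀ H aZ).p _ _ _ _ g h hg
    exact lift_triv_hom g _ ((quotBase_quotHom _ _ _).trans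
      ((@IsHomLift.fac _ _ _ _ (AlgSt.QuotSt K₀ H aZ).p _ _ _ _ g h hg).trans (by simp; rfl)).symm)
  map_id c := quot_ext ((quotBase_quotHom _ _ _).trans rfl) (by
    rw [quotElt_quotHom, quotElt_id, quotElt_id, MonObj.one_comp])
  map_comp {c'' c' c} h k := quot_ext
    ((quotBase_quotHom _ _ _).trans (congrArg₂ (· ≫ ·) (quotBase_quotHom _ _ _)
      (quotBase_quotHom _ _ _)).symm) (by
    rw [quotElt_quotHom, quotElt_comp h k, quotElt_comp, quotElt_quotHom, quotElt_quotHom,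
      quotBase_quotHom, MonObj.mul_comp, Category.assoc])

lemma indMap_bijective (hI : IsInduced i aZ aY j₁) (c' c : Over Z) :
    Function.Bijective ((indMap hI).map (i := c') (j := c)) := by
  constructor
  · intro h k e
    have eb := congrArg quotBase e
    have eg := congrArg quotElt e
    simp only [indMap, quotBase_quotHom] at eb
    simp only [indMap, quotElt_quotHom] at eg
    refine quot_ext eb ((hI.rel (quotElt h ≫ i) (quotBase h ≫ c.hom) c'.hom ?_).unique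
      ⟨rfl, quot_rel h⟩ ⟨eg.symm, ?_⟩)
    · rw [hI.equiv, ← Category.assoc, quot_rel]
    · rw [eb, quot_rel]
  · intro β
    obtain ⟨h, ⟨hi, hz⟩, -⟩ := hI.rel (quotElt β) (quotBase β ≫ c.hom) c'.hom (by
      rw [Category.assoc, quot_rel])
    refine ⟨quotHom h (quotBase β) hz, quot_ext ?_ ?_⟩
    · simp only [indMap, quotBase_quotHom]
    · simp only [indMap, quotElt_quotHom, hi]

lemma locCovers_induced (hI : IsInduced i aZ aY j₁) :
    LocCovers (QuotSh.J K₀ S) (fun c : Over Z => qTriv aY (c.hom ≫ j₁)) := by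
  intro A
  refine Locally.bind (locally_section A.π A.loc (𝟙 A.base)) ?_
  rintro V f ⟨σ, hσ⟩
  refine (hI.loc (σ ≫ A.φ)).mono ?_
  rintro W k ⟨g, z, hz⟩
  let τ : W ⟶ A.P := lift g⁻¹ (k ≫ σ) ≫ A.act.act
  have hτπ : τ ≫ A.π = k ≫ f := by
    rw [Category.assoc, A.cart.w, lift_snd_assoc, Category.assoc, hσ, Category.comp_id]
  have hτφ : τ ≫ A.φ = z ≫ j₁ := by
    rw [Category.assoc, A.eqv, lift_whiskerLeft_assoc, Category.assoc, ← hz,
      ← AlgGrp.Action.lift_mul_act, inv_mul_cancel, AlgGrp.Action.lift_one_act]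
  refine ⟨Over.mk z, homOfSec τ hτφ, IsHomLift.of_fac' _ _ _ rfl rfl ?_⟩
  change τ ≫ A.π = 𝟙 _ ≫ (k ≫ f) ≫ 𝟙 _
  rw [hτπ]
  simp

/-- The quotient of an induced space is the quotient by the subgroup. -/
theorem isQuotientOf_induced (hG : IsAffineHom G.hom) (hH : IsAffineHom H.hom)
    (hI : IsInduced i aZ aY j₁) :
    AlgSt.IsQuotientOf K₀ H aZ (AlgSt.QuotSt K₀ G aY) :=
  exists_equiv_of_bijective (indMap hI) (isStack_quotSt le_rfl hH) (isStack_quotSt le_rfl hG)
    (indMap_bijective hI) pullStable_quot locCovers_quot (locCovers_induced hI)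

end Induced

end Groth.Agent.H14Quot

namespace Groth.Agent.H14Quot

open H14Stk MonObj AlgGrp

variable {S : Scheme.{u}} {G H : Over S} [GrpObj G] [GrpObj H] (i : H ⟶ G) [IsMonHom i]

local notation "K₀" => Scheme.fppfPrecoverage

/-- A balanced product is induced. -/
theorem isInduced_of_isBalProd {Z Y : Over S} (aZ : AlgGrp.Action H Z) (aY : AlgGrp.Action G Y)
    (j : G ⊗ Z ⟶ Y) (hY : ChGrp.IsBalProd K₀ i aZ aY j) :
    IsInduced i aZ aY (lift 1 (𝟙 Z) ≫ j) := by
  obtain ⟨heq, hsq, hloc⟩ := hY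
  have hj : ∀ {T : Over S} (z : T ⟶ Z), z ≫ lift 1 (𝟙 Z) ≫ j = lift 1 z ≫ j := fun z => by
    rw [← Category.assoc, comp_lift, MonObj.comp_one, Category.comp_id]
  have hg : ∀ {T : Over S} (g : T ⟶ G) (z : T ⟶ Z),
      lift g (z ≫ lift 1 (𝟙 Z) ≫ j) ≫ aY.act = lift g z ≫ j := fun g z => by
    have e := congrArg (lift g (lift 1 z) ≫ ·) heq
    simp only [Action.lift_prod_act_assoc, Action.lift_trivial_act, lift_whiskerLeft_assoc] at e
    rw [hj, ← e]
    congr 2
    change lift g 1 ≫ μ[G] = g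
    rw [← Hom.mul_def, _root_.mul_one]
  have hinv : ∀ {T : Over S} (h : T ⟶ H) (g : T ⟶ G) (z : T ⟶ Z),
      lift (g * (h ≫ i)⁻¹) (lift h z ≫ aZ.act) ≫ j = lift g z ≫ j := fun h g z => by
    have e := congrArg (lift h (lift g z) ≫ ·) hsq.w
    simp only [← Category.assoc, ChGrp.lift_twist_act, lift_snd] at e
    exact e
  refine ⟨fun h z => ?_, fun g z z' e => ?_, fun y => ?_⟩
  · rw [hg, ← Category.assoc (lift h z), hj, ← hinv h (h ≫ i) z, mul_inv_cancel]
  · rw [hg, hj] at e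
    obtain ⟨k, hk₁, hk₂⟩ : ∃ k, k ≫ (ChGrp.twist i aZ).act = lift 1 z' ∧
        k ≫ snd H (G ⊗ Z) = lift g z :=
      ⟨hsq.lift _ _ e.symm, hsq.lift_fst _ _ _, hsq.lift_snd _ _ _⟩
    have ek : k = lift (k ≫ fst _ _) (lift g z) := by
      rw [← hk₂, ← comp_lift, lift_fst_snd, Category.comp_id]
    rw [ek, ChGrp.lift_twist_act] at hk₁
    have e1 := congrArg (· ≫ fst G Z) hk₁
    have e2 := congrArg (· ≫ snd G Z) hk₁
    simp only [lift_fst, lift_snd] at e1 e2
    refine ⟨k ≫ fst _ _, ⟨(mul_inv_eq_one.1 e1).symm, e2⟩, fun h' ⟨hi', hz'⟩ => ?_⟩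
    have : lift h' (lift g z) = k := by
      refine hsq.hom_ext ?_ ?_
      · rw [ChGrp.lift_twist_act, hi', hz', mul_inv_cancel, ek, ChGrp.lift_twist_act, hk₁]
      · rw [lift_snd, hk₂]
    rw [← this, lift_fst]
  · refine (locally_section j hloc y).mono ?_
    rintro V f ⟨s, hs⟩
    exact ⟨s ≫ fst G Z, s ≫ snd G Z, by rw [hg, ← comp_lift, lift_fst_snd, Category.comp_id, hs]⟩

/-- The product with a homogeneous space is induced. -/
theorem isInduced_of_isHomog {X Q : Over S} (aX : AlgGrp.Action G X) (aQ : AlgGrp.Action G Q)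
    (q₀ : 𝟙_ (Over S) ⟶ Q) (hQ : ChGrp.IsHomog K₀ i aQ q₀) :
    IsInduced i (aX.restrict i) (aQ.prod aX) (lift (toUnit X ≫ q₀) (𝟙 X)) := by
  obtain ⟨-, hsq, hloc⟩ := hQ
  have hj : ∀ {T : Over S} (z : T ⟶ X),
      z ≫ lift (toUnit X ≫ q₀) (𝟙 X) = lift (toUnit T ≫ q₀) z := fun z => by
    rw [comp_lift, ← Category.assoc, toUnit_unique (z ≫ toUnit X) (toUnit _), Category.comp_id]
  have hfix : ∀ {T : Over S} (h : T ⟶ H),
      lift (h ≫ i) (toUnit T ≫ q₀) ≫ aQ.act = toUnit T ≫ q₀ := fun h => by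
    have e := congrArg (lift 1 h ≫ ·) hsq.w
    simp only [← Category.assoc, lift_fst, lift_whiskerLeft] at e
    rw [← Hom.mul_def, _root_.one_mul, Action.comp_orbitMap, Action.comp_orbitMap,
      Action.lift_one_act] at e
    exact e.symm
  refine ⟨fun h z => ?_, fun g z z' e => ?_, fun y => ?_⟩
  · rw [hj, Action.lift_prod_act, hfix, Action.lift_restrict_act_assoc, ← Category.assoc (lift _ z),
      hj]
  · rw [hj, hj, Action.lift_prod_act] at e
    have e1 := congrArg (· ≫ fst Q X) e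
    have e2 := congrArg (· ≫ snd Q X) e
    simp only [lift_fst, lift_snd] at e1 e2
    have w : (1 : _ ⟶ G) ≫ aQ.orbitMap q₀ = g ≫ aQ.orbitMap q₀ := by
      rw [Action.comp_orbitMap, Action.comp_orbitMap, Action.lift_one_act, e1]
    obtain ⟨k, hk₁, hk₂⟩ : ∃ k, k ≫ fst G H = 1 ∧ k ≫ ((G ◁ i) ≫ μ[G]) = g :=
      ⟨hsq.lift _ _ w, hsq.lift_fst _ _ _, hsq.lift_snd _ _ _⟩
    have hh : ∀ {T' : Over S} (h' : T' ⟶ H), lift 1 h' ≫ ((G ◁ i) ≫ μ[G]) = h' ≫ i := fun h' => by
      rw [lift_whiskerLeft_assoc, ← Hom.mul_def, _root_.one_mul]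
    have ek : k = lift 1 (k ≫ snd _ _) := by
      rw [← hk₁, ← comp_lift, lift_fst_snd, Category.comp_id]
    rw [ek, hh] at hk₂
    refine ⟨k ≫ snd _ _, ⟨hk₂, by rw [Action.lift_restrict_act, hk₂, e2]⟩, fun h' ⟨hi', _⟩ => ?_⟩
    have : lift 1 h' = k := by
      refine hsq.hom_ext ?_ ?_
      · rw [lift_fst, hk₁]
      · rw [hh, hi', ek, hh, hk₂]
    rw [← this, lift_snd]
  · refine (locally_section (aQ.orbitMap q₀) hloc (y ≫ fst Q X)).mono ?_
    rintro V f ⟨g, hg⟩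
    refine ⟨g, lift g⁻¹ (f ≫ y ≫ snd Q X) ≫ aX.act, ?_⟩
    rw [hj, Action.lift_prod_act, ← Action.lift_mul_act, mul_inv_cancel, Action.lift_one_act,
      ← Action.comp_orbitMap, hg, ← comp_lift, ← comp_lift, lift_fst_snd, Category.comp_id]

end Groth.Agent.H14Quot
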