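import Groth.Agent.H14Quot.IsomRep
import Groth.Agent.H14Quot.Etale
import Groth.Agent.H14AlgSt.CoverCriterion
import Groth.Agent.H14AlgSt.DiagCalc

/-!
# The diagonal of `[X/G]`
-/

set_option autoImplicit false
set_option backward.isDefEq.respectTransparency false
set_option backward.isDefEq.respectTransparency.types false

universe u

open CategoryTheory CategoryTheory.Limits MonoidalCategory CartesianMonoidalCategory MonObj GrpObj
open AlgebraicGeometry AlgSt Opposite
open AlgSp (yon J)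

namespace Groth.Agent.H14Quot

open H14Fib H14Stk H14AlgSt H12AlgSp

variable {S : Scheme.{u}}

section General

variable {𝒳 : AlgSt.Cat S} {P : MorphismProperty (AlgSp.Sp S)}

/-- A diagonal has a property as soon as all magic squares have it. -/
lemma repWith_diag_of_fpDown
    (h : ∀ (U : Over S) (x₁ x₂ : FibCat.overCat U ⥤ᵇ 𝒳),
      RepByAlgSpWith P (fpDown x₁ x₂ (FibCat.toSelf 𝒳))) :
    RepByAlgSpWith P (FibCat.diag (FibCat.toSelf 𝒳)) := fun U z => by
  let H := FibCat.toSelf 𝒳
  let x₁ := BasedFunctor.comp z (FibCat.fpFst H H)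
  let x₂ := BasedFunctor.comp z (FibCat.fpSnd H H)
  let m := pairMap x₁ x₂ H
  let i₀ : BasedFunctor.comp (BasedFunctor.id (FibCat.overCat U)) (BasedFunctor.comp x₁ H) ≅
      BasedFunctor.comp (BasedFunctor.id (FibCat.overCat U)) (BasedFunctor.comp x₂ H) :=
    eqToIso (congrArg (BasedFunctor.comp (BasedFunctor.id (FibCat.overCat U)))
      ((comp_toSelf x₁).trans (comp_toSelf x₂).symm))
  let δ := FibCat.fpLift (F := BasedFunctor.comp x₁ H) (G := BasedFunctor.comp x₂ H)
    (BasedFunctor.id (FibCat.overCat U)) (BasedFunctor.id (FibCat.overCat U)) i₀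
  have i : BasedFunctor.comp δ m ≅ z := by
    refine mkIso (fun s => fpIsoMk (Iso.refl _) (Iso.refl _) ?_) (fun {a b} g => ?_) (fun s => ?_)
    · have hl₁ : (FibCat.selfOver (Over S)).p.IsHomLift (𝟙 s.left)
          ((δ.comp m).obj s).obj.iso.hom :=
        fp_iso_isHomLift _ ((BasedFunctor.comp δ m).w_obj s)
      have hl₂ : (FibCat.selfOver (Over S)).p.IsHomLift (𝟙 s.left) (z.obj s).obj.iso.hom :=
        fp_iso_isHomLift _ (z.w_obj s)
      change H.map (𝟙 _) ≫ (z.obj s).obj.iso.hom =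
        ((δ.comp m).obj s).obj.iso.hom ≫ H.map (𝟙 _)
      rw [H.toFunctor.map_id, H.toFunctor.map_id, Category.id_comp, Category.comp_id]
      exact @selfOver_homLift_unique _ _ _ _ (𝟙 s.left) _ _ _ _ hl₂ hl₁
    · exact fp_hom_ext ((Category.comp_id _).trans (Category.id_comp _).symm)
        ((Category.comp_id _).trans (Category.id_comp _).symm)
    · exact (fp_isHomLift_iff _ _).2 (IsHomLift.id (x₁.w_obj s))
  have hm : RepByAlgSpWith P (FibCat.fpFst m (FibCat.diag H)) :=
    (repWith_equiv_comp_iff (magicFun_isEquivOver x₁ x₂ H)).2 (h U x₁ x₂)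
  exact repData_congr i (RepData.of_equiv P (pasteBase_isEquivOver m (FibCat.diag H) δ) (Iso.refl _)
    (hm U δ))

variable {U V : Over S}

/-- Morphisms of the base category between two objects with equal images. -/
lemma prodProj_toSelf_isEquivOver (F : FibCat.overCat V ⥤ᵇ FibCat.selfOver (Over S))
    (F' : FibCat.overCat U ⥤ᵇ FibCat.selfOver (Over S)) :
    FibCat.IsEquivOver (prodProj F F') := by
  refine (isEquivOver_iff _).2 ⟨⟨⟨fun {a b} φ => ?_⟩, ⟨fun {a b} φ ψ h => ?_⟩⟩, fun s => ?_⟩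
  · let g : a.obj.fst.left ⟶ b.obj.fst.left := φ.left
    have hg : g ≫ prodPt b = prodPt a := Over.w φ
    rw [comp_lift] at hg
    have h1 : g ≫ b.obj.fst.hom = a.obj.fst.hom := by
      simpa using congrArg (· ≫ fst V U) hg
    have h2 : g ≫ eqToHom (fp_snd_obj b).symm ≫ b.obj.snd.hom =
        eqToHom (fp_snd_obj a).symm ≫ a.obj.snd.hom := by
      simpa using congrArg (· ≫ snd V U) hg
    let m₁ : a.obj.fst ⟶ b.obj.fst := Over.homMk g h1
    let m₂ : a.obj.snd ⟶ b.obj.snd :=
      Over.homMk (eqToHom (fp_snd_obj a) ≫ g ≫ eqToHom (fp_snd_obj b).symm)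
        (by
          rw [Category.assoc, Category.assoc, h2]
          simp)
    have hm₁ : (FibCat.overCat V).p.IsHomLift g m₁ := IsHomLift.of_fac' _ _ _ rfl rfl (by simp [m₁]; rfl)
    have hm₂ : (FibCat.overCat U).p.IsHomLift g m₂ :=
      IsHomLift.of_fac' _ _ _ (fp_snd_obj a) (fp_snd_obj b) (by simp [m₂]; rfl)
    refine ⟨fpHom m₁ m₂ ?_, Over.OverMorphism.ext rfl⟩
    have l₁ : (FibCat.selfOver (Over S)).p.IsHomLift (g ≫ 𝟙 _) (F.map m₁ ≫ b.obj.iso.hom) :=
      homLift_comp' (BasedFunctor.preserves_isHomLift F g m₁) (fp_iso_isHomLift b rfl)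
    have l₂ : (FibCat.selfOver (Over S)).p.IsHomLift (𝟙 _ ≫ g) (a.obj.iso.hom ≫ F'.map m₂) :=
      homLift_comp' (fp_iso_isHomLift a rfl) (BasedFunctor.preserves_isHomLift F' g m₂)
    rw [Category.comp_id] at l₁
    rw [Category.id_comp] at l₂
    exact @selfOver_homLift_unique _ _ _ _ g _ _ _ _ l₁ l₂
  · have h' : φ.hom.fst.left = ψ.hom.fst.left := congrArg (fun t => t.left) h
    refine fp_hom_ext (Over.OverMorphism.ext h') (Over.OverMorphism.ext ?_)
    rw [fp_snd_left φ, fp_snd_left ψ, h']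
  · let a : Over V := Over.mk (s.hom ≫ fst V U)
    let b : Over U := Over.mk (s.hom ≫ snd V U)
    have e : F.obj a = F'.obj b := (F.w_obj a).trans (F'.w_obj b).symm
    let o : (FibCat.fp F F').obj := fpObj a b (eqToIso e) (U := s.left) rfl
      (IsHomLift.of_fac' _ _ _ (F.w_obj a) (F'.w_obj b) (by simp [eqToHom_map]))
    let j : (prodProj F F').obj o ≅ s := Over.isoMk (Iso.refl _) (by
      change 𝟙 _ ≫ s.hom = prodPt o
      rw [Category.id_comp, prodPt, eqToHom_refl, Category.id_comp]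
      exact CartesianMonoidalCategory.hom_ext _ _ (lift_fst _ _).symm (lift_snd _ _).symm)
    exact ⟨o, j, IsHomLift.of_fac' (FibCat.overCat (V ⊗ U)).p _ _ rfl rfl (by simp [j]; rfl)⟩

end General

variable {K : Precoverage Scheme.{u}} [K.HasIsos] [K.IsStableUnderBaseChange]
  {G : Over S} [GrpObj G] {X : Over S} {aX : AlgGrp.Action G X} {U V : Over S}

section Rep

variable (x : FibCat.overCat V ⥤ᵇ QuotSt K G aX) (y : FibCat.overCat U ⥤ᵇ QuotSt K G aX)
  (hD : Stk.IsStack (J S) (FibCat.fp x y)) (hs : FibCat.IsFibSetoid (FibCat.fp x y).p)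

omit [K.IsStableUnderBaseChange] [K.HasIsos] in
/-- The magic square over the base has the property of the map of the sheaf of classes. -/
lemma repWith_fpDown_iff {P : MorphismProperty (AlgSp.Sp S)} :
    RepByAlgSpWith P (fpDown x y (FibCat.toSelf (QuotSt K G aX))) ↔
      RepByAlgSpWith P (AlgSt.ofSpMap (classTo hD hs (prodProj x y))) := by
  let H := FibCat.toSelf (QuotSt K G aX)
  let E := prodProj (BasedFunctor.comp x H) (BasedFunctor.comp y H)
  let f := BasedFunctor.comp (AlgSt.ofSpMap (classTo hD hs (prodProj x y))) (toOverCat (V ⊗ U))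
  have i : BasedFunctor.comp (fpDown x y H) E ≅ BasedFunctor.comp (classFun hD.1) f := by
    refine mkIso (fun ξ => Over.isoMk (Iso.refl _) ?_) (fun {a b} g => Over.OverMorphism.ext
      ((Category.comp_id _).trans (Category.id_comp _).symm)) (fun ξ => IsHomLift.id rfl)
    change 𝟙 _ ≫ toSlice (prodProj x y) ξ rfl = _
    rw [Category.id_comp, toSlice, eqToHom_refl, Category.id_comp]
    rfl
  have h1 : RepByAlgSpWith P f ↔ RepByAlgSpWith P (fpDown x y H) :=
    repWith_square (classFun_isEquivOver hD.1 hs) (prodProj_toSelf_isEquivOver _ _) i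
  have h2 : RepByAlgSpWith P f ↔
      RepByAlgSpWith P (AlgSt.ofSpMap (classTo hD hs (prodProj x y))) :=
    repWith_square (f := f) (f' := AlgSt.ofSpMap (classTo hD hs (prodProj x y)))
      (isEquivOver_id _) (toOverCat_isEquivOver _) (Iso.refl _)
  exact h1.symm.trans h2

lemma isAffineMor_eq : (AlgSp.IsAffineMor : MorphismProperty (AlgSp.Sp S)) =
    AlgSp.RepWith @IsAffineHom := by
  ext F F' f
  exact H13AlgSp.isAffineMor_iff

/-- The magic square of two objects is affine. -/
theorem repWith_fpDown_affine (hD : Stk.IsStack (J S) (FibCat.fp x y))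
    (hK : K ≤ Scheme.fppfPrecoverage)
    (hG : IsAffineHom G.hom) (hGf : Flat G.hom) (hGp : LocallyOfFinitePresentation G.hom)
    (hX : IsAffineHom (pullback.diagonal X.hom)) :
    RepByAlgSpWith AlgSp.IsAffineMor (fpDown x y (FibCat.toSelf (QuotSt K G aX))) := by
  have hs := fp_setoid_slices x y
  obtain ⟨GT, gt, ψ, hψ, hψq, hgt⟩ := exists_affine_classSp hD hs hK hG hGf hGp hX
  have hQ : AlgSp.IsAlgSpace (classSp hD hs) :=
    ObjectProperty.prop_of_iso AlgSp.IsAlgSpace (asIso ψ) (AlgSp.IsAlgSpace.yon_obj GT)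
  rw [repWith_fpDown_iff x y hD hs, isAffineMor_eq]
  refine repWith_ofSpMap_of_baseStable (baseStable_repWith _) hQ (AlgSp.IsAlgSpace.yon_obj _) _ ?_
  rw [← IsIso.inv_hom_id_assoc ψ (classTo hD hs (prodProj x y)), hψq]
  exact ((AlgSp.RepWith @IsAffineHom).cancel_left_of_respectsIso _ _).2
    ((AlgSp.repWith_yon_map_iff @IsAffineHom gt).2 hgt)

end Rep

/-- The inclusion of the quotient category for a coarser topology. -/
def toFppf (hK : K ≤ Scheme.fppfPrecoverage) :
    QuotSt K G aX ⥤ᵇ QuotSt Scheme.fppfPrecoverage G aX where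
  toFunctor :=
    { obj := fun A =>
        { base := A.base, P := A.P, act := A.act, π := A.π, cart := A.cart
          loc := let ⟨R, hR, h⟩ := A.loc; ⟨R, hK _ hR, h⟩
          φ := A.φ, eqv := A.eqv }
      map := fun f => ⟨f.base, f.top, f.eqv, f.cart, f.wφ⟩ }
  w := rfl

omit [K.HasIsos] [K.IsStableUnderBaseChange] in
lemma toFppf_ff (hK : K ≤ Scheme.fppfPrecoverage) :
    (toFppf (G := G) (aX := aX) hK).toFunctor.Full ∧
      (toFppf (G := G) (aX := aX) hK).toFunctor.Faithful :=
  ⟨⟨fun f => ⟨⟨f.base, f.top, f.eqv, f.cart, f.wφ⟩, rfl⟩⟩,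
    ⟨fun {A B} f g h => QuotObj.hom_ext (congrArg (fun t => t.base) h)
      (congrArg (fun t => t.top) h)⟩⟩

omit [K.HasIsos] [K.IsStableUnderBaseChange] in
lemma fp_stack_of_le (hK : K ≤ Scheme.fppfPrecoverage) (hG : IsAffineHom G.hom)
    (x : FibCat.overCat V ⥤ᵇ QuotSt K G aX) (y : FibCat.overCat U ⥤ᵇ QuotSt K G aX) :
    Stk.IsStack (J S) (FibCat.fp x y) := by
  obtain ⟨_, _⟩ := toFppf_ff (G := G) (aX := aX) hK
  exact (isStack_iff _ (fpMap_isEquivOver (F := BasedFunctor.comp x (toFppf hK))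
    (G := BasedFunctor.comp y (toFppf hK)) (F' := x) (G' := y) (BasedFunctor.id _)
    (BasedFunctor.id _) (toFppf hK) (Iso.refl _) (Iso.refl _)
    (essSurjOver_id _) (essSurjOver_id _))).2 (fp_stack_slices hG _ _)

/-- The diagonal of `[X/G]` is affine if the one of `X` is. -/
theorem repWith_diag_affine (hK : K ≤ Scheme.fppfPrecoverage)
    (hG : IsAffineHom G.hom) (hGf : Flat G.hom) (hGp : LocallyOfFinitePresentation G.hom)
    (hX : IsAffineHom (pullback.diagonal X.hom)) :
    RepByAlgSpWith AlgSp.IsAffineMor (FibCat.diag (FibCat.toSelf (QuotSt K G aX))) :=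
  repWith_diag_of_fpDown fun _ x y =>
    repWith_fpDown_affine x y (fp_stack_of_le hK hG x y) hK hG hGf hGp hX

end Groth.Agent.H14Quot
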