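import Groth.Agent.H13AlgSp.AffineDescent
import Groth.Agent.H13AlgSp.AffineLocal

/-!
A sheaf over a scheme which becomes affine after an fppf cover is affine over it.
-/

set_option autoImplicit false
set_option backward.isDefEq.respectTransparency false
set_option backward.isDefEq.respectTransparency.types false

universe u

open CategoryTheory CategoryTheory.Limits AlgebraicGeometry Opposite MorphismProperty
open AlgSp Groth.Agent.H12AlgSp Groth.Agent.H13AlgSp

namespace Groth.Agent.H14Quot

variable {S : Scheme.{u}}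

/-- A sheaf over an affine scheme which becomes affine after an affine fppf cover is affine. -/
theorem exists_iso_affine' {Q : Sp S} {Z : Over S} [IsAffine Z.left]
    (pr : Q ⟶ (yon S).obj Z) {W : Over S} (c : W ⟶ Z) [IsAffine W.left] [Flat c.left]
    [Surjective c.left] [LocallyOfFinitePresentation c.left]
    {Q' : Over S} [IsAffine Q'.left] (q' : (yon S).obj Q' ⟶ Q) (b' : Q' ⟶ W)
    (sqQ : IsPullback q' ((yon S).map b') pr ((yon S).map c)) :
    ∃ (Z₀ : Over S) (z₀ : Z₀ ⟶ Z) (κ : Q ⟶ (yon S).obj Z₀),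
      IsAffine Z₀.left ∧ IsIso κ ∧ κ ≫ (yon S).map z₀ = pr := by
  let U := Q'
  let d := q'
  obtain ⟨uu, huu⟩ := (yon S).map_surjective (d ≫ pr)
  let U' := pullback uu c
  have sqU : IsPullback (pullback.fst uu c) (pullback.snd uu c) uu c := IsPullback.of_hasPullback _ _
  have hU' : IsAffine U'.left := isAffine_pullback_left uu c
  have : IsAffine (pullback uu c).left := hU'
  have sqU2 := sqU.map (yon S)
  rw [huu] at sqU2
  obtain ⟨e', he'⟩ := (yon S).map_surjective (sqQ.lift ((yon S).map (pullback.fst uu c) ≫ d)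
    ((yon S).map (pullback.snd uu c)) (by rw [Category.assoc]; exact sqU2.w))
  have sqE : IsPullback ((yon S).map (pullback.fst uu c)) ((yon S).map e') d q' := by
    refine IsPullback.of_bot ?_ ?_ sqQ
    · rw [he', sqQ.lift_snd]; exact sqU2
    · rw [he', sqQ.lift_fst]
  have heb : e' ≫ b' = pullback.snd uu c := (yon S).map_injective (by
    rw [Functor.map_comp (f := e'), he', sqQ.lift_snd])
  have h1 : IsPullback ((yon S).map (pullback.fst uu c ≫ b')) ((yon S).map e') ((yon S).map c)
      ((yon S).map uu) := by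
    rw [huu, Functor.map_comp]
    exact sqE.paste_horiz sqQ.flip
  have h2 : IsPullback (pullback.fst uu c ≫ b').left e'.left c.left uu.left :=
    (IsPullback.of_map (yon S) ((yon S).map_injective (by simpa using h1.w)) h1).map (Over.forget S)
  have he'f : Flat e'.left := MorphismProperty.of_isPullback (P := @Flat) h2 ‹Flat c.left›
  have he's : Surjective e'.left :=
    MorphismProperty.of_isPullback (P := @Surjective) h2 ‹Surjective c.left›
  have he'p : LocallyOfFinitePresentation e'.left :=
    MorphismProperty.of_isPullback (P := @LocallyOfFinitePresentation) h2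
      ‹LocallyOfFinitePresentation c.left›
  have he'q : QuasiCompact e'.left := inferInstance
  let R := pullback uu c
  let t : R ⟶ U := e'
  let s : R ⟶ U := pullback.fst uu c
  have sqR : IsPullback ((yon S).map s) ((yon S).map t) d d := sqE
  have hst : s ≫ uu = t ≫ uu := (yon S).map_injective (by
    rw [Functor.map_comp, Functor.map_comp, huu, ← Category.assoc, sqR.w, Category.assoc])
  -- the relation after base change
  let R' := pullback e' e'
  have ker : IsPullback (pullback.fst e' e') (pullback.snd e' e') e' e' := IsPullback.of_hasPullback _ _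
  have h1 := (ker.map (yon S)).paste_horiz sqE
  rw [← sqE.w] at h1
  -- `h1 : IsPullback (p₁ ≫ fst) p₂ d (fst ≫ d)`
  have hρex : ∃ ρ : R' ⟶ R, ρ ≫ s = pullback.fst e' e' ≫ pullback.fst uu c ∧
      ρ ≫ t = pullback.snd e' e' ≫ pullback.fst uu c ∧
      IsPullback ((yon S).map ρ) ((yon S).map (pullback.snd e' e')) ((yon S).map t)
        ((yon S).map (pullback.fst uu c)) := by
    obtain ⟨ρ, hρ⟩ := (yon S).map_surjective (sqR.lift
      ((yon S).map (pullback.fst e' e') ≫ (yon S).map (pullback.fst uu c))
      ((yon S).map (pullback.snd e' e') ≫ (yon S).map (pullback.fst uu c))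
      (by rw [Category.assoc (h := d), Category.assoc]; exact h1.w))
    refine ⟨ρ, ?_, ?_, ?_⟩
    · apply (yon S).map_injective
      rw [Functor.map_comp, Functor.map_comp, hρ, sqR.lift_fst]
    · apply (yon S).map_injective
      rw [Functor.map_comp, Functor.map_comp, hρ, sqR.lift_snd]
    · refine IsPullback.of_right ?_ ?_ sqR
      · rw [hρ, sqR.lift_fst]; exact h1
      · rw [hρ, sqR.lift_snd]
  obtain ⟨ρ, hρs, hρt, hρsq⟩ := hρex
  have sqR' : IsPullback ρ (pullback.snd e' e' ≫ pullback.snd uu c) (t ≫ uu) c :=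
    (IsPullback.of_map (yon S) ((yon S).map_injective (by simpa using hρsq.w)) hρsq).paste_vert sqU
  have hR : IsAffine R.left := hU'
  have hR' : IsAffine R'.left := isAffine_pullback_left e' e'
  have : EffectiveEpi e'.left := inferInstance
  have hst' : s.left ≫ uu.left = t.left ≫ uu.left := congrArg (fun f => Over.Hom.left f) hst
  have sqR'' := sqR'.map (Over.forget S)
  have hsqR3 : IsPullback ρ.left (pullback.snd e' e' ≫ pullback.snd uu c).left (s.left ≫ uu.left) c.left := by
    rw [hst']; exact sqR''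
  have h₁' : pullback.fst e' e' ≫ pullback.snd uu c = pullback.snd e' e' ≫ pullback.snd uu c := by
    rw [← heb, pullback.condition_assoc]
  have sqUl : IsPullback (pullback.fst uu c).left (pullback.snd uu c).left uu.left c.left :=
    sqU.map (Over.forget S)
  have kerl : IsPullback (pullback.fst e' e').left (pullback.snd e' e').left e'.left e'.left :=
    ker.map (Over.forget S)
  obtain ⟨Z₀, z₀, u₀, φ, hZ₀, hu₀, hst₀, hφ, hφ₁, hφ₂⟩ := exists_affine_quotient c.left uu.left s.left
    t.left hst' sqUl hsqR3 (pullback.fst e' e').left (pullback.snd e' e').left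
    (congrArg (fun f => Over.Hom.left f) hρs.symm) (congrArg (fun f => Over.Hom.left f) h₁')
    (congrArg (fun f => Over.Hom.left f) hρt.symm) rfl e'.left kerl
  let Z₀' : Over S := Over.mk (z₀ ≫ Z.hom)
  let z : Z₀' ⟶ Z := Over.homMk z₀ rfl
  let u : U ⟶ Z₀' := Over.homMk u₀ (by
    change u₀ ≫ z₀ ≫ Z.hom = U.hom
    rw [reassoc_of% hu₀]; exact Over.w uu)
  have huz : u ≫ z = uu := Over.OverMorphism.ext hu₀
  have hsu : s ≫ u = t ≫ u := Over.OverMorphism.ext hst₀
  have hd : Epi d := epi_of_local_lifts d fun T y => by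
    obtain ⟨y', hy'⟩ := (yon S).map_surjective (y ≫ pr)
    have sq := (IsPullback.of_hasPullback y' c).map (Over.forget S)
    have : Flat (pullback.fst y' c).left :=
      MorphismProperty.of_isPullback (P := @Flat) sq.flip ‹Flat c.left›
    have : Surjective (pullback.fst y' c).left :=
      MorphismProperty.of_isPullback (P := @Surjective) sq.flip ‹Surjective c.left›
    have : LocallyOfFinitePresentation (pullback.fst y' c).left :=
      MorphismProperty.of_isPullback (P := @LocallyOfFinitePresentation) sq.flip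
        ‹LocallyOfFinitePresentation c.left›
    exact ⟨PUnit, fun _ => _, fun _ => pullback.fst y' c, ofArrows_mem_J _ (fun _ => inferInstance)
      (fun _ => inferInstance) (fun t => ⟨⟨⟩, (pullback.fst y' c).left.surjective t⟩),
      fun _ => ⟨sqQ.lift ((yon S).map (pullback.fst y' c) ≫ y) ((yon S).map (pullback.snd y' c))
        (by rw [Category.assoc, ← hy', ← Functor.map_comp, ← Functor.map_comp, pullback.condition]),
        IsPullback.lift_fst _ _ _ _⟩⟩
  have : EffectiveEpi d := by
    have := IsRegularEpiCategory.regularEpiOfEpi d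
    infer_instance
  let κ : Q ⟶ (yon S).obj Z₀' := EffectiveEpi.desc d ((yon S).map u) fun g₁ g₂ hg => by
    have h3 := congrArg (sqR.lift g₁ g₂ hg ≫ ·) (congrArg (yon S).map hsu)
    simp only [Functor.map_comp, ← Category.assoc, sqR.lift_fst, sqR.lift_snd] at h3
    exact h3
  have hκ : d ≫ κ = (yon S).map u := EffectiveEpi.fac _ _ _
  have hκz : κ ≫ (yon S).map z = pr := by
    rw [← cancel_epi d, reassoc_of% hκ, ← Functor.map_comp, huz, huu]
  -- base change of `κ`
  have sqZ := (IsPullback.of_hasPullback z c).map (Over.forget S)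
  have hφ' : IsIso (φ ≫ (sqZ.isoPullback).inv) := inferInstance
  let φ₁ : Q' ⟶ pullback z c := pullback.lift (Over.homMk (φ ≫ pullback.fst z₀ c.left) (by
      change (φ ≫ pullback.fst z₀ c.left) ≫ z₀ ≫ Z.hom = Q'.hom
      rw [Category.assoc, pullback.condition_assoc, Over.w c]
      rw [← cancel_epi e'.left, reassoc_of% hφ₂]
      rw [Over.w (pullback.snd uu c), Over.w e'])) b' (by
      apply Over.OverMorphism.ext
      change (φ ≫ pullback.fst z₀ c.left) ≫ z₀ = b'.left ≫ c.left
      rw [Category.assoc, pullback.condition, ← cancel_epi e'.left, reassoc_of% hφ₂]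
      rw [← Over.comp_left, ← Over.comp_left, ← Over.comp_left, ← Category.assoc, heb])
  have hφb : φ ≫ pullback.snd z₀ c.left = b'.left := by
    rw [← cancel_epi e'.left, hφ₂]
    exact (congrArg (fun f => Over.Hom.left f) heb).symm
  have hφ₁iso : IsIso φ₁ := by
    have h4 : φ₁.left = φ ≫ sqZ.isoPullback.inv := by
      apply sqZ.hom_ext
      · rw [Category.assoc]
        erw [sqZ.isoPullback_inv_fst]
        exact congrArg (fun f => Over.Hom.left f) (pullback.lift_fst _ _ _)
      · rw [Category.assoc]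
        erw [sqZ.isoPullback_inv_snd]
        refine (congrArg (fun f => Over.Hom.left f) (pullback.lift_snd _ _ _)).trans ?_
        exact hφb.symm
    have : IsIso ((Over.forget S).map φ₁) := by change IsIso φ₁.left; rw [h4]; exact hφ'
    exact isIso_of_reflects_iso φ₁ (Over.forget S)
  have hq'κ : q' ≫ κ = (yon S).map (φ₁ ≫ pullback.fst z c) := by
    have : Epi ((yon S).map e') := epi_of_local_lifts _ fun T y => by
      obtain ⟨y, rfl⟩ := (yon S).map_surjective y
      have sq := (IsPullback.of_hasPullback e' y).map (Over.forget S)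
      have : Flat (pullback.snd e' y).left :=
        MorphismProperty.of_isPullback (P := @Flat) sq he'f
      have : LocallyOfFinitePresentation (pullback.snd e' y).left :=
        MorphismProperty.of_isPullback (P := @LocallyOfFinitePresentation) sq he'p
      have : Surjective (pullback.snd e' y).left :=
        MorphismProperty.of_isPullback (P := @Surjective) sq he's
      exact ⟨PUnit, fun _ => _, fun _ => pullback.snd e' y, ofArrows_mem_J _ (fun _ => inferInstance)
        (fun _ => inferInstance) (fun t => ⟨⟨⟩, (pullback.snd e' y).left.surjective t⟩),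
        fun _ => ⟨(yon S).map (pullback.fst e' y), by
          rw [← Functor.map_comp, ← Functor.map_comp, pullback.condition]⟩⟩
    rw [← cancel_epi ((yon S).map e'), ← Category.assoc, ← sqE.w, Category.assoc, hκ, ← Functor.map_comp,
      ← Functor.map_comp]
    congr 1
    apply Over.OverMorphism.ext
    simp only [φ₁, pullback.lift_fst]
    exact hφ₁.symm
  have : Mono κ := by
    refine mono_of_yon fun T a b e => ?_
    obtain ⟨y, hy⟩ := (yon S).map_surjective (a ≫ κ ≫ (yon S).map z)
    have sq := (IsPullback.of_hasPullback y c).map (Over.forget S)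
    refine hom_ext_of_cover (κ := PUnit) (fun _ => pullback.fst y c) (ofArrows_mem_J _
      (fun _ => MorphismProperty.of_isPullback (P := @Flat) sq.flip ‹Flat c.left›)
      (fun _ => MorphismProperty.of_isPullback (P := @LocallyOfFinitePresentation) sq.flip
        ‹LocallyOfFinitePresentation c.left›)
      (fun t => ⟨⟨⟩, (MorphismProperty.of_isPullback (P := @Surjective) sq.flip
        ‹Surjective c.left›).surj t⟩)) fun _ => ?_
    have lifts : ∀ (a : (yon S).obj T ⟶ Q), a ≫ κ ≫ (yon S).map z = (yon S).map y →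
        ∃ a' : (yon S).obj (pullback y c) ⟶ (yon S).obj Q',
          a' ≫ q' = (yon S).map (pullback.fst y c) ≫ a ∧
          a' ≫ (yon S).map b' = (yon S).map (pullback.snd y c) := by
      intro a ha
      refine ⟨sqQ.lift ((yon S).map (pullback.fst y c) ≫ a) ((yon S).map (pullback.snd y c)) ?_,
        sqQ.lift_fst .., sqQ.lift_snd ..⟩
      rw [Category.assoc, ← hκz, ha, ← Functor.map_comp, ← Functor.map_comp, pullback.condition]
    obtain ⟨a', ha₁, ha₂⟩ := lifts a hy.symm
    obtain ⟨b'', hb₁, hb₂⟩ := lifts b (by rw [← reassoc_of% e, hy])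
    suffices a' = b'' by rw [← ha₁, ← hb₁, this]
    rw [← cancel_mono ((yon S).map φ₁)]
    apply ((IsPullback.of_hasPullback z c).map (yon S)).hom_ext
    · simp only [Category.assoc, ← Functor.map_comp, ← hq'κ, reassoc_of% ha₁, reassoc_of% hb₁, e]
    · simp only [Category.assoc, ← Functor.map_comp, φ₁, pullback.lift_snd, ha₂, hb₂]
  have : IsIso κ := by
    refine isIso_of_mono_of_local_lifts κ fun T y => ?_
    obtain ⟨y, rfl⟩ := (yon S).map_surjective y
    let V := pullback (y ≫ z) c
    have sq := (IsPullback.of_hasPullback (y ≫ z) c).map (Over.forget S)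
    let y' : V ⟶ pullback z c := pullback.lift (pullback.fst (y ≫ z) c ≫ y) (pullback.snd (y ≫ z) c)
      (by rw [Category.assoc]; exact pullback.condition)
    refine ⟨PUnit, fun _ => V, fun _ => pullback.fst (y ≫ z) c, ofArrows_mem_J _
      (fun _ => MorphismProperty.of_isPullback (P := @Flat) sq.flip ‹Flat c.left›)
      (fun _ => MorphismProperty.of_isPullback (P := @LocallyOfFinitePresentation) sq.flip
        ‹LocallyOfFinitePresentation c.left›)
      (fun t => ⟨⟨⟩, (MorphismProperty.of_isPullback (P := @Surjective) sq.flip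
        ‹Surjective c.left›).surj t⟩), fun _ => ⟨(yon S).map (y' ≫ inv φ₁) ≫ q', ?_⟩⟩
    rw [Category.assoc, hq'κ, ← Functor.map_comp, ← Functor.map_comp]
    congr 1
    simp [y']
  exact ⟨Z₀', z, κ, hZ₀, ‹_›, hκz⟩

variable {P : MorphismProperty Scheme.{u}}

/-- An affine-type property over an affine base which holds after a finite fppf cover. -/
theorem exists_rep_of_finite_fppf [P.IsStableUnderBaseChange] [IsZariskiLocalAtTarget P]
    [P.DescendsAlong Groth.Agent.H18Descent.fpqc.{u}] (hPaff : P ≤ @IsAffineHom)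
    {Q : Sp S} {Z : Over S} [IsAffine Z.left] (pr : Q ⟶ (yon S).obj Z) {m : ℕ}
    {W : Fin m → Over S} (c : ∀ j, W j ⟶ Z) [∀ j, IsAffine (W j).left] [∀ j, Flat (c j).left]
    [∀ j, LocallyOfFinitePresentation (c j).left]
    (hs : ∀ z : Z.left, ∃ j, z ∈ Set.range (c j).left)
    (hr : ∀ j, ∃ (V : Over S) (b : V ⟶ W j) (a : (yon S).obj V ⟶ Q),
      IsPullback a ((yon S).map b) pr ((yon S).map (c j)) ∧ P b.left) :
    ∃ (Z₀ : Over S) (z₀ : Z₀ ⟶ Z) (fst : (yon S).obj Z₀ ⟶ Q),
      IsPullback fst ((yon S).map z₀) pr (𝟙 _) ∧ IsAffine Z₀.left ∧ P z₀.left := by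
  let σ : (∐ fun j => (W j).left) ⟶ Z.left := Sigma.desc fun j => (c j).left
  let WS : Over S := Over.mk (σ ≫ Z.hom)
  let cS : WS ⟶ Z := Over.homMk σ rfl
  have hWS : IsAffine WS.left := inferInstanceAs (IsAffine (∐ fun j => (W j).left))
  have hflat : Flat cS.left :=
    IsZariskiLocalAtSource.sigmaDesc (P := @Flat) fun j => ‹∀ j, Flat (c j).left› j
  have hsurj : Surjective cS.left := ⟨fun z => by
    obtain ⟨j, w, rfl⟩ := hs z
    refine ⟨Sigma.ι (fun j => (W j).left) j w, ?_⟩
    change σ _ = _
    rw [← Scheme.Hom.comp_apply, Sigma.ι_desc]⟩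
  let ι : ∀ j, W j ⟶ WS := fun j => Over.homMk (Sigma.ι (fun j => (W j).left) j) (by
    change _ ≫ σ ≫ Z.hom = _
    rw [Sigma.ι_desc_assoc]
    exact Over.w (c j))
  have hιc : ∀ j, ι j ≫ cS = c j := fun j => Over.OverMorphism.ext (Sigma.ι_desc _ _)
  let B : Set WS.left.Opens := {V | IsAffineOpen V ∧ ∃ j, (V : Set WS.left) ⊆ Set.range (ι j).left}
  have hB : TopologicalSpace.Opens.IsBasis B := by
    rw [TopologicalSpace.Opens.isBasis_iff_nbhd]
    intro U x hx
    obtain ⟨j, y, hy⟩ : ∃ j, x ∈ Set.range (ι j).left :=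
      ⟨_, (sigmaOpenCover fun j => (W j).left).covers x⟩
    have : IsOpenImmersion (ι j).left :=
      inferInstanceAs (IsOpenImmersion (Sigma.ι (fun j => (W j).left) j))
    obtain ⟨V, hV, hxV, hle⟩ := TopologicalSpace.Opens.isBasis_iff_nbhd.mp WS.left.isBasis_affineOpens
      (show x ∈ U ⊓ (ι j).left.opensRange from ⟨hx, y, hy⟩)
    exact ⟨V, ⟨hV, j, fun z hz => (hle hz).2⟩, hxV, hle.trans inf_le_left⟩
  have sqQ := IsPullback.of_hasPullback pr ((yon S).map cS)
  obtain ⟨GT, γ, μ, hμ, hμq, hγ⟩ := exists_iso_of_local_rep_property (P := P)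
    (pullback.snd pr ((yon S).map cS)) hB fun V => by
      obtain ⟨j, hj⟩ := V.2.2
      have : IsOpenImmersion (ι j).left :=
        inferInstanceAs (IsOpenImmersion (Sigma.ι (fun j => (W j).left) j))
      have hsub : Set.range V.1.ι ⊆ Set.range (ι j).left := by rwa [Scheme.Opens.range_ι]
      let t : openOver WS V.1 ⟶ W j := Over.homMk (IsOpenImmersion.lift (ι j).left V.1.ι hsub) (by
        rw [← Over.w (ι j), IsOpenImmersion.lift_fac_assoc]
        rfl)
      have ht : t ≫ ι j = openIncl WS V.1 := Over.OverMorphism.ext (IsOpenImmersion.lift_fac _ _ hsub)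
      obtain ⟨V', b, a, sq, hb⟩ := hr j
      have sq1 := ((IsPullback.of_hasPullback b t).map (yon S)).paste_horiz sq
      rw [← Functor.map_comp, ← hιc, ← Category.assoc, ht, Functor.map_comp] at sq1
      refine ⟨pullback b t, pullback.snd b t, sqQ.lift ((yon S).map (pullback.fst b t) ≫ a)
        ((yon S).map (pullback.snd b t) ≫ (yon S).map (openIncl WS V.1))
        (by rw [Category.assoc (f := (yon S).map (pullback.snd b t))]; exact sq1.w), ?_, ?_⟩
      · exact IsPullback.of_right (by rw [sqQ.lift_fst]; exact sq1) (sqQ.lift_snd _ _ _) sqQ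
      · exact MorphismProperty.of_isPullback (P := P) ((IsPullback.of_hasPullback b t).map (Over.forget S)) hb
  have hγaff : IsAffineHom γ.left := hPaff _ hγ
  have hGT : IsAffine GT.left := isAffine_of_isAffineHom γ.left
  have sqG : IsPullback (μ ≫ pullback.fst pr ((yon S).map cS)) ((yon S).map γ) pr ((yon S).map cS) := by
    have sq₀ : IsPullback μ ((yon S).map γ) (pullback.snd pr ((yon S).map cS)) (𝟙 _) :=
      IsPullback.of_horiz_isIso ⟨by rw [hμq, Category.comp_id]⟩
    have := sq₀.paste_horiz sqQ
    rwa [Category.id_comp] at this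
  have hlfp : LocallyOfFinitePresentation cS.left :=
    IsZariskiLocalAtSource.sigmaDesc (P := @LocallyOfFinitePresentation)
      fun j => ‹∀ j, LocallyOfFinitePresentation (c j).left› j
  obtain ⟨Z₀, z₀, κ, hZ₀, hκ, hκz⟩ := exists_iso_affine' pr cS (μ ≫ pullback.fst pr ((yon S).map cS)) γ sqG
  have sqZ : IsPullback (inv κ) ((yon S).map z₀) pr (𝟙 _) :=
    IsPullback.of_horiz_isIso ⟨by rw [Category.comp_id, IsIso.inv_comp_eq, hκz]⟩
  refine ⟨Z₀, z₀, inv κ, sqZ, hZ₀, ?_⟩
  have sq' := ((IsPullback.of_hasPullback z₀ cS).map (yon S)).paste_horiz sqZ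
  rw [Category.comp_id] at sq'
  have h1 : P (pullback.snd z₀ cS).left := property_of_squares sqG sq' hγ
  exact MorphismProperty.of_isPullback_of_descendsAlong (P := P) (Q := Groth.Agent.H18Descent.fpqc.{u})
    ((IsPullback.of_hasPullback z₀ cS).map (Over.forget S)).flip
    ⟨⟨hsurj, hflat⟩, inferInstanceAs (QuasiCompact cS.left)⟩ h1

/-- A family of flat, locally finitely presented maps covering an affine scheme has a finite
refinement by affine schemes. -/
theorem exists_finite_affine_refinement {Z : Over S} [IsAffine Z.left] {κ : Type*} {C : κ → Over S}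
    (c : ∀ i, C i ⟶ Z) (hfl : ∀ i, Flat (c i).left)
    (hfp : ∀ i, LocallyOfFinitePresentation (c i).left)
    (hs : ∀ z : Z.left, ∃ i, z ∈ Set.range (c i).left) :
    ∃ (m : ℕ) (W : Fin m → Over S) (d : ∀ j, W j ⟶ Z), (∀ j, IsAffine (W j).left) ∧
      (∀ j, Flat (d j).left) ∧ (∀ j, LocallyOfFinitePresentation (d j).left) ∧
      (∀ z : Z.left, ∃ j, z ∈ Set.range (d j).left) ∧ ∀ j, ∃ i, ∃ l : W j ⟶ C i, l ≫ c i = d j := by
  choose i y hy using hs
  have hV : ∀ z, ∃ V : (C (i z)).left.Opens, IsAffineOpen V ∧ y z ∈ V := fun z => by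
    obtain ⟨V, hV, hyV, -⟩ := TopologicalSpace.Opens.isBasis_iff_nbhd.mp
      (C (i z)).left.isBasis_affineOpens (TopologicalSpace.Opens.mem_top (y z))
    exact ⟨V, hV, hyV⟩
  choose V hVa hyV using hV
  let d : ∀ z, openOver (C (i z)) (V z) ⟶ Z := fun z => openIncl (C (i z)) (V z) ≫ c (i z)
  have hdfl : ∀ z, Flat (d z).left := fun z =>
    have := hfl (i z)
    inferInstanceAs (Flat ((V z).ι ≫ (c (i z)).left))
  have hdfp : ∀ z, LocallyOfFinitePresentation (d z).left := fun z =>
    have := hfp (i z)
    inferInstanceAs (LocallyOfFinitePresentation ((V z).ι ≫ (c (i z)).left))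
  have hopen : ∀ z, IsOpen (Set.range (d z).left) := fun z =>
    have := hdfl z
    have := hdfp z
    (d z).left.isOpenMap.isOpen_range
  obtain ⟨t, ht⟩ := isCompact_univ.elim_finite_subcover (fun z => Set.range (d z).left) hopen
    fun z _ => Set.mem_iUnion.2 ⟨z, ⟨⟨y z, hyV z⟩, hy z⟩⟩
  let e := t.equivFin.symm
  refine ⟨t.card, fun j => openOver (C (i (e j).1)) (V (e j).1), fun j => d (e j).1,
    fun j => hVa _, fun j => hdfl _, fun j => hdfp _, fun z => ?_, fun j => ⟨_, _, rfl⟩⟩
  obtain ⟨w, hw, hz⟩ := Set.mem_iUnion₂.1 (ht (Set.mem_univ z))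
  refine ⟨e.symm ⟨w, hw⟩, ?_⟩
  change z ∈ Set.range (d (e (e.symm ⟨w, hw⟩)).1).left
  rwa [Equiv.apply_symm_apply]

/-- A sheaf over a scheme with an fppf-local affine-type property is representable with it. -/
theorem exists_rep_of_fppf_local [P.IsStableUnderBaseChange] [IsZariskiLocalAtTarget P]
    [P.DescendsAlong Groth.Agent.H18Descent.fpqc.{u}] (hPaff : P ≤ @IsAffineHom)
    {Q : Sp S} {U : Over S} (q : Q ⟶ (yon S).obj U) {κ : Type*} {C : κ → Over S}
    (c : ∀ i, C i ⟶ U) (hfl : ∀ i, Flat (c i).left)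
    (hfp : ∀ i, LocallyOfFinitePresentation (c i).left)
    (hs : ∀ z : U.left, ∃ i, z ∈ Set.range (c i).left)
    (hloc : ∀ i, ∃ (V : Over S) (b : V ⟶ C i) (a : (yon S).obj V ⟶ Q),
      IsPullback a ((yon S).map b) q ((yon S).map (c i)) ∧ P b.left) :
    ∃ (GT : Over S) (γ : GT ⟶ U) (μ : (yon S).obj GT ⟶ Q),
      IsIso μ ∧ μ ≫ q = (yon S).map γ ∧ P γ.left := by
  have hq : RepWith P q := repWith_of_affine_base fun Z hZ g => by
    obtain ⟨g, rfl⟩ := (yon S).map_surjective g
    have sqc : ∀ i, IsPullback (pullback.snd (c i) g).left (pullback.fst (c i) g).left g.left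
        (c i).left := fun i => ((IsPullback.of_hasPullback (c i) g).map (Over.forget S)).flip
    obtain ⟨m, W, d, hWa, hdfl, hdfp, hds, hfac⟩ := exists_finite_affine_refinement
      (fun i => pullback.snd (c i) g)
      (fun i => MorphismProperty.of_isPullback (P := @Flat) (sqc i).flip (hfl i))
      (fun i => MorphismProperty.of_isPullback (P := @LocallyOfFinitePresentation) (sqc i).flip (hfp i))
      (fun z => by
        obtain ⟨i, w, hw⟩ := hs (g.left z)
        obtain ⟨p, hp, -⟩ := Scheme.Pullback.exists_preimage_pullback (f := g.left) (g := (c i).left)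
          z w hw.symm
        refine ⟨i, (sqc i).isoPullback.inv p, ?_⟩
        rw [← Scheme.Hom.comp_apply, (sqc i).isoPullback_inv_fst]
        exact hp)
    have sqQ := IsPullback.of_hasPullback q ((yon S).map g)
    obtain ⟨Z₀, z₀, fst, sqZ, -, hz₀⟩ := exists_rep_of_finite_fppf hPaff
      (pullback.snd q ((yon S).map g)) d hds fun j => by
        obtain ⟨i, l, hl⟩ := hfac j
        obtain ⟨V, b, a, sqV, hb⟩ := hloc i
        let k := l ≫ pullback.fst (c i) g
        have hk : k ≫ c i = d j ≫ g := by
          rw [← hl, Category.assoc, Category.assoc, pullback.condition]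
        have sq1 := ((IsPullback.of_hasPullback b k).map (yon S)).paste_horiz sqV
        rw [← Functor.map_comp, hk, Functor.map_comp] at sq1
        refine ⟨pullback b k, pullback.snd b k, sqQ.lift ((yon S).map (pullback.fst b k) ≫ a)
          ((yon S).map (pullback.snd b k) ≫ (yon S).map (d j))
          (by rw [Category.assoc ((yon S).map (pullback.snd b k))]; exact sq1.w),
          IsPullback.of_right (by rw [sqQ.lift_fst]; exact sq1) (sqQ.lift_snd _ _ _) sqQ, ?_⟩
        exact MorphismProperty.of_isPullback (P := P)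
          ((IsPullback.of_hasPullback b k).map (Over.forget S)) hb
    have := sqZ.paste_horiz sqQ
    rw [Category.id_comp] at this
    exact ⟨Z₀, z₀, _, this, hz₀⟩
  obtain ⟨GT, γ, μ, sq⟩ := hq.rep (𝟙 ((yon S).obj U))
  have : IsIso μ := sq.isIso_fst_of_isIso
  exact ⟨GT, γ, μ, this, by rw [sq.w, Category.comp_id], hq.property _ _ _ sq⟩

end Groth.Agent.H14Quot
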