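import Groth.Agent.H14Quot.QuotStack
import Groth.Agent.H14Stk.EquivFF
import Groth.Agent.H14Stk.Gerbe
import Groth.Agent.H14Stk.Gerbe2
import Groth.Prelude.Def_AlgSt6

/-!
# A gerbe over the base with a point is the classifying stack of the automorphisms of the point
-/

set_option autoImplicit false
set_option backward.isDefEq.respectTransparency false
set_option backward.isDefEq.respectTransparency.types false

universe u

open CategoryTheory CategoryTheory.Functor CategoryTheory.Limits AlgebraicGeometry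
open MonoidalCategory CartesianMonoidalCategory

noncomputable section

namespace Groth.Agent.H14Quot

open H14Fib H14Stk AlgSt MonObj

variable {S : Scheme.{u}} {G : Over S} [GrpObj G]

local notation "K₀" => Scheme.fppfPrecoverage

/-- The trivial torsor over an object. -/
abbrev trivTors (T : Over S) : (AlgSt.BG K₀ G).obj := triv K₀ G (trivAction G) (toUnit T)

/-- An object, as an object over the base. -/
abbrev cT (T : Over S) : Over (Over.mk (𝟙 S) : Over S) := Over.mk (Over.homMk T.hom (Category.comp_id _) : T ⟶ Over.mk (𝟙 S))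

/-- A morphism, as a morphism over the base. -/
abbrev nT {T' T : Over S} (t : T' ⟶ T) : cT T' ⟶ cT T :=
  Over.homMk t (Over.mkIdTerminal.hom_ext _ _)

/-- The element of the group attached to a morphism of trivial torsors. -/
def gpElt {T' T : Over S} (h : trivTors (G := G) T' ⟶ trivTors T) : T' ⟶ G :=
  secOfHom h ≫ fst G T

lemma secOfHom_triv {T' T : Over S} (h : trivTors (G := G) T' ⟶ trivTors T) :
    secOfHom h = lift (gpElt h) h.base := by
  apply CartesianMonoidalCategory.hom_ext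
  · exact (lift_fst _ _).symm
  · exact (secOfHom_π h).trans (lift_snd _ _).symm

lemma gpElt_id (T : Over S) : gpElt (𝟙 (trivTors (G := G) T)) = 1 := by
  have e : secOfHom (𝟙 (trivTors (G := G) T)) = unitSec G T := Category.comp_id _
  rw [gpElt, e, lift_fst]

lemma gpElt_comp {T'' T' T : Over S} (h : trivTors (G := G) T'' ⟶ trivTors T')
    (k : trivTors (G := G) T' ⟶ trivTors T) : gpElt (h ≫ k) = gpElt h * (show T'' ⟶ G from h.base ≫ gpElt k) := by
  have e : k.top = (G ◁ secOfHom k) ≫ (leftMul G T).act :=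
    (congrArg (fun t => t.top) (homOfSec_secOfHom k)).symm
  have e' : secOfHom (h ≫ k) = secOfHom h ≫ k.top := (Category.assoc _ _ _).symm
  rw [gpElt, e', e, secOfHom_triv h, secOfHom_triv k]
  simp [leftMul, comp_mul]
  erw [lift_fst, lift_snd_assoc, lift_fst]

variable {𝒳 : AlgSt.Cat S} (x : FibCat.overCat (Over.mk (𝟙 S) : Over S) ⥤ᵇ 𝒳)
  (r : Gerb.AutRep x (Gerb.ptsGrp (Over.mk (𝟙 S) : Over S) G))

/-- The automorphism of the point attached to an element of the group. -/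
def autAt {T : Over S} (g : T ⟶ G) : Gerb.AutO (x.obj (cT T)) := r.iso (cT T) (g : T ⟶ G)

lemma autAt_mul {T : Over S} (g g' : T ⟶ G) :
    autAt x r (g * g') = autAt x r g * autAt x r g' := map_mul (r.iso (cT T)) _ _

lemma autAt_one {T : Over S} : autAt x r (1 : T ⟶ G) = 1 := map_one (r.iso (cT T))

lemma autAt_bijective (T : Over S) : Function.Bijective (autAt x r : (T ⟶ G) → _) :=
  (r.iso (cT T)).bijective

lemma autAt_nat {T' T : Over S} (t : T' ⟶ T) (g : T ⟶ G) :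
    (autAt x r (t ≫ g)).hom.1 ≫ x.map (nT t) = x.map (nT t) ≫ (autAt x r g).hom.1 :=
  r.natural (nT t) g

lemma lift_x {T' T : Over S} (t : T' ⟶ T) : 𝒳.p.IsHomLift t (x.map (nT t)) :=
  @BasedFunctor.preserves_isHomLift _ _ _ _ x _ _ _ _ t _
    (IsHomLift.of_fac' (FibCat.overCat (Over.mk (𝟙 S) : Over S)).p t (nT t) rfl rfl (by
      change t = 𝟙 _ ≫ t ≫ 𝟙 _
      simp))

lemma lift_aut {T : Over S} (g : T ⟶ G) : 𝒳.p.IsHomLift (𝟙 T) (autAt x r g).hom.1 := by
  exact IsHomLift.of_fac' 𝒳.p _ _ (x.w_obj (cT T)) (x.w_obj (cT T)) (by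
    rw [@IsHomLift.fac' _ _ _ _ 𝒳.p _ _ _ _ _ _ (autAt x r g).hom.2]
    simp)

/-- The value of the comparison on morphisms of trivial torsors. -/
def cmpMap {T' T : Over S} (h : trivTors (G := G) T' ⟶ trivTors T) :
    x.obj (cT T') ⟶ x.obj (cT T) :=
  (autAt x r (gpElt h)⁻¹).hom.1 ≫ x.map (nT h.base)

lemma cmpMap_lift {T' T : Over S} (h : trivTors (G := G) T' ⟶ trivTors T) :
    𝒳.p.IsHomLift (show T' ⟶ T from h.base) (cmpMap x r h) := by
  have h1 := homLift_comp' (lift_aut x r (gpElt h)⁻¹) (lift_x x (show T' ⟶ T from h.base))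
  rw [Category.id_comp] at h1
  exact h1

/-- The comparison on the trivial torsors. -/
def cmp : HomMap (fun T : Over S => trivTors (G := G) T) (fun T : Over S => x.obj (cT T)) where
  map h := cmpMap x r h
  lift {T' T} h V W g hg := by
    obtain rfl : T' = V := @IsHomLift.domain_eq _ _ _ _ (AlgSt.BG K₀ G).p _ _ _ _ g h hg
    obtain rfl : T = W := @IsHomLift.codomain_eq _ _ _ _ (AlgSt.BG K₀ G).p _ _ _ _ g h hg
    have e : g = h.base :=
      (@IsHomLift.fac _ _ _ _ (AlgSt.BG K₀ G).p _ _ _ _ g h hg).trans (by simp; rfl)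
    exact e ▸ cmpMap_lift x r h
  map_id T := by
    rw [cmpMap, gpElt_id, inv_one, autAt_one, autO_one_hom, Category.id_comp]
    exact x.toFunctor.map_id _
  map_comp {T'' T' T} h k := by
    have e : nT (h ≫ k).base = nT h.base ≫ nT k.base := Over.OverMorphism.ext rfl
    rw [cmpMap, gpElt_comp, mul_inv_rev, autAt_mul, autO_mul_hom, e,
      show x.map (nT h.base ≫ nT k.base) = x.map (nT h.base) ≫ x.map (nT k.base) from
        x.toFunctor.map_comp _ _,
      show (h.base ≫ gpElt k)⁻¹ = h.base ≫ (gpElt k)⁻¹ from (GrpObj.comp_inv _ _).symm]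
    simp only [cmpMap, Category.assoc]
    rw [← Category.assoc (autAt x r (h.base ≫ (gpElt k)⁻¹)).hom.1, autAt_nat, Category.assoc]

lemma cmp_bijective (h𝒳 : FibCat.IsFibGrpd 𝒳.p) (T' T : Over S) :
    Function.Bijective ((cmp x r).map (i := T') (j := T)) := by
  have hT' : 𝒳.p.obj (x.obj (cT T')) = T' := x.w_obj _
  have hT : 𝒳.p.obj (x.obj (cT T)) = T := x.w_obj _
  constructor
  · intro h k e
    have hb : h.base = k.base := by
      have h1 := cmpMap_lift x r h
      have h2 : 𝒳.p.IsHomLift k.base (cmpMap x r h) :=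
        (show cmpMap x r h = cmpMap x r k from e) ▸ cmpMap_lift x r k
      rw [@IsHomLift.fac _ _ _ _ 𝒳.p _ _ _ _ h.base _ h1,
        @IsHomLift.fac _ _ _ _ 𝒳.p _ _ _ _ k.base _ h2]
    have hg : gpElt h = gpElt k := by
      apply inv_injective
      apply (autAt_bijective x r T').1
      apply autO_ext
      have e' : cmpMap x r h = cmpMap x r k := e
      rw [cmpMap, cmpMap, ← hb] at e'
      have := lift_aut x r (gpElt h)⁻¹
      have := lift_aut x r (gpElt k)⁻¹
      have := lift_x x h.base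
      have := sc_of_fibGrpd h𝒳 h.base (x.map (nT h.base))
      exact IsStronglyCartesian.ext 𝒳.p h.base (x.map (nT h.base)) (𝟙 T') e'
    have hs : secOfHom h = secOfHom k := by rw [secOfHom_triv h, secOfHom_triv k, hb, hg]
    rw [← homOfSec_secOfHom h, ← homOfSec_secOfHom k]
    congr 1
  · intro β
    let t : T' ⟶ T := eqToHom hT'.symm ≫ 𝒳.p.map β ≫ eqToHom hT
    have hβ : 𝒳.p.IsHomLift t β := IsHomLift.of_fac' 𝒳.p t β hT' hT (by simp [t])
    have := lift_x x t
    obtain ⟨α, hα⟩ := exists_aut_of_parallel h𝒳 (x.map (nT t)) β (by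
      rw [@IsHomLift.fac' _ _ _ _ 𝒳.p _ _ _ _ t (x.map (nT t)) (lift_x x t),
        @IsHomLift.fac' _ _ _ _ 𝒳.p _ _ _ _ t β hβ])
    obtain ⟨g, hg⟩ := (autAt_bijective x r T').2 α
    let h : trivTors (G := G) T' ⟶ trivTors T :=
      homOfSec (lift g⁻¹ t : T' ⟶ G ⊗ T) (toUnit_unique _ _)
    have hb : h.base = t := lift_snd _ _
    have hge : gpElt h = g⁻¹ := by
      rw [gpElt, secOfHom_homOfSec, lift_fst]
    refine ⟨h, ?_⟩
    change cmpMap x r h = β
    rw [cmpMap, hge, inv_inv, hg, hb, hα]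

lemma pullStable_triv : PullStable (fun T : Over S => trivTors (G := G) T) := by
  intro T V W g hW
  change T = W at hW
  subst hW
  let h : trivTors (G := G) V ⟶ trivTors T :=
    homOfSec (lift 1 g : V ⟶ G ⊗ T) (toUnit_unique _ _)
  exact ⟨V, h, IsHomLift.of_fac' _ _ _ rfl rfl (by
    change lift 1 g ≫ snd G T = 𝟙 _ ≫ g ≫ 𝟙 _
    simp)⟩

lemma locCovers_trivTors :
    LocCovers (QuotSh.J K₀ S) (fun T : Over S => trivTors (G := G) T) := by
  intro A
  obtain ⟨R₀, hR₀, hs⟩ := A.loc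
  obtain ⟨κ, Z, g, rfl⟩ := Presieve.exists_eq_ofArrows R₀
  refine ⟨Sieve.ofArrows _ (fun i : κ => (Over.homMk (g i) rfl : Over.mk (g i ≫ A.base.hom) ⟶ A.base)),
    mem_J_of_family le_rfl hR₀ (fun i => ⟨_, 𝟙 _, _, ⟨i⟩, Category.id_comp _⟩), ?_⟩
  rintro V f ⟨W, k, _, ⟨j⟩, rfl⟩
  obtain ⟨s, hs₁⟩ := hs (g j) ⟨j⟩
  change s ≫ A.π.left = g j at hs₁
  let σ : Over.mk (g j ≫ A.base.hom) ⟶ A.P := Over.homMk s (by
    change s ≫ A.P.hom = g j ≫ A.base.hom
    rw [← hs₁, Category.assoc, Over.w A.π])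
  let m : trivTors (G := G) V ⟶ A := homOfSec (k ≫ σ) (toUnit_unique _ _)
  refine ⟨V, m, IsHomLift.of_fac' _ _ _ rfl rfl (by
    change (k ≫ σ) ≫ A.π = 𝟙 _ ≫ (k ≫ _) ≫ 𝟙 _
    rw [Category.id_comp, Category.comp_id, Category.assoc]
    congr 1
    exact Over.OverMorphism.ext hs₁)⟩

variable {x}

lemma locCovers_point {J : GrothendieckTopology (Over S)} (h𝒳 : FibCat.IsFibGrpd 𝒳.p)
    (π : 𝒳 ⥤ᵇ FibCat.overCat (Over.mk (𝟙 S) : Over S)) (hπ : Gerb.IsGerbeOver J π)
    (e : BasedFunctor.comp x π ≅ BasedFunctor.id (FibCat.overCat (Over.mk (𝟙 S) : Over S))) :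
    LocCovers J (fun T : Over S => x.obj (cT T)) := by
  intro ξ
  let w₀ : 𝒳.obj := x.obj (π.obj ξ)
  let b : π.obj w₀ ⟶ π.obj ξ := e.hom.app (π.obj ξ)
  have hb : (FibCat.overCat (Over.mk (𝟙 S) : Over S)).p.IsHomLift (𝟙 (𝒳.p.obj ξ)) b := by
    have h0 : (FibCat.overCat (Over.mk (𝟙 S) : Over S)).p.obj (π.obj ξ) = 𝒳.p.obj ξ := π.w_obj ξ
    exact h0 ▸ BasedNatTrans.isHomLift e.hom rfl
  have hη : 𝒳.p.obj w₀ = 𝒳.p.obj ξ := (x.w_obj _).trans (π.w_obj ξ)
  refine (locHom_at hπ.2 b hη).mono ?_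
  rintro V f ⟨x₀, φ, ψ, hφ, hψ, -⟩
  have hl : (π.obj ξ).left = 𝒳.p.obj ξ := π.w_obj ξ
  let t : V ⟶ (π.obj ξ).left := f ≫ eqToHom hl.symm
  let n : cT V ⟶ π.obj ξ := Over.homMk t (Over.mkIdTerminal.hom_ext _ _)
  have hn : 𝒳.p.IsHomLift f (x.map n) := by
    refine @BasedFunctor.preserves_isHomLift _ _ _ _ x _ _ _ _ f _
      (IsHomLift.of_fac' (FibCat.overCat (Over.mk (𝟙 S) : Over S)).p f n rfl hl ?_)
    change t = 𝟙 _ ≫ f ≫ eqToHom hl.symm
    simp [t]
  obtain ⟨i, hi, -⟩ := exists_vertIso h𝒳 f (x.map n) φ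
  exact ⟨V, i.hom ≫ ψ, by simpa using homLift_comp' hi hψ⟩

variable (x) in
/-- A gerbe over the base with a point is the classifying stack of the automorphism group. -/
theorem isQuotientOf_neutral (h𝒳 : Stk.IsStack (QuotSh.J K₀ S) 𝒳) [IsAffineHom G.hom]
    (π : 𝒳 ⥤ᵇ FibCat.overCat (Over.mk (𝟙 S) : Over S)) (hπ : Gerb.IsGerbeOver (QuotSh.J K₀ S) π)
    (e : BasedFunctor.comp x π ≅ BasedFunctor.id (FibCat.overCat (Over.mk (𝟙 S) : Over S)))
    (r : Gerb.AutRep x (Gerb.ptsGrp (Over.mk (𝟙 S) : Over S) G)) :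
    AlgSt.IsQuotientOf K₀ G (AlgSt.trivAction G) 𝒳 :=
  exists_equiv_of_bijective (cmp x r) (isStack_quotSt le_rfl inferInstance) h𝒳
    (cmp_bijective x r h𝒳.1) pullStable_triv locCovers_trivTors
    (locCovers_point h𝒳.1 π hπ e)

end Groth.Agent.H14Quot
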