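import Groth.Agent.H14Quot.Pieces

/-!
# Descent of sheaves along a sieve
-/

set_option autoImplicit false
set_option backward.isDefEq.respectTransparency false
set_option backward.isDefEq.respectTransparency.types false

universe u

open CategoryTheory CategoryTheory.Limits AlgebraicGeometry Opposite
open AlgSp

namespace Groth.Agent.H14Quot

variable {S : Scheme.{u}} {U : Over S}

/-- A cartesian descent datum of sheaves over the arrows of a sieve. -/
structure Datum (R : Sieve U) where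
  /-- the sheaf over an arrow -/
  P : Idx R → Sp S
  /-- its structure map -/
  π : ∀ a : Idx R, P a ⟶ (yon S).obj a.obj.left
  /-- the transition maps -/
  φ : ∀ {a b : Idx R}, (a ⟶ b) → (P a ⟶ P b)
  cart : ∀ {a b : Idx R} (m : a ⟶ b), IsPullback (φ m) (π a) (π b) ((yon S).map m.hom.left)
  φ_id : ∀ a : Idx R, φ (𝟙 a) = 𝟙 _
  φ_comp : ∀ {a b c : Idx R} (m : a ⟶ b) (n : b ⟶ c), φ (m ≫ n) = φ m ≫ φ n

variable {R : Sieve U} (D : Datum R)

/-- A point of the glued sheaf over `T`. -/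
@[ext]
structure Datum.Pt (T : Over S) : Type (u + 1) where
  /-- the underlying point of the base -/
  c : T ⟶ U
  /-- the sections of the pieces -/
  s : ∀ (a : Idx R) (g : a.obj.left ⟶ T), g ≫ c = a.obj.hom → ((yon S).obj a.obj.left ⟶ D.P a)
  sect : ∀ a g h, s a g h ≫ D.π a = 𝟙 _
  compat : ∀ (a b : Idx R) (m : a ⟶ b) (g : b.obj.left ⟶ T) (h : g ≫ c = b.obj.hom),
    s a (m.hom.left ≫ g) (by rw [Category.assoc, h]; exact Over.w m.hom) ≫ D.φ m =
      (yon S).map m.hom.left ≫ s b g h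

variable {D} in
lemma Datum.Pt.ext' {T : Over S} {p p' : D.Pt T} (hc : p.c = p'.c)
    (hs : ∀ a g h h', p.s a g h = p'.s a g h') : p = p' := by
  obtain ⟨c, s, _, _⟩ := p
  obtain ⟨c', s', _, _⟩ := p'
  subst hc
  obtain rfl : s = s' := funext fun a => funext fun g => funext fun h => hs a g h h
  rfl

variable {D} in
lemma Datum.Pt.s_congr {T : Over S} {p p' : D.Pt T} (e : p = p') (a : Idx R)
    (g : a.obj.left ⟶ T) (h : g ≫ p.c = a.obj.hom) (h' : g ≫ p'.c = a.obj.hom) :
    p.s a g h = p'.s a g h' := by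
  subst e; rfl

variable {D} in
/-- Restriction of points. -/
def Datum.Pt.restrict {T T' : Over S} (k : T' ⟶ T) (p : D.Pt T) : D.Pt T' where
  c := k ≫ p.c
  s a g h := p.s a (g ≫ k) (by rw [Category.assoc, h])
  sect a g h := p.sect _ _ _
  compat a b m g h := by
    have := p.compat a b m (g ≫ k) (by rw [Category.assoc, h])
    refine Eq.trans ?_ this
    congr 2

variable {D} in
lemma Datum.Pt.restrict_s {T T' : Over S} (k : T' ⟶ T) (p : D.Pt T) (a : Idx R)
    (g : a.obj.left ⟶ T') (h : g ≫ (p.restrict k).c = a.obj.hom)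
    (g' : a.obj.left ⟶ T) (h' : g' ≫ p.c = a.obj.hom) (e : g ≫ k = g') :
    (p.restrict k).s a g h = p.s a g' h' := by
  subst e; rfl

/-- The sub-index of an arrow into an index. -/
abbrev idxComp (a : Idx R) {W : Over S} (h : W ⟶ a.obj.left) : Idx R :=
  idxMk (h ≫ a.obj.hom) (R.downward_closed a.property h)

/-- The map of the sub-index. -/
abbrev idxHom (a : Idx R) {W : Over S} (h : W ⟶ a.obj.left) : idxComp a h ⟶ a :=
  ObjectProperty.homMk (Over.homMk h rfl)

section Ev

variable {D} {T T' W W' : Over S}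

/-- The value of a point along an arrow into a piece. -/
noncomputable def Datum.Pt.ev (p : D.Pt T) (a : Idx R) (h : W ⟶ a.obj.left) (g : W ⟶ T)
    (e : g ≫ p.c = h ≫ a.obj.hom) : (yon S).obj W ⟶ D.P a :=
  p.s (idxComp a h) g e ≫ D.φ (idxHom a h)

lemma Datum.Pt.ev_congr {p p' : D.Pt T} {a : Idx R} {h h' : W ⟶ a.obj.left} {g g' : W ⟶ T}
    (ep : p = p') (eh : h = h') (eg : g = g') (e : g ≫ p.c = h ≫ a.obj.hom)
    (e' : g' ≫ p'.c = h' ≫ a.obj.hom) : p.ev a h g e = p'.ev a h' g' e' := by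
  subst ep eh eg; rfl

lemma Datum.Pt.ev_proj (p : D.Pt T) (a : Idx R) (h : W ⟶ a.obj.left) (g : W ⟶ T)
    (e : g ≫ p.c = h ≫ a.obj.hom) : p.ev a h g e ≫ D.π a = (yon S).map h := by
  rw [Datum.Pt.ev, Category.assoc, (D.cart (idxHom a h)).w, ← Category.assoc, p.sect]
  exact Category.id_comp _

lemma Datum.Pt.ev_nat (p : D.Pt T) (a : Idx R) (h : W ⟶ a.obj.left) (g : W ⟶ T)
    (e : g ≫ p.c = h ≫ a.obj.hom) (l : W' ⟶ W) :
    (yon S).map l ≫ p.ev a h g e =
      p.ev a (l ≫ h) (l ≫ g) (by rw [Category.assoc, Category.assoc, e]) := by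
  let m : idxComp a (l ≫ h) ⟶ idxComp a h :=
    ObjectProperty.homMk (Over.homMk l (Category.assoc _ _ _).symm)
  refine (Category.assoc _ _ _).symm.trans
    ((congrArg (· ≫ D.φ (idxHom a h)) (p.compat _ _ m g e).symm).trans ?_)
  rw [Category.assoc, ← D.φ_comp]
  rfl

lemma Datum.Pt.ev_map (p : D.Pt T) {a b : Idx R} (m : a ⟶ b) (h : W ⟶ a.obj.left) (g : W ⟶ T)
    (e : g ≫ p.c = h ≫ a.obj.hom) :
    p.ev a h g e ≫ D.φ m =
      p.ev b (h ≫ m.hom.left) g (by rw [e, Category.assoc, Over.w m.hom]) := by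
  let n : idxComp a h ⟶ idxComp b (h ≫ m.hom.left) :=
    ObjectProperty.homMk (Over.homMk (𝟙 W) (by
      change 𝟙 W ≫ (h ≫ m.hom.left) ≫ b.obj.hom = h ≫ a.obj.hom
      rw [Category.id_comp, Category.assoc, Over.w m.hom]))
  have e' : g ≫ p.c = (h ≫ m.hom.left) ≫ b.obj.hom := by rw [e, Category.assoc, Over.w m.hom]
  have h1 : p.s (idxComp a h) g e ≫ D.φ n = p.s (idxComp b (h ≫ m.hom.left)) g e' := by
    have h2 := p.compat _ _ n g e'
    rw [show (yon S).map n.hom.left = 𝟙 _ from (yon S).map_id W, Category.id_comp] at h2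
    refine Eq.trans ?_ h2
    congr 2
  have h3 : idxHom a h ≫ m = n ≫ idxHom b (h ≫ m.hom.left) :=
    ObjectProperty.hom_ext _ (Over.OverMorphism.ext (Category.id_comp _).symm)
  rw [Datum.Pt.ev, Datum.Pt.ev, Category.assoc, ← D.φ_comp, h3, D.φ_comp, ← Category.assoc, h1]

lemma Datum.Pt.ev_id (p : D.Pt T) (a : Idx R) (g : a.obj.left ⟶ T) (e : g ≫ p.c = a.obj.hom) :
    p.ev a (𝟙 _) g (by rw [e, Category.id_comp]) = p.s a g e := by
  have h2 := p.compat (idxComp a (𝟙 _)) a (idxHom a (𝟙 _)) g e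
  rw [show (yon S).map (idxHom a (𝟙 _)).hom.left = 𝟙 _ from (yon S).map_id _,
    Category.id_comp] at h2
  refine Eq.trans ?_ h2
  rw [Datum.Pt.ev]
  congr 2

lemma Datum.Pt.s_map (p : D.Pt T) (a : Idx R) (g : a.obj.left ⟶ T) (e : g ≫ p.c = a.obj.hom)
    (l : W ⟶ a.obj.left) :
    (yon S).map l ≫ p.s a g e = p.ev a l (l ≫ g) (by rw [Category.assoc, e]) := by
  rw [← p.ev_id a g e, p.ev_nat]
  exact Datum.Pt.ev_congr rfl (Category.comp_id l) rfl _ _

lemma Datum.Pt.ev_restrict (p : D.Pt T) (k : T' ⟶ T) (a : Idx R) (h : W ⟶ a.obj.left)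
    (g : W ⟶ T') (e : g ≫ (p.restrict k).c = h ≫ a.obj.hom) :
    (p.restrict k).ev a h g e =
      p.ev a h (g ≫ k) ((Category.assoc _ _ _).trans e) := rfl

end Ev

/-- The glued presheaf. -/
noncomputable def Datum.psh : (Over S)ᵒᵖ ⥤ Type (u + 1) where
  obj T := D.Pt T.unop
  map {T T'} k := ↾fun p => p.restrict k.unop
  map_id T := by
    refine ConcreteCategory.hom_ext _ _ fun p => ?_
    exact Datum.Pt.ext' (Category.id_comp _) fun a g h h' =>
      Datum.Pt.restrict_s _ p a g h g h' (Category.comp_id g)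
  map_comp {T T' T''} k l := by
    refine ConcreteCategory.hom_ext _ _ fun p => ?_
    exact Datum.Pt.ext' (Category.assoc _ _ _) fun a g h h' =>
      (Datum.Pt.restrict_s _ p a g h ((g ≫ l.unop) ≫ k.unop)
        (by rw [Category.assoc, Category.assoc]; exact h') (Category.assoc _ _ _).symm)

theorem Datum.isSheaf : Presieve.IsSheaf (J S) D.psh := by
  intro T S' hS' fam hfam
  -- the underlying point
  obtain ⟨c₀, hc₀⟩ := yon_glue (Q := (yon S).obj U) hS'
    (fun W k hk => (yon S).map (fam k hk).c) (fun W W' l k hk => by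
      rw [← Functor.map_comp]
      exact congrArg (yon S).map (congrArg Datum.Pt.c
        ((Presieve.compatible_iff_sieveCompatible fam).1 hfam k l hk)).symm)
  obtain ⟨c, rfl⟩ := (yon S).map_surjective c₀
  have hc : ∀ {W : Over S} (k : W ⟶ T) (hk : S' k), k ≫ c = (fam k hk).c := fun k hk =>
    (yon S).map_injective (by rw [Functor.map_comp, hc₀ k hk])
  have hfc : ∀ {W : Over S} (k k' : W ⟶ T) (hk : S' k) (hk' : S' k'), k = k' →
      fam k hk = fam k' hk' := fun k k' hk hk' e => by subst e; rfl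
  have hsep : ∀ {W W' : Over S} (k : W ⟶ T) (hk : S' k) (l : W' ⟶ W) (k' : W' ⟶ T) (hk' : S' k'),
      l ≫ k = k' → fam k' hk' = (fam k hk).restrict l := fun k hk l k' hk' e => by
    subst e; exact (Presieve.compatible_iff_sieveCompatible fam).1 hfam k l hk
  -- local sections
  have hidx : ∀ (a : Idx R) (g : a.obj.left ⟶ T) (_ : g ≫ c = a.obj.hom) {W : Over S}
      (h : W ⟶ a.obj.left) (hh : S' (h ≫ g)), 𝟙 W ≫ (fam (h ≫ g) hh).c = h ≫ a.obj.hom :=
    fun a g hg W h hh => by rw [Category.id_comp, ← hc, Category.assoc, hg]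
  have hex : ∀ (a : Idx R) (g : a.obj.left ⟶ T) (hg : g ≫ c = a.obj.hom),
      ∃ z : (yon S).obj a.obj.left ⟶ D.P a, ∀ ⦃W : Over S⦄ (h : W ⟶ a.obj.left)
        (hh : S' (h ≫ g)),
          (yon S).map h ≫ z = (fam (h ≫ g) hh).ev a h (𝟙 W) (hidx a g hg h hh) := by
    intro a g hg
    refine yon_glue ((J S).pullback_stable g hS')
      (fun W h hh => (fam (h ≫ g) hh).ev a h (𝟙 W) (hidx a g hg h hh)) fun W W' l h hh => ?_
    have hh' : S' ((l ≫ h) ≫ g) := by rw [Category.assoc]; exact S'.downward_closed hh l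
    have h2 := hsep _ hh l ((l ≫ h) ≫ g) hh' (Category.assoc _ _ _).symm
    rw [Datum.Pt.ev_nat]
    refine Eq.trans ?_ (Datum.Pt.ev_congr h2.symm rfl rfl ?_ _)
    · exact Datum.Pt.ev_congr rfl rfl
        (show l ≫ 𝟙 W = 𝟙 W' ≫ l by rw [Category.id_comp, Category.comp_id]) _ _
    · change 𝟙 W' ≫ l ≫ _ = _
      rw [Category.id_comp, ← hc, Category.assoc, Category.assoc, hg]
  choose z hz using hex
  refine ⟨⟨c, z, fun a g hg => yon_ext ((J S).pullback_stable g hS') fun W h hh => ?_,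
    fun a b m g hg => yon_ext ((J S).pullback_stable (m.hom.left ≫ g) hS') fun W h hh => ?_⟩,
    fun W k hk => ?_, fun p hp => ?_⟩
  · rw [reassoc_of% (hz a g hg h hh), Datum.Pt.ev_proj, Category.comp_id]
  · have hh' : S' ((h ≫ m.hom.left) ≫ g) := by rw [Category.assoc]; exact hh
    refine (Category.assoc _ _ _).symm.trans
      ((congrArg (· ≫ D.φ m) (hz a _ _ h hh)).trans ((Datum.Pt.ev_map _ m h (𝟙 W) _).trans
        (Eq.trans ?_ ((hz b g hg (h ≫ m.hom.left) hh').symm.trans
          (by rw [Functor.map_comp, Category.assoc])))))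
    exact Datum.Pt.ev_congr (hfc _ _ hh hh' (Category.assoc _ _ _).symm) rfl rfl _ _
  · refine Datum.Pt.ext' (hc k hk) fun a g hg hg' => ?_
    have hh : S' (𝟙 _ ≫ g ≫ k) := by rw [Category.id_comp]; exact S'.downward_closed hk g
    change z a (g ≫ k) _ = _
    rw [← Category.id_comp (z a (g ≫ k) _), ← CategoryTheory.Functor.map_id, hz a _ _ (𝟙 _) hh]
    refine Eq.trans (Datum.Pt.ev_congr (hsep k hk g _ hh (Category.id_comp _).symm) rfl rfl _
      (by
        change 𝟙 _ ≫ g ≫ (fam k hk).c = 𝟙 _ ≫ a.obj.hom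
        rw [hg'])) ?_
    rw [Datum.Pt.ev_restrict, ← (fam k hk).ev_id a g hg']
    exact Datum.Pt.ev_congr rfl rfl (Category.id_comp g) _ _
  · have hpc : p.c = c := by
      apply (yon S).map_injective
      refine yon_ext hS' fun W k hk => ?_
      rw [← Functor.map_comp, hc₀ k hk]
      exact congrArg (yon S).map (congrArg Datum.Pt.c (hp k hk))
    refine Datum.Pt.ext' hpc fun a g hg hg' =>
      yon_ext ((J S).pullback_stable g hS') fun W h hh => ?_
    change _ = (yon S).map h ≫ z a g hg'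
    rw [hz a g hg' h hh, Datum.Pt.s_map]
    refine Eq.trans ?_ (Datum.Pt.ev_congr (hp (h ≫ g) hh) rfl rfl ?_ _)
    · exact Datum.Pt.ev_congr rfl rfl (Category.id_comp _).symm _ _
    · change 𝟙 W ≫ (h ≫ g) ≫ p.c = _
      rw [Category.id_comp, Category.assoc, hg]

/-- The glued sheaf. -/
noncomputable def Datum.glue : Sp S :=
  ⟨D.psh, (isSheaf_iff_isSheaf_of_type _ _).2 D.isSheaf⟩

/-- Points of the glued sheaf. -/
noncomputable def Datum.ptEquiv (T : Over S) : ((yon S).obj T ⟶ D.glue) ≃ D.Pt T :=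
  (J S).uliftYonedaEquiv

lemma Datum.ptEquiv_map {T T' : Over S} (k : T' ⟶ T) (x : (yon S).obj T ⟶ D.glue) :
    D.ptEquiv T' ((yon S).map k ≫ x) = (D.ptEquiv T x).restrict k :=
  (equiv_map k x).symm

/-- The structure map of the glued sheaf. -/
noncomputable def Datum.proj : D.glue ⟶ (yon S).obj U :=
  homOfPoints (fun T x => (yon S).map (D.ptEquiv T x).c) fun T T' k x => by
    rw [D.ptEquiv_map k x, ← Functor.map_comp]
    rfl

lemma Datum.comp_proj {T : Over S} (x : (yon S).obj T ⟶ D.glue) :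
    x ≫ D.proj = (yon S).map (D.ptEquiv T x).c := comp_homOfPoints _ _ _

section Incl

variable (a : Idx R) {T : Over S} (x : (yon S).obj T ⟶ D.P a)

/-- The arrow to the piece underlying a point of a piece. -/
noncomputable abbrev Datum.tOf : T ⟶ a.obj.left := (yon S).preimage (x ≫ D.π a)

lemma Datum.tOf_spec : x ≫ D.π a = (yon S).map (D.tOf a x) := ((yon S).map_preimage _).symm

/-- The index map defined by a point of a piece. -/
noncomputable abbrev Datum.mOf (b : Idx R) (g : b.obj.left ⟶ T)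
    (h : g ≫ D.tOf a x ≫ a.obj.hom = b.obj.hom) : b ⟶ a :=
  ObjectProperty.homMk (Over.homMk (g ≫ D.tOf a x) ((Category.assoc _ _ _).trans h))

/-- The point of the glued sheaf defined by a point of a piece. -/
noncomputable def Datum.inclPt : D.Pt T where
  c := D.tOf a x ≫ a.obj.hom
  s b g h := (D.cart (D.mOf a x b g h)).lift ((yon S).map g ≫ x) (𝟙 _) (by
    rw [Category.assoc, D.tOf_spec, Category.id_comp, ← Functor.map_comp]
    rfl)
  sect b g h := IsPullback.lift_snd _ _ _ _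
  compat b b' n g h := by
    refine (D.cart (D.mOf a x b' g h)).hom_ext ?_ ?_
    · have e : n ≫ D.mOf a x b' g h = D.mOf a x b (n.hom.left ≫ g)
          (by rw [Category.assoc, h]; exact Over.w n.hom) :=
        ObjectProperty.hom_ext _ (Over.OverMorphism.ext (Category.assoc _ _ _).symm)
      rw [Category.assoc, ← D.φ_comp, e, IsPullback.lift_fst, Category.assoc, IsPullback.lift_fst,
        Functor.map_comp, Category.assoc]
    · rw [Category.assoc, (D.cart n).w, IsPullback.lift_snd_assoc, Category.id_comp, Category.assoc,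
        IsPullback.lift_snd, Category.comp_id]

lemma Datum.inclPt_s (b : Idx R) (g : b.obj.left ⟶ T)
    (h : g ≫ (D.inclPt a x).c = b.obj.hom) :
    (D.inclPt a x).s b g h ≫ D.φ (D.mOf a x b g h) = (yon S).map g ≫ x :=
  IsPullback.lift_fst _ _ _ _

lemma Datum.inclPt_nat {T' : Over S} (k : T' ⟶ T) :
    D.inclPt a ((yon S).map k ≫ x) = (D.inclPt a x).restrict k := by
  have ht : D.tOf a ((yon S).map k ≫ x) = k ≫ D.tOf a x := by
    apply (yon S).map_injective
    rw [← D.tOf_spec, Category.assoc, D.tOf_spec, Functor.map_comp]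
  refine Datum.Pt.ext' ?_ fun b g h h' => ?_
  · change D.tOf a ((yon S).map k ≫ x) ≫ _ = k ≫ D.tOf a x ≫ _
    rw [ht, Category.assoc]
  · refine (D.cart (D.mOf a ((yon S).map k ≫ x) b g h)).hom_ext ?_ ?_
    · rw [D.inclPt_s]
      have e : D.mOf a ((yon S).map k ≫ x) b g h = D.mOf a x b (g ≫ k)
          (by rw [Category.assoc]; exact h') :=
        ObjectProperty.hom_ext _ (Over.OverMorphism.ext (by
          change g ≫ D.tOf a ((yon S).map k ≫ x) = (g ≫ k) ≫ D.tOf a x
          rw [ht, Category.assoc]))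
      rw [e]
      refine Eq.trans ?_ (D.inclPt_s a x b (g ≫ k) _).symm
      rw [Functor.map_comp, Category.assoc]
    · rw [(D.inclPt a _).sect b g h]
      exact (((D.inclPt a x).restrict k).sect b g h').symm

end Incl

/-- A piece maps to the glued sheaf. -/
noncomputable def Datum.incl (a : Idx R) : D.P a ⟶ D.glue :=
  homOfPoints (fun T x => (D.ptEquiv T).symm (D.inclPt a x)) fun T T' k x => by
    apply (D.ptEquiv T').injective
    rw [D.ptEquiv_map, Equiv.apply_symm_apply, Equiv.apply_symm_apply, D.inclPt_nat]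

lemma Datum.comp_incl (a : Idx R) {T : Over S} (x : (yon S).obj T ⟶ D.P a) :
    D.ptEquiv T (x ≫ D.incl a) = D.inclPt a x := by
  rw [Datum.incl, comp_homOfPoints, Equiv.apply_symm_apply]

lemma Datum.incl_cart (a : Idx R) :
    IsPullback (D.incl a) (D.π a) D.proj ((yon S).map a.obj.hom) := by
  refine isPullback_of_yon (H12AlgSp.hom_ext_yon fun T x => ?_) (fun T y t e => ?_)
    (fun T x x' e₁ e₂ => ?_)
  · rw [← Category.assoc, D.comp_proj, D.comp_incl, ← Category.assoc, D.tOf_spec,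
      ← Functor.map_comp]
    rfl
  · obtain ⟨t, rfl⟩ := (yon S).map_surjective t
    let p := D.ptEquiv T y
    have hc : 𝟙 T ≫ p.c = t ≫ a.obj.hom := (yon S).map_injective (by
      rw [Category.id_comp, ← D.comp_proj, e, Functor.map_comp])
    have hx : p.ev a t (𝟙 T) hc ≫ D.π a = (yon S).map t := p.ev_proj _ _ _ _
    refine ⟨p.ev a t (𝟙 T) hc, (D.ptEquiv T).injective ?_, hx⟩
    rw [D.comp_incl]
    have ht : D.tOf a (p.ev a t (𝟙 T) hc) = t :=
      (yon S).map_injective ((D.tOf_spec a _).symm.trans hx)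
    refine Datum.Pt.ext' ?_ fun b g h h' => ?_
    · change D.tOf a _ ≫ _ = p.c
      rw [ht, ← hc, Category.id_comp]
    · refine (D.cart (D.mOf a _ b g h)).hom_ext ?_ ?_
      · rw [D.inclPt_s, Datum.Pt.ev_nat, ← p.ev_id b g h', Datum.Pt.ev_map]
        refine Datum.Pt.ev_congr rfl ?_ (Category.comp_id g) _ _
        change g ≫ t = 𝟙 _ ≫ g ≫ D.tOf a _
        rw [ht, Category.id_comp]
      · rw [(D.inclPt a _).sect b g h, p.sect b g h']
  · have hp : D.inclPt a x = D.inclPt a x' := by rw [← D.comp_incl, e₁, D.comp_incl]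
    let b := idxComp a (D.tOf a x)
    have ht : D.tOf a x = D.tOf a x' :=
      (yon S).map_injective (by rw [← D.tOf_spec, e₂, D.tOf_spec])
    have h1 : 𝟙 T ≫ (D.inclPt a x).c = b.obj.hom := Category.id_comp _
    have h1' : 𝟙 T ≫ (D.inclPt a x').c = b.obj.hom := hp ▸ h1
    have em : D.mOf a x b (𝟙 T) h1 = D.mOf a x' b (𝟙 T) h1' :=
      ObjectProperty.hom_ext _ (Over.OverMorphism.ext (congrArg (𝟙 T ≫ ·) ht))
    have h2 := D.inclPt_s a x b (𝟙 T) h1
    have h2' := D.inclPt_s a x' b (𝟙 T) h1'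
    rw [Datum.Pt.s_congr hp b (𝟙 T) h1 h1', em, h2'] at h2
    have h3 : (yon S).map (𝟙 T) = 𝟙 _ := (yon S).map_id T
    calc x = (yon S).map (𝟙 T) ≫ x := by rw [h3, Category.id_comp]
      _ = (yon S).map (𝟙 T) ≫ x' := h2.symm
      _ = x' := by rw [h3, Category.id_comp]

/-- The pieces of the glued sheaf. -/
noncomputable def Datum.pieces : Pieces R D.proj where
  obj := D.P
  proj := D.π
  ι := D.incl
  cart := D.incl_cart

lemma Datum.φ_incl {a b : Idx R} (m : a ⟶ b) : D.φ m ≫ D.incl b = D.incl a := by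
  refine H12AlgSp.hom_ext_yon fun T x => ?_
  apply (D.ptEquiv T).injective
  rw [← Category.assoc, D.comp_incl, D.comp_incl]
  have ht : D.tOf b (x ≫ D.φ m) = D.tOf a x ≫ m.hom.left := by
    apply (yon S).map_injective
    rw [← D.tOf_spec, Category.assoc, (D.cart m).w, ← Category.assoc, D.tOf_spec,
      Functor.map_comp]
  refine Datum.Pt.ext' ?_ fun i g h h' => ?_
  · change D.tOf b _ ≫ _ = D.tOf a x ≫ _
    rw [ht, Category.assoc, Over.w m.hom]
  · refine (D.cart (D.mOf b (x ≫ D.φ m) i g h)).hom_ext ?_ ?_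
    · have e : D.mOf a x i g h' ≫ m = D.mOf b (x ≫ D.φ m) i g h :=
        ObjectProperty.hom_ext _ (Over.OverMorphism.ext (by
          change (g ≫ D.tOf a x) ≫ m.hom.left = g ≫ D.tOf b _
          rw [ht, Category.assoc]))
      rw [D.inclPt_s, ← e, D.φ_comp, ← Category.assoc, ← Category.assoc, D.inclPt_s]
    · rw [(D.inclPt b _).sect i g h, (D.inclPt a x).sect i g h']

end Groth.Agent.H14Quot
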