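import Groth.Agent.H14Quot.Pieces
import Mathlib.CategoryTheory.Monoidal.Cartesian.Over

/-!
# Schemes over a scheme covered by cartesian pieces
-/

set_option autoImplicit false
set_option backward.isDefEq.respectTransparency false
set_option backward.isDefEq.respectTransparency.types false

universe u

open CategoryTheory CategoryTheory.Limits MonoidalCategory CartesianMonoidalCategory
open AlgebraicGeometry AlgSp

namespace Groth.Agent.H14Quot

variable {S : Scheme.{u}} {U : Over S} {R : Sieve U}

/-- A presentation of a scheme over `U` by its base changes to the arrows of a sieve. -/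
structure SchPieces (R : Sieve U) {P : Over S} (γ : P ⟶ U) where
  /-- the piece over an arrow -/
  obj : Idx R → Over S
  /-- its structure map -/
  proj : ∀ a : Idx R, obj a ⟶ a.obj.left
  /-- its map to the scheme -/
  inc : ∀ a : Idx R, obj a ⟶ P
  cart : ∀ a : Idx R, IsPullback (inc a) (proj a) γ a.obj.hom

variable {P : Over S} {γ : P ⟶ U}

/-- The pieces given by fibre products. -/
noncomputable def SchPieces.canonical (R : Sieve U) (γ : P ⟶ U) : SchPieces R γ where
  obj a := pullback γ a.obj.hom
  proj _ := pullback.snd _ _
  inc _ := pullback.fst _ _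
  cart _ := IsPullback.of_hasPullback _ _

variable (D : SchPieces R γ)

/-- The pieces of the sheaf. -/
noncomputable def SchPieces.toPieces : Pieces R ((yon S).map γ) where
  obj a := (yon S).obj (D.obj a)
  proj a := (yon S).map (D.proj a)
  ι a := (yon S).map (D.inc a)
  cart a := (D.cart a).map (yon S)

/-- The pieces of a product with a scheme over `S`. -/
noncomputable def SchPieces.whisker (Y : Over S) : SchPieces R (snd Y P ≫ γ) where
  obj a := Y ⊗ D.obj a
  proj a := snd Y _ ≫ D.proj a
  inc a := Y ◁ D.inc a
  cart a :=
    have sq : IsPullback (Y ◁ D.inc a) (snd Y (D.obj a)) (snd Y P) (D.inc a) :=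
      IsPullback.of_right
        (by
          simpa using IsPullback.of_is_product (C := Over S)
            (tensorProductIsBinaryProduct Y (D.obj a)) isTerminalTensorUnit)
        (by simp)
        (IsPullback.of_is_product (C := Over S) (tensorProductIsBinaryProduct Y P)
          isTerminalTensorUnit)
    sq.paste_vert (D.cart a)

variable {Z : Over S}

lemma SchPieces.hom_ext (hR : R ∈ J S U) {f g : P ⟶ Z} (h : ∀ a, D.inc a ≫ f = D.inc a ≫ g) : f = g :=
  (yon S).map_injective (D.toPieces.hom_ext hR fun a =>
    ((yon S).map_comp _ _).symm.trans ((congrArg (yon S).map (h a)).trans ((yon S).map_comp _ _)))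

/-- A family on pieces is compatible when it commutes with the induced maps between pieces. -/
def SchPieces.Compatible (f : ∀ a, D.obj a ⟶ Z) : Prop :=
  ∀ (a b : Idx R) (m : a.obj ⟶ b.obj) (k : D.obj a ⟶ D.obj b),
    k ≫ D.inc b = D.inc a → k ≫ D.proj b = D.proj a ≫ m.left → k ≫ f b = f a

lemma SchPieces.exists_glue (hR : R ∈ J S U) {f : ∀ a, D.obj a ⟶ Z} (hf : D.Compatible f) :
    ∃ F : P ⟶ Z, ∀ a, D.inc a ≫ F = f a := by
  have hf' : D.toPieces.Compatible fun a => (yon S).map (f a) := fun a b m k h₁ h₂ => by
    obtain ⟨k, rfl⟩ := (yon S).map_surjective k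
    refine ((yon S).map_comp _ _).symm.trans (congrArg (yon S).map (hf a b m k ?_ ?_))
    · exact (yon S).map_injective (((yon S).map_comp _ _).trans h₁)
    · exact (yon S).map_injective
        (((yon S).map_comp _ _).trans (h₂.trans ((yon S).map_comp _ _).symm))
  obtain ⟨F, hF⟩ := D.toPieces.exists_glue hR hf'
  obtain ⟨F, rfl⟩ := (yon S).map_surjective F
  exact ⟨F, fun a => (yon S).map_injective (((yon S).map_comp _ _).trans (hF a))⟩

end Groth.Agent.H14Quot
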