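import Groth.Agent.H14Quot.Torsor
import Groth.Agent.H14Quot.SchPieces
import Groth.Agent.H14Quot.GlueSheaf
import Groth.Agent.H14Quot.AffineDescent
import Groth.Agent.H14Stk.Cocone

/-!
# The quotient category `[X/G]` by an affine group is a stack
-/

set_option autoImplicit false
set_option backward.isDefEq.respectTransparency false
set_option backward.isDefEq.respectTransparency.types false

universe u

open CategoryTheory CategoryTheory.Limits MonoidalCategory CartesianMonoidalCategory MonObj GrpObj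
open AlgebraicGeometry AlgSt
open AlgSp (yon)

namespace Groth.Agent.H14Quot

open H14Fib H14Stk

variable {S : Scheme.{u}} {K : Precoverage Scheme.{u}} {G : Over S} [GrpObj G] {X : Over S}
  {aX : AlgGrp.Action G X}

lemma isPullback_transport {C : Type*} [Category C] {A W B P P' : C} (h : A = W) {t : P ⟶ P'}
    {p : P ⟶ A} {q : P' ⟶ B} {g : W ⟶ B} :
    IsPullback t (p ≫ eqToHom h) q g ↔ IsPullback t p q (eqToHom h ≫ g) := by
  subst h; simp

/-- The structure map of a torsor to a scheme equal to its base. -/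
noncomputable abbrev projTo (A : QuotObj K G aX) {W : Over S} (h : A.base = W) : A.P ⟶ W :=
  A.π ≫ eqToHom h

lemma cart_projTo (A : QuotObj K G aX) {W : Over S} (h : A.base = W) :
    IsPullback A.act.act (snd G A.P) (projTo A h) (projTo A h) := by
  subst h; simpa using A.cart

lemma loc_projTo (A : QuotObj K G aX) {W : Over S} (h : A.base = W) :
    NonAbH1.IsLocallyTrivialFor K (Over.mk (projTo A h).left : Over W.left) := by
  subst h; simpa using A.loc

section Descent

variable {U : Over S} {R : Sieve U} (H : Stk.sieveCat R ⥤ᵇ QuotSt K G aX)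

/-- The structure map of a member of the datum. -/
noncomputable abbrev memProj (a : Idx R) : (H.obj a).P ⟶ a.obj.left :=
  projTo (H.obj a) (H.w_obj a)

lemma map_cart {a b : Idx R} (m : a ⟶ b) :
    IsPullback (H.map m).top (memProj H a) (memProj H b) m.hom.left := by
  have hb : (H.map m).base = eqToHom (H.w_obj a) ≫ m.hom.left ≫ eqToHom (H.w_obj b).symm :=
    Functor.congr_hom H.w m
  refine (isPullback_transport _).2 ?_
  have h2 : IsPullback (H.map m).base (𝟙 (H.obj a).base) (eqToHom (H.w_obj b))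
      ((H.map m).base ≫ eqToHom (H.w_obj b)) := IsPullback.of_vert_isIso ⟨by simp⟩
  have h := (H.map m).cart.paste_vert h2
  rw [Category.comp_id] at h
  have e : (H.map m).base ≫ eqToHom (H.w_obj b) = eqToHom (H.w_obj a) ≫ m.hom.left := by
    rw [hb]; simp
  rw [e] at h
  exact h

variable (c : GlueCocone H)

/-- The structure map of the object of a cocone. -/
noncomputable abbrev ptProj : c.pt.P ⟶ U := projTo c.pt c.pt_obj

lemma θ_base (a : Idx R) :
    (c.θ a).base = eqToHom (H.w_obj a) ≫ a.obj.hom ≫ eqToHom c.pt_obj.symm := by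
  have := c.lift a
  exact IsHomLift.fac' (QuotSt K G aX).p a.obj.hom (c.θ a)

lemma θ_cart (a : Idx R) :
    IsPullback (c.θ a).top (memProj H a) (ptProj H c) a.obj.hom := by
  refine (isPullback_transport _).2 ?_
  have h2 : IsPullback (c.θ a).base (𝟙 (H.obj a).base) (eqToHom c.pt_obj)
      ((c.θ a).base ≫ eqToHom c.pt_obj) := IsPullback.of_vert_isIso ⟨by simp⟩
  have h := (c.θ a).cart.paste_vert h2
  rw [Category.comp_id] at h
  have e : (c.θ a).base ≫ eqToHom c.pt_obj = eqToHom (H.w_obj a) ≫ a.obj.hom := by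
    rw [θ_base]; simp
  rw [e] at h
  exact h

/-- The pieces of the object of a cocone. -/
noncomputable def conePieces : SchPieces R (ptProj H c) where
  obj a := (H.obj a).P
  proj a := memProj H a
  inc a := (c.θ a).top
  cart a := θ_cart H c a

lemma trans_eq {a b : Idx R} (m : a.obj ⟶ b.obj) {k : (H.obj a).P ⟶ (H.obj b).P}
    (h₁ : k ≫ (c.θ b).top = (c.θ a).top) (h₂ : k ≫ memProj H b = memProj H a ≫ m.left) :
    k = (H.map (ObjectProperty.homMk m : a ⟶ b)).top :=
  (θ_cart H c b).hom_ext (h₁.trans (congrArg QuotObj.Hom.top (c.nat (ObjectProperty.homMk m))).symm)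
    (h₂.trans (map_cart H (ObjectProperty.homMk m : a ⟶ b)).w.symm)

lemma whisker_trans_eq {a b : Idx R} (m : a.obj ⟶ b.obj) (Y : Over S)
    {k : Y ⊗ (H.obj a).P ⟶ Y ⊗ (H.obj b).P}
    (h₁ : k ≫ (Y ◁ (c.θ b).top) = Y ◁ (c.θ a).top)
    (h₂ : k ≫ snd Y _ ≫ memProj H b = (snd Y _ ≫ memProj H a) ≫ m.left) :
    k = Y ◁ (H.map (ObjectProperty.homMk m : a ⟶ b)).top := by
  refine ((conePieces H c).whisker Y).cart b |>.hom_ext ?_ ?_
  · refine h₁.trans ?_
    change _ = (Y ◁ _) ≫ (Y ◁ (c.θ b).top)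
    rw [← MonoidalCategory.whiskerLeft_comp, ← QuotObj.comp_top, c.nat]
  · refine h₂.trans ?_
    change _ = (Y ◁ _) ≫ snd Y _ ≫ memProj H b
    rw [whiskerLeft_snd_assoc, Category.assoc, (map_cart H (ObjectProperty.homMk m : a ⟶ b)).w]
    rfl

variable (hR : R ∈ AlgSp.J S U)

include hR in
lemma cone_top (c' : GlueCocone H) :
    ∃ f : c.pt.P ⟶ c'.pt.P, (∀ a, (c.θ a).top ≫ f = (c'.θ a).top) ∧
      c.pt.act.act ≫ f = (G ◁ f) ≫ c'.pt.act.act ∧ f ≫ ptProj H c' = ptProj H c ∧
        f ≫ c'.pt.φ = c.pt.φ := by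
  obtain ⟨f, hf⟩ := (conePieces H c).exists_glue hR (f := fun a => (c'.θ a).top)
    fun a b m k h₁ h₂ => by
      rw [trans_eq H c m h₁ h₂]
      exact congrArg QuotObj.Hom.top (c'.nat _)
  have hf : ∀ a, (c.θ a).top ≫ f = (c'.θ a).top := hf
  refine ⟨f, hf, ((conePieces H c).whisker G).hom_ext hR fun a => ?_,
    (conePieces H c).hom_ext hR fun a => ?_, (conePieces H c).hom_ext hR fun a => ?_⟩
  · change (G ◁ (c.θ a).top) ≫ _ = (G ◁ (c.θ a).top) ≫ _
    rw [← Category.assoc, ← (c.θ a).eqv, Category.assoc, hf, (c'.θ a).eqv,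
      ← MonoidalCategory.whiskerLeft_comp_assoc, hf]
  · change (c.θ a).top ≫ _ = (c.θ a).top ≫ _
    rw [← Category.assoc, hf, (θ_cart H c' a).w, (θ_cart H c a).w]
  · change (c.θ a).top ≫ _ = (c.θ a).top ≫ _
    rw [← Category.assoc, hf, (c'.θ a).wφ, (c.θ a).wφ]

end Descent

lemma glueHom_quotSt {U : Over S} {R : Sieve U} (hR : R ∈ AlgSp.J S U) :
    GlueHom (QuotSt K G aX) R := by
  refine ⟨fun H c c' => ?_, fun H c x f g hf hg h => ?_⟩
  · obtain ⟨f, hf, heq, hπ, hφ⟩ := cone_top H c hR c'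
    obtain ⟨g, hg, -⟩ := cone_top H c' hR c
    have : IsIso f := ⟨g,
      (conePieces H c).hom_ext hR fun a => (by
        change (c.θ a).top ≫ f ≫ g = (c.θ a).top ≫ 𝟙 _
        rw [← Category.assoc, hf, hg, Category.comp_id]),
      (conePieces H c').hom_ext hR fun a => (by
        change (c'.θ a).top ≫ g ≫ f = (c'.θ a).top ≫ 𝟙 _
        rw [← Category.assoc, hg, hf, Category.comp_id])⟩
    have hw : f ≫ c'.pt.π = c.pt.π ≫ eqToHom (c.pt_obj.trans c'.pt_obj.symm) := by
      rw [← cancel_mono (eqToHom c'.pt_obj), Category.assoc, Category.assoc, eqToHom_trans]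
      exact hπ
    let χ : c.pt ⟶ c'.pt :=
      { base := eqToHom (c.pt_obj.trans c'.pt_obj.symm)
        top := f
        eqv := heq
        cart := IsPullback.of_horiz_isIso ⟨hw⟩
        wφ := hφ }
    refine ⟨χ, IsHomLift.of_fac (QuotSt K G aX).p _ χ c.pt_obj c'.pt_obj ?_, fun a => ?_⟩
    · change 𝟙 U = eqToHom c.pt_obj.symm ≫ eqToHom (c.pt_obj.trans c'.pt_obj.symm) ≫
        eqToHom c'.pt_obj
      simp
    · refine QuotObj.hom_ext ?_ (hf a)
      have h1 := θ_base H c a
      have h2 := θ_base H c' a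
      change (c.θ a).base ≫ eqToHom (c.pt_obj.trans c'.pt_obj.symm) = (c'.θ a).base
      rw [h1, h2]
      simp
  · have hb : f.base = g.base := by
      have := hf
      have := hg
      have h1 := IsHomLift.fac' (QuotSt K G aX).p (𝟙 U) f
      have h2 := IsHomLift.fac' (QuotSt K G aX).p (𝟙 U) g
      exact h1.trans h2.symm
    exact QuotObj.hom_ext hb ((conePieces H c).hom_ext hR fun a => congrArg QuotObj.Hom.top (h a))

section CartPieces

variable {Y P U : Over S} {R : Sieve U} {γ : P ⟶ U} (T : SchPieces R γ)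

omit [GrpObj G] in
/-- A map is a pseudo-torsor action if it is one on pieces. -/
lemma cart_of_pieces (hR : R ∈ AlgSp.J S U) (act : G ⊗ P ⟶ P)
    (actb : ∀ b, G ⊗ T.obj b ⟶ T.obj b)
    (hcart : ∀ b, IsPullback (actb b) (snd G (T.obj b)) (T.proj b) (T.proj b))
    (hact : ∀ b, (G ◁ T.inc b) ≫ act = actb b ≫ T.inc b) :
    IsPullback act (snd G P) γ γ := by
  have w : act ≫ γ = snd G P ≫ γ := (T.whisker G).hom_ext hR fun b => by
    change (G ◁ T.inc b) ≫ act ≫ γ = (G ◁ T.inc b) ≫ snd G P ≫ γ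
    rw [reassoc_of% (hact b), (T.cart b).w, whiskerLeft_snd_assoc, (T.cart b).w,
      reassoc_of% (hcart b).w]
  have huniq : ∀ {Y : Over S} (x x' : Y ⟶ G ⊗ P), x ≫ act = x' ≫ act →
      x ≫ snd G P = x' ≫ snd G P → x = x' := fun {Y} x x' e₁ e₂ => by
    let E := SchPieces.canonical R (x ≫ snd G P ≫ γ)
    refine E.hom_ext hR fun b => ?_
    have hw : (E.inc b ≫ x) ≫ snd G P ≫ γ = E.proj b ≫ b.obj.hom := by
      rw [Category.assoc]; exact (E.cart b).w
    have hw' : (E.inc b ≫ x') ≫ snd G P ≫ γ = E.proj b ≫ b.obj.hom := by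
      rw [← hw, Category.assoc, Category.assoc, ← Category.assoc x', ← e₂, Category.assoc]
    let z := ((T.whisker G).cart b).lift (E.inc b ≫ x) (E.proj b) hw
    let z' := ((T.whisker G).cart b).lift (E.inc b ≫ x') (E.proj b) hw'
    have hz₁ : z ≫ (G ◁ T.inc b) = E.inc b ≫ x := IsPullback.lift_fst _ _ _ _
    have hz₁' : z' ≫ (G ◁ T.inc b) = E.inc b ≫ x' := IsPullback.lift_fst _ _ _ _
    have hz₂ : z ≫ snd G _ ≫ T.proj b = E.proj b := IsPullback.lift_snd _ _ _ _
    have hz₂' : z' ≫ snd G _ ≫ T.proj b = E.proj b := IsPullback.lift_snd _ _ _ _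
    suffices z = z' by rw [← hz₁, ← hz₁', this]
    refine (hcart b).hom_ext ?_ ?_
    · refine (T.cart b).hom_ext ?_ ?_
      · rw [Category.assoc, Category.assoc, ← hact, reassoc_of% hz₁, reassoc_of% hz₁', e₁]
      · rw [Category.assoc, Category.assoc, (hcart b).w, hz₂, hz₂']
    · refine (T.cart b).hom_ext ?_ ?_
      · have h3 : ∀ (q : E.obj b ⟶ G ⊗ T.obj b),
            (q ≫ snd G (T.obj b)) ≫ T.inc b = (q ≫ (G ◁ T.inc b)) ≫ snd G P := fun q => by
          rw [Category.assoc, Category.assoc, whiskerLeft_snd]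
        refine (h3 z).trans (Eq.trans ?_ (h3 z').symm)
        rw [hz₁, hz₁', Category.assoc, Category.assoc, e₂]
      · rw [Category.assoc, Category.assoc]
        exact hz₂.trans hz₂'.symm
  have hex : ∀ {Y : Over S} (x x' : Y ⟶ P), x ≫ γ = x' ≫ γ →
      ∃ l : Y ⟶ G ⊗ P, l ≫ act = x ∧ l ≫ snd G P = x' := fun {Y} x x' e => by
    let E := SchPieces.canonical R (x ≫ γ)
    have hu : ∀ b, (E.inc b ≫ x) ≫ γ = E.proj b ≫ b.obj.hom := fun b => by
      rw [Category.assoc]; exact (E.cart b).w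
    have hv : ∀ b, (E.inc b ≫ x') ≫ γ = E.proj b ≫ b.obj.hom := fun b => by
      rw [Category.assoc, ← e]; exact (E.cart b).w
    let w₁ : ∀ b, E.obj b ⟶ G ⊗ T.obj b := fun b =>
      (hcart b).lift ((T.cart b).lift _ _ (hu b)) ((T.cart b).lift _ _ (hv b))
        (by rw [IsPullback.lift_snd, IsPullback.lift_snd])
    have hw₁ : ∀ b, (w₁ b ≫ (G ◁ T.inc b)) ≫ act = E.inc b ≫ x := fun b => by
      rw [Category.assoc, hact, ← Category.assoc, IsPullback.lift_fst, IsPullback.lift_fst]
    have hw₂ : ∀ b, (w₁ b ≫ (G ◁ T.inc b)) ≫ snd G P = E.inc b ≫ x' := fun b => by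
      rw [Category.assoc, whiskerLeft_snd, ← Category.assoc, IsPullback.lift_snd, IsPullback.lift_fst]
    obtain ⟨l, hl⟩ := E.exists_glue hR (f := fun b => w₁ b ≫ (G ◁ T.inc b)) fun b b' m k h₁ h₂ => by
      apply huniq
      · rw [Category.assoc, hw₁, reassoc_of% h₁, hw₁]
      · rw [Category.assoc, hw₂, reassoc_of% h₁, hw₂]
    exact ⟨l, E.hom_ext hR fun b => by rw [← Category.assoc, hl, hw₁],
      E.hom_ext hR fun b => by rw [← Category.assoc, hl, hw₂]⟩
  refine ⟨⟨w⟩, ⟨PullbackCone.IsLimit.mk w (fun s => (hex s.fst s.snd s.condition).choose)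
    (fun s => (hex s.fst s.snd s.condition).choose_spec.1)
    (fun s => (hex s.fst s.snd s.condition).choose_spec.2)
    (fun s m h₁ h₂ => huniq _ _ ?_ ?_)⟩⟩
  · rw [h₁, (hex s.fst s.snd s.condition).choose_spec.1]
  · rw [h₂, (hex s.fst s.snd s.condition).choose_spec.2]

end CartPieces

section Exists

variable [K.IsStableUnderBaseChange] [K.IsStableUnderComposition] [K.HasIsos]
  {U : Over S} {R : Sieve U}

omit [GrpObj G] in
/-- A covering sieve contains a covering family of the precoverage. -/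
lemma exists_family (hR : R ∈ QuotSh.J K S U) :
    ∃ (κ : Type (u + 1)) (Z : κ → Scheme.{u}) (g : ∀ i, Z i ⟶ U.left),
      Presieve.ofArrows Z g ∈ K U.left ∧
        ∀ i, R (Over.homMk (g i) rfl : Over.mk (g i ≫ U.hom) ⟶ U) := by
  rw [GrothendieckTopology.mem_over_iff, Precoverage.mem_toGrothendieck_iff_of_isStableUnderComposition] at hR
  obtain ⟨R₀, hR₀, hle⟩ := hR
  obtain ⟨κ, Z, g, rfl⟩ := Presieve.exists_eq_ofArrows R₀
  exact ⟨κ, Z, g, hR₀, fun i => (Sieve.overEquiv_iff _ _).1 (hle _ _ ⟨i⟩)⟩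

omit [GrpObj G] [K.HasIsos] [K.IsStableUnderBaseChange] [K.IsStableUnderComposition] in
lemma mem_J_of_family (hK : K ≤ Scheme.fppfPrecoverage) {κ : Type (u + 1)} {Z : κ → Scheme.{u}}
    {g : ∀ i, Z i ⟶ U.left} (hg : Presieve.ofArrows Z g ∈ K U.left)
    (h : ∀ i, R (Over.homMk (g i) rfl : Over.mk (g i ≫ U.hom) ⟶ U)) : R ∈ AlgSp.J S U := by
  rw [AlgSp.J, GrothendieckTopology.mem_over_iff]
  refine GrothendieckTopology.superset_covering _ ?_
    (Precoverage.generate_mem_toGrothendieck (hK _ hg))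
  rw [Sieve.generate_le_iff]
  rintro W _ ⟨i⟩
  exact (Sieve.overEquiv_iff _ _).2 (h i)

variable (H : Stk.sieveCat R ⥤ᵇ QuotSt K G aX)

/-- The sheaf descent datum of a datum of torsors. -/
noncomputable def sheafDatum : Datum R where
  P a := (yon S).obj (H.obj a).P
  π a := (yon S).map (memProj H a)
  φ m := (yon S).map (H.map m).top
  cart m := (map_cart H m).map (yon S)
  φ_id a := by rw [H.toFunctor.map_id, QuotObj.id_top, CategoryTheory.Functor.map_id]
  φ_comp m n := by rw [H.toFunctor.map_comp, QuotObj.comp_top, Functor.map_comp]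

lemma exists_cocone (hK : K ≤ Scheme.fppfPrecoverage) (hG : IsAffineHom G.hom)
    (hR : R ∈ QuotSh.J K S U) : Nonempty (GlueCocone H) := by
  obtain ⟨κ, Z, g, hg, hgR⟩ := exists_family hR
  have hJ : R ∈ AlgSp.J S U := mem_J_of_family hK hg hgR
  let W : κ → Over S := fun i => Over.mk (g i ≫ U.hom)
  let cc : ∀ i, W i ⟶ U := fun i => Over.homMk (g i) rfl
  let a : κ → Idx R := fun i => idxMk (cc i) (hgR i)
  let D := sheafDatum H
  have hg' := hK _ hg
  rw [Scheme.fppfPrecoverage, Scheme.ofArrows_mem_precoverage_iff] at hg'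
  have hproj : ∀ b : Idx R, IsAffineHom (memProj H b).left := fun b => by
    have := torsor_prop @IsAffineHom hK (H.obj b) hG
    exact inferInstanceAs (IsAffineHom ((H.obj b).π.left ≫ (eqToHom (H.w_obj b)).left))
  obtain ⟨P, γ, ν, hν, hνq, -⟩ := exists_rep_of_fppf_local (P := @IsAffineHom) le_rfl D.proj cc
    (fun i => (hg'.2 i).1) (fun i => (hg'.2 i).2) hg'.1
    fun i => ⟨_, memProj H (a i), D.incl (a i), D.incl_cart (a i), hproj (a i)⟩
  let θ : ∀ b : Idx R, (H.obj b).P ⟶ P := fun b => (yon S).preimage (D.incl b ≫ inv ν)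
  have hθ : ∀ b, (yon S).map (θ b) ≫ ν = D.incl b := fun b => by simp [θ]
  have hsq : ∀ b, IsPullback (θ b) (memProj H b) γ b.obj.hom := fun b => by
    have sq₀ : IsPullback ν ((yon S).map γ) D.proj (𝟙 _) :=
      IsPullback.of_horiz_isIso ⟨by rw [hνq, Category.comp_id]⟩
    have h1 : IsPullback ((yon S).map (θ b)) ((yon S).map (memProj H b)) ((yon S).map γ)
        ((yon S).map b.obj.hom) :=
      IsPullback.of_right (by rw [hθ, Category.comp_id]; exact D.incl_cart b) (by
        rw [← hνq, ← Category.assoc, hθ]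
        exact (D.incl_cart b).w) sq₀
    exact IsPullback.of_map (yon S)
      ((yon S).map_injective (by simpa only [Functor.map_comp] using h1.w)) h1
  have hnat : ∀ {b b' : Idx R} (m : b ⟶ b'), (H.map m).top ≫ θ b' = θ b := fun {b b'} m => by
    apply (yon S).map_injective
    rw [← cancel_mono ν, Functor.map_comp, Category.assoc, hθ, hθ]
    exact D.φ_incl m
  let T : SchPieces R γ :=
    { obj := fun b => (H.obj b).P, proj := fun b => memProj H b, inc := θ, cart := hsq }
  have htr : ∀ {b b' : Idx R} (m : b.obj ⟶ b'.obj) {k : (H.obj b).P ⟶ (H.obj b').P},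
      k ≫ θ b' = θ b → k ≫ memProj H b' = memProj H b ≫ m.left →
        k = (H.map (ObjectProperty.homMk m : b ⟶ b')).top := fun {b b'} m {k} h₁ h₂ =>
    (hsq b').hom_ext (h₁.trans (hnat _).symm) (h₂.trans (map_cart H _).w.symm)
  obtain ⟨act, hact⟩ := (T.whisker G).exists_glue hJ (f := fun b => (H.obj b).act.act ≫ θ b)
    fun b b' m k h₁ h₂ => by
      have hk : k = G ◁ (H.map (ObjectProperty.homMk m : b ⟶ b')).top := by
        refine ((T.whisker G).cart b').hom_ext (h₁.trans ?_) (h₂.trans ?_)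
        · change G ◁ θ b = (G ◁ _) ≫ (G ◁ θ b')
          rw [← MonoidalCategory.whiskerLeft_comp, hnat]
        · change (snd G _ ≫ memProj H b) ≫ m.left = (G ◁ _) ≫ snd G _ ≫ memProj H b'
          rw [whiskerLeft_snd_assoc, (map_cart H _).w, Category.assoc]
          rfl
      change k ≫ (H.obj b').act.act ≫ θ b' = (H.obj b).act.act ≫ θ b
      rw [hk, ← Category.assoc, ← (H.map _).eqv, Category.assoc, hnat]
  have hact : ∀ b, (G ◁ θ b) ≫ act = (H.obj b).act.act ≫ θ b := hact
  let A : AlgGrp.Action G P :=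
    { act := act
      one_act := (T.whisker (𝟙_ (Over S))).hom_ext hJ fun b => by
        change (𝟙_ _ ◁ θ b) ≫ (η[G] ▷ P) ≫ act = (𝟙_ _ ◁ θ b) ≫ (λ_ P).hom
        rw [whisker_exchange_assoc, hact, reassoc_of% (H.obj b).act.one_act,
          leftUnitor_naturality]
      mul_act := (T.whisker (G ⊗ G)).hom_ext hJ fun b => by
        change ((G ⊗ G) ◁ θ b) ≫ (μ[G] ▷ P) ≫ act =
          ((G ⊗ G) ◁ θ b) ≫ (α_ G G P).hom ≫ (G ◁ act) ≫ act
        rw [whisker_exchange_assoc, hact, reassoc_of% (H.obj b).act.mul_act,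
          associator_naturality_right_assoc, ← MonoidalCategory.whiskerLeft_comp_assoc, hact,
          MonoidalCategory.whiskerLeft_comp_assoc, hact] }
  obtain ⟨φ, hφ⟩ := T.exists_glue hJ (f := fun b => (H.obj b).φ) fun b b' m k h₁ h₂ => by
    rw [htr m h₁ h₂]
    exact (H.map _).wφ
  have hφ : ∀ b, θ b ≫ φ = (H.obj b).φ := hφ
  have hcart : IsPullback act (snd G P) γ γ :=
    cart_of_pieces T hJ act (fun b => (H.obj b).act.act)
      (fun b => cart_projTo (H.obj b) (H.w_obj b)) hact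
  have hloc : NonAbH1.IsLocallyTrivialFor K (Over.mk γ.left : Over U.left) := by
    have hmem : ∀ i, ∃ (κ' : Type (u + 1)) (Z' : κ' → Scheme.{u}) (g' : ∀ j, Z' j ⟶ Z i),
        Presieve.ofArrows Z' g' ∈ K (Z i) ∧ ∀ j, ∃ s : Z' j ⟶ (H.obj (a i)).P.left,
          s ≫ (memProj H (a i)).left = g' j := fun i => by
      obtain ⟨R', hR', hs'⟩ := loc_projTo (H.obj (a i)) (H.w_obj (a i))
      obtain ⟨κ', Z', g', rfl⟩ := Presieve.exists_eq_ofArrows R'
      exact ⟨κ', Z', g', hR', fun j => hs' (g' j) ⟨j⟩⟩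
    choose κ' Z' g' hg'' s hs using hmem
    refine ⟨Presieve.ofArrows (fun p : Σ i, κ' i => Z' p.1 p.2) (fun p => g' p.1 p.2 ≫ g p.1),
      K.comp_mem_coverings g hg g' hg'', ?_⟩
    rintro _ _ ⟨⟨i, j⟩⟩
    refine ⟨s i j ≫ (θ (a i)).left, ?_⟩
    change (s i j ≫ (θ (a i)).left) ≫ γ.left = g' i j ≫ g i
    rw [Category.assoc, ← Over.comp_left, (hsq (a i)).w, Over.comp_left, ← Category.assoc, hs]
    rfl
  let pt : QuotObj K G aX :=
    { base := U
      P := P
      act := A
      π := γ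
      cart := hcart
      loc := hloc
      φ := φ
      eqv := (T.whisker G).hom_ext hJ fun b => by
        change (G ◁ θ b) ≫ act ≫ φ = (G ◁ θ b) ≫ (G ◁ φ) ≫ aX.act
        rw [reassoc_of% (hact b), hφ, (H.obj b).eqv, ← MonoidalCategory.whiskerLeft_comp_assoc, hφ] }
  let θh : ∀ b : Idx R, H.obj b ⟶ pt := fun b =>
    { base := eqToHom (H.w_obj b) ≫ b.obj.hom
      top := θ b
      eqv := (hact b).symm
      cart := (isPullback_transport _).1 (hsq b)
      wφ := hφ b }
  exact ⟨{ pt := pt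
           pt_obj := rfl
           θ := θh
           lift := fun b => IsHomLift.of_fac (QuotSt K G aX).p _ (θh b) (H.w_obj b) rfl (by
             change b.obj.hom = eqToHom (H.w_obj b).symm ≫ (eqToHom (H.w_obj b) ≫ b.obj.hom) ≫ 𝟙 U
             simp)
           nat := fun {b b'} m => QuotObj.hom_ext (by
               change (H.map m).base ≫ eqToHom (H.w_obj b') ≫ b'.obj.hom =
                 eqToHom (H.w_obj b) ≫ b.obj.hom
               rw [show (H.map m).base = _ from Functor.congr_hom H.w m]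
               simp only [Category.assoc, eqToHom_trans_assoc, eqToHom_refl, Category.id_comp]
               congr 1
               exact Over.w m.hom) (hnat m) }⟩

/-- The quotient category by an affine group is a stack. -/
theorem isStack_quotSt (hK : K ≤ Scheme.fppfPrecoverage) (hG : IsAffineHom G.hom) :
    Stk.IsStack (QuotSh.J K S) (QuotSt K G aX) :=
  isStack_of_glue quotSt_fibGrpd fun U R hR =>
    ⟨glueHom_quotSt (by
        obtain ⟨κ, Z, g, hg, hgR⟩ := exists_family hR
        exact mem_J_of_family hK hg hgR),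
      fun H => exists_cocone H hK hG hR⟩

end Exists

end Groth.Agent.H14Quot
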