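import Groth.Agent.H14Quot.Basic
import Groth.Agent.H14AlgSt.Rep

/-!
# The fibre of `X ⟶ [X/G]` over an object is the torsor
-/

set_option autoImplicit false
set_option backward.isDefEq.respectTransparency false
set_option backward.isDefEq.respectTransparency.types false

universe u

open CategoryTheory CategoryTheory.Limits MonoidalCategory CartesianMonoidalCategory MonObj GrpObj
open AlgebraicGeometry AlgSt

namespace Groth.Agent.H14Quot

open H14Fib H14AlgSt

variable {S : Scheme.{u}} {K : Precoverage Scheme.{u}} [K.HasIsos] [K.IsStableUnderBaseChange]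
  {G : Over S} [GrpObj G] {X : Over S} {aX : AlgGrp.Action G X} {V : Over S}
  (y : FibCat.overCat V ⥤ᵇ QuotSt K G aX)

variable (K G aX) in
/-- The canonical functor from the slice. -/
noncomputable abbrev atlas : FibCat.overCat X ⥤ᵇ QuotSt K G aX :=
  BasedFunctor.comp (ofOverCat X) (quotMap K G aX)

/-- The object of a functor on the slice. -/
noncomputable abbrev top : QuotObj K G aX := y.obj (topObj V)

lemma top_base : (top y).base = V := y.w_obj (topObj V)

/-- The morphism of the torsor to the scheme it lives over. -/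
noncomputable abbrev toBase : (top y).P ⟶ V := (top y).π ≫ eqToHom (top_base y)

/-- The first component of a point of the torsor. -/
noncomputable abbrev fstObj (p : Over (top y).P) : (FibCat.overCat V).obj :=
  Over.mk (p.hom ≫ toBase y)

/-- The morphism defined by a point of the torsor. -/
noncomputable abbrev secMor (p : Over (top y).P) :
    triv K G aX (p.hom ≫ (top y).φ) ⟶ top y := homOfSec p.hom rfl

lemma base_map {s' s : (FibCat.overCat V).obj} (m : s' ⟶ s) :
    (y.map m).base = eqToHom (y.w_obj s') ≫ m.left ≫ eqToHom (y.w_obj s).symm :=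
  Functor.congr_hom y.w m

lemma base_toTop (s : (FibCat.overCat V).obj) :
    (y.map (toTop s)).base ≫ eqToHom (top_base y) = eqToHom (y.w_obj s) ≫ s.hom := by
  rw [base_map, Category.assoc, Category.assoc, eqToHom_trans, eqToHom_refl, Category.comp_id]
  rfl

lemma base_compat (p : Over (top y).P) :
    eqToHom (y.w_obj (fstObj y p)) ≫ (secMor y p).base = (y.map (toTop (fstObj y p))).base := by
  rw [← cancel_mono (eqToHom (top_base y)), base_toTop]
  exact Category.assoc _ _ _

/-- The isomorphism from the restriction of the object to the trivial torsor. -/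
noncomputable def ptIso (p : Over (top y).P) :
    y.obj (fstObj y p) ≅ triv K G aX (p.hom ≫ (top y).φ) where
  hom := cartLift (secMor y p) (y.map (toTop (fstObj y p))) (eqToHom (y.w_obj (fstObj y p)))
    (base_compat y p)
  inv := cartLift (y.map (toTop (fstObj y p))) (secMor y p) (eqToHom (y.w_obj (fstObj y p)).symm)
    (by rw [← base_compat, eqToHom_trans_assoc, eqToHom_refl, Category.id_comp])
  hom_inv_id := hom_ext' (y.map (toTop (fstObj y p))) (by simp)
    (by rw [Category.assoc, cartLift_comp, cartLift_comp, Category.id_comp])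
  inv_hom_id := hom_ext' (secMor y p) (by simp)
    (by rw [Category.assoc, cartLift_comp, cartLift_comp, Category.id_comp])

lemma ptIso_hom_comp (p : Over (top y).P) :
    (ptIso y p).hom ≫ secMor y p = y.map (toTop (fstObj y p)) :=
  cartLift_comp (secMor y p) (y.map (toTop (fstObj y p))) (eqToHom (y.w_obj (fstObj y p)))
    (base_compat y p)

/-- The object of the fibre product defined by a point of the torsor. -/
noncomputable def ptObj (p : Over (top y).P) : (FibCat.fp y (atlas K G aX)).obj :=
  ⟨{ fst := fstObj y p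
     snd := Over.mk (p.hom ≫ (top y).φ)
     iso := ptIso y p },
    IsHomLift.of_fac (QuotSt K G aX).p _ (ptIso y p).hom (y.w_obj (fstObj y p)) rfl
      (by
        change 𝟙 (fstObj y p).left =
          eqToHom (y.w_obj (fstObj y p)).symm ≫ eqToHom (y.w_obj (fstObj y p)) ≫ 𝟙 _
        simp
        rfl)⟩

/-- The first component of a morphism of points. -/
noncomputable abbrev fstMap {p' p : Over (top y).P} (m : p' ⟶ p) : fstObj y p' ⟶ fstObj y p :=
  Over.homMk m.left (show m.left ≫ p.hom ≫ toBase y = p'.hom ≫ toBase y by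
    rw [← Category.assoc, Over.w m])

/-- The second component of a morphism of points. -/
noncomputable abbrev sndMap {p' p : Over (top y).P} (m : p' ⟶ p) :
    Over.mk (p'.hom ≫ (top y).φ) ⟶ Over.mk (p.hom ≫ (top y).φ) :=
  Over.homMk m.left (show m.left ≫ p.hom ≫ (top y).φ = p'.hom ≫ (top y).φ by
    rw [← Category.assoc, Over.w m])

lemma secMor_nat {p' p : Over (top y).P} (m : p' ⟶ p) :
    (atlas K G aX).map (sndMap y m) ≫ secMor y p = secMor y p' := by
  refine (map_comp_homOfSec p.hom rfl (sndMap y m)).trans ?_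
  have h : m.left ≫ p.hom = p'.hom := Over.w m
  refine QuotObj.hom_ext ?_ ?_
  · change (m.left ≫ p.hom) ≫ _ = p'.hom ≫ _
    rw [h]
  · change (G ◁ (m.left ≫ p.hom)) ≫ _ = (G ◁ p'.hom) ≫ _
    rw [h]

lemma pt_w {p' p : Over (top y).P} (m : p' ⟶ p) :
    y.map (fstMap y m) ≫ (ptIso y p).hom =
      (ptIso y p').hom ≫ (atlas K G aX).map (sndMap y m) := by
  refine hom_ext' (secMor y p) ?_ ?_
  · change (y.map (fstMap y m)).base ≫ eqToHom (y.w_obj (fstObj y p)) =
      eqToHom (y.w_obj (fstObj y p')) ≫ m.left
    rw [base_map, Category.assoc, Category.assoc, eqToHom_trans, eqToHom_refl, Category.comp_id]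
    rfl
  · rw [Category.assoc, ptIso_hom_comp, Category.assoc, secMor_nat, ptIso_hom_comp]
    exact (y.toFunctor.map_comp _ _).symm.trans
      (congrArg y.toFunctor.map (Over.OverMorphism.ext (Over.w (fstMap y m))))

/-- The functor from the torsor to the fibre product. -/
noncomputable def ptFun : FibCat.overCat (top y).P ⥤ᵇ FibCat.fp y (atlas K G aX) where
  toFunctor :=
    { obj := fun p => ptObj y p
      map := fun {p' p} m => fpHom (fstMap y m) (sndMap y m) (pt_w y m)
      map_id := fun p => fp_hom_ext (Over.OverMorphism.ext rfl) (Over.OverMorphism.ext rfl)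
      map_comp := fun f g => fp_hom_ext (Over.OverMorphism.ext rfl) (Over.OverMorphism.ext rfl) }
  w := rfl

lemma ptFun_faithful : (ptFun y).toFunctor.Faithful where
  map_injective := fun {p' p} {m m'} h => Over.OverMorphism.ext
    (congrArg (fun φ : ptObj y p' ⟶ ptObj y p => φ.hom.fst.left) h)

lemma ptFun_full : (ptFun y).toFunctor.Full where
  map_surjective := fun {p' p} φ => by
    let a : fstObj y p' ⟶ fstObj y p := φ.hom.fst
    let b : Over.mk (p'.hom ≫ (top y).φ) ⟶ Over.mk (p.hom ≫ (top y).φ) := φ.hom.snd
    have hw : y.map a ≫ (ptIso y p).hom = (ptIso y p').hom ≫ (atlas K G aX).map b := φ.hom.w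
    have hab : b.left = a.left := by
      have := congrArg (fun χ => QuotObj.Hom.base χ) hw
      change (y.map a).base ≫ eqToHom (y.w_obj (fstObj y p)) =
        eqToHom (y.w_obj (fstObj y p')) ≫ b.left at this
      rw [base_map, Category.assoc, Category.assoc, eqToHom_trans, eqToHom_refl,
        Category.comp_id, cancel_epi] at this
      exact this.symm
    have h1 : (ptIso y p').hom ≫ (atlas K G aX).map b ≫ secMor y p =
        (ptIso y p').hom ≫ secMor y p' := by
      rw [← Category.assoc, ← hw, Category.assoc, ptIso_hom_comp, ptIso_hom_comp]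
      exact (y.toFunctor.map_comp _ _).symm.trans
        (congrArg y.toFunctor.map (Over.OverMorphism.ext (Over.w a)))
    rw [cancel_epi] at h1
    have h2 : b.left ≫ p.hom = p'.hom :=
      eq_of_homOfSec ((map_comp_homOfSec p.hom rfl b).symm.trans h1)
    exact ⟨Over.homMk a.left (by rw [← hab]; exact h2),
      fp_hom_ext (Over.OverMorphism.ext rfl) (Over.OverMorphism.ext hab.symm)⟩

lemma ptFun_essSurj : EssSurjOver (ptFun y) := by
  intro ξ
  let s : (FibCat.overCat V).obj := ξ.obj.fst
  let t : Over X := ξ.obj.snd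
  let α : y.obj s ≅ triv K G aX t.hom := ξ.obj.iso
  have hW : t.left = s.left := fp_snd_obj ξ
  have hαb : α.hom.base = eqToHom ((y.w_obj s).trans hW.symm) := by
    have hl : (QuotSt K G aX).p.IsHomLift (𝟙 s.left) α.hom := ξ.property
    have := IsHomLift.fac' (QuotSt K G aX).p (𝟙 s.left) α.hom
    change α.hom.base = _ at this
    rw [this, Category.id_comp, eqToHom_trans]
  let h : triv K G aX t.hom ⟶ top y := α.inv ≫ y.map (toTop s)
  let σ : t.left ⟶ (top y).P := secOfHom h
  let p : Over (top y).P := Over.mk σ
  have hh : homOfSec (x := t.hom) σ (secOfHom_φ h) = h := homOfSec_secOfHom h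
  have hαi : α.inv.base = eqToHom (hW.trans (y.w_obj s).symm) := by
    have := congrArg QuotObj.Hom.base α.inv_hom_id
    rw [QuotObj.comp_base, hαb, QuotObj.id_base] at this
    rw [← cancel_mono (eqToHom ((y.w_obj s).trans hW.symm)), this, eqToHom_trans, eqToHom_refl]
  have hs : eqToHom hW ≫ s.hom = σ ≫ toBase y := by
    have : h.base = σ ≫ (top y).π := (secOfHom_π h).symm
    change _ = σ ≫ _ ≫ _
    rw [← Category.assoc, ← this, show h.base = α.inv.base ≫ (y.map (toTop s)).base from rfl,
      Category.assoc, base_toTop, hαi, eqToHom_trans_assoc]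
  let a : fstObj y p ≅ s := Over.isoMk (eqToIso hW) hs
  let b : Over.mk (σ ≫ (top y).φ) ≅ t := Over.isoMk (Iso.refl _)
    (show 𝟙 _ ≫ t.hom = σ ≫ (top y).φ by rw [Category.id_comp]; exact (secOfHom_φ h).symm)
  have hw : y.map a.hom ≫ α.hom = (ptIso y p).hom ≫ (atlas K G aX).map b.hom := by
    refine hom_ext' h ?_ ?_
    · change (y.map a.hom).base ≫ α.hom.base = eqToHom (y.w_obj (fstObj y p)) ≫ 𝟙 _
      rw [base_map, hαb, show a.hom.left = eqToHom hW from rfl]
      simp
    · have e1 : α.hom ≫ h = y.map (toTop s) := α.hom_inv_id_assoc _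
      have e2 : (atlas K G aX).map b.hom ≫ h = secMor y p := by
        rw [← hh]
        refine (map_comp_homOfSec σ _ b.hom).trans (QuotObj.hom_ext ?_ ?_)
        · change (𝟙 _ ≫ σ) ≫ _ = σ ≫ _
          rw [Category.id_comp]
        · change (G ◁ (𝟙 _ ≫ σ)) ≫ _ = (G ◁ σ) ≫ _
          rw [Category.id_comp]
      rw [Category.assoc, e1, Category.assoc, e2, ptIso_hom_comp]
      exact (y.toFunctor.map_comp _ _).symm.trans
        (congrArg y.toFunctor.map (Over.OverMorphism.ext (Over.w a.hom)))
  refine ⟨p, ObjectProperty.isoMk _ (CategoricalPullback.mkIso a b hw), ?_⟩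
  rw [fp_isHomLift_iff]
  refine IsHomLift.of_fac (FibCat.overCat V).p _ a.hom hW rfl ?_
  change 𝟙 _ = eqToHom _ ≫ eqToHom hW ≫ 𝟙 _
  simp

/-- The fibre of the canonical functor over an object is the torsor. -/
theorem ptFun_isEquivOver : FibCat.IsEquivOver (ptFun y) :=
  (isEquivOver_iff _).2 ⟨⟨ptFun_full y, ptFun_faithful y⟩, ptFun_essSurj y⟩

/-- The projection from the fibre to the slice is the structure map of the torsor. -/
lemma spMapOfOver_ptFun :
    spMapOfOver (BasedFunctor.comp (BasedFunctor.comp (toOverCat (top y).P) (ptFun y))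
      (FibCat.fpFst y (atlas K G aX))) = (AlgSp.yon S).map (toBase y) := by
  apply Sheaf.hom_ext
  ext T x
  apply ULift.ext
  exact Category.id_comp _

end Groth.Agent.H14Quot
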