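import Groth.Agent.H14Quot.IsomSquare
import Groth.Agent.H14Quot.QuotStack

/-!
# The sheaf of isomorphisms between objects of `[X/G]` is affine over the product of the bases
-/

set_option autoImplicit false
set_option backward.isDefEq.respectTransparency false
set_option backward.isDefEq.respectTransparency.types false

universe u

open CategoryTheory CategoryTheory.Limits MonoidalCategory CartesianMonoidalCategory MonObj GrpObj
open AlgebraicGeometry AlgSt Opposite
open AlgSp (yon J)

namespace Groth.Agent.H14Quot

open H14Fib H14Stk H14AlgSt H12AlgSp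

variable {S : Scheme.{u}}

section Products

variable {A B C : Over S}

lemma isPullback_whiskerRight_fst (f : A ⟶ B) (C : Over S) :
    IsPullback (f ▷ C) (fst A C) (fst B C) f :=
  IsPullback.of_right (by simpa using (isPullback_fst_snd A C).flip) (by simp)
    (isPullback_fst_snd B C).flip

lemma isPullback_lift_fst_snd (f : A ⟶ C) (g : B ⟶ C) :
    IsPullback (pullback.fst f g ≫ f) (lift (pullback.fst f g) (pullback.snd f g))
      (lift (𝟙 C) (𝟙 C)) (lift (fst A B ≫ f) (snd A B ≫ g)) := by
  refine ⟨⟨?_⟩, ⟨PullbackCone.IsLimit.mk ?_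
    (fun s => pullback.lift (s.snd ≫ fst A B) (s.snd ≫ snd A B) ?_) (fun s => ?_) (fun s => ?_)
    fun s m h₁ h₂ => ?_⟩⟩
  · apply CartesianMonoidalCategory.hom_ext <;> simp [pullback.condition]
  · apply CartesianMonoidalCategory.hom_ext <;> simp [pullback.condition]
  · have h1 := congrArg (· ≫ fst C C) s.condition
    have h2 := congrArg (· ≫ snd C C) s.condition
    simp only [Category.assoc, lift_fst, lift_snd, Category.comp_id] at h1 h2
    rw [Category.assoc, Category.assoc, ← h1, ← h2]
  · have h1 := congrArg (· ≫ fst C C) s.condition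
    simp only [Category.assoc, lift_fst, Category.comp_id] at h1
    rw [pullback.lift_fst_assoc, Category.assoc, ← h1]
  · apply CartesianMonoidalCategory.hom_ext <;> simp
  · apply pullback.hom_ext
    · rw [pullback.lift_fst, ← h₂, Category.assoc, lift_fst]
    · rw [pullback.lift_snd, ← h₂, Category.assoc, lift_snd]

end Products

variable {K : Precoverage Scheme.{u}} [K.HasIsos] [K.IsStableUnderBaseChange]
  {G : Over S} [GrpObj G] {X : Over S} {aX : AlgGrp.Action G X} {U V : Over S}

lemma toBase_prop (Q : MorphismProperty Scheme.{u}) [Q.IsStableUnderBaseChange]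
    [IsZariskiLocalAtTarget Q] [Q.DescendsAlong fppfMor.{u}] (hK : K ≤ Scheme.fppfPrecoverage)
    (hG : Q G.hom) (y : FibCat.overCat U ⥤ᵇ QuotSt K G aX) : Q (toBase y).left := by
  change Q ((top y).π.left ≫ (eqToHom (top_base y)).left)
  exact (MorphismProperty.cancel_right_of_respectsIso Q _ _).2 (torsor_prop Q hK (top y) hG)

/-- The covering of the product of the bases. -/
lemma whiskerLeft_prop (Q : MorphismProperty Scheme.{u}) [Q.IsStableUnderBaseChange]
    {A B : Over S} (W : Over S) (f : A ⟶ B) (h : Q f.left) : Q (W ◁ f).left :=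
  MorphismProperty.of_isPullback (P := Q)
    ((IsPullback.of_right (by simpa using isPullback_fst_snd W A) (by simp)
      (isPullback_fst_snd W B) : IsPullback (W ◁ f) (snd W A) (snd W B) f).map
        (Over.forget S)).flip h

variable (x : FibCat.overCat V ⥤ᵇ QuotSt K G aX) (y : FibCat.overCat U ⥤ᵇ QuotSt K G aX)

lemma isAffineHom_pairBase (hK : K ≤ Scheme.fppfPrecoverage) (hG : IsAffineHom G.hom)
    (hX : IsAffineHom (pullback.diagonal X.hom)) : IsAffineHom (pairBase x y).left := by
  let l : pairScheme x y ⟶ (top x).P ⊗ (top y).P :=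
    lift (pullback.fst _ _) (pullback.snd _ _)
  have h1 : IsAffineHom l.left := by
    refine MorphismProperty.of_isPullback (P := @IsAffineHom)
      ((isPullback_lift_fst_snd (top x).φ (top y).φ).map (Over.forget S)) ?_
    exact hX
  have h2 : IsAffineHom (toBase x ▷ (top y).P).left :=
    MorphismProperty.of_isPullback (P := @IsAffineHom)
      ((isPullback_whiskerRight_fst (toBase x) (top y).P).map (Over.forget S)).flip
      (toBase_prop @IsAffineHom hK hG x)
  have e : pairBase x y = l ≫ (toBase x ▷ (top y).P) := (lift_whiskerRight _ _ _).symm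
  rw [e, Over.comp_left]
  exact MorphismProperty.comp_mem @IsAffineHom _ _ h1 h2

/-- The fibre product of two objects of the fppf quotient is a stack. -/
lemma fp_stack_slices (hG : IsAffineHom G.hom)
    (x : FibCat.overCat V ⥤ᵇ QuotSt Scheme.fppfPrecoverage G aX)
    (y : FibCat.overCat U ⥤ᵇ QuotSt Scheme.fppfPrecoverage G aX) :
    Stk.IsStack (J S) (FibCat.fp x y) :=
  isStack_fp x y (isStack_of_repByAlgSp (repByAlgSp_overCat V))
    (isStack_of_repByAlgSp (repByAlgSp_overCat U))
    (isPrestack_of_isStack (isStack_quotSt le_rfl hG))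

omit [K.HasIsos] in
/-- The fibre product of two objects is fibred in setoids. -/
lemma fp_setoid_slices : FibCat.IsFibSetoid (FibCat.fp x y).p := by
  refine fibSetoid_iff_faithful.2 ⟨fp_fibGrpd
    (isStack_of_repByAlgSp (repByAlgSp_overCat V)).1 (isStack_of_repByAlgSp (repByAlgSp_overCat U)).1
    quotSt_fibGrpd, ⟨fun {a b} m n h => ?_⟩⟩
  refine fp_hom_ext (Over.OverMorphism.ext h) (Over.OverMorphism.ext ?_)
  have h' : m.hom.fst.left = n.hom.fst.left := h
  rw [fp_snd_left m, fp_snd_left n, h']

variable {x y}

/-- The sheaf of isomorphisms is affine over the product of the bases. -/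
theorem exists_affine_classSp (hD : Stk.IsStack (J S) (FibCat.fp x y))
    (hs : FibCat.IsFibSetoid (FibCat.fp x y).p) (hK : K ≤ Scheme.fppfPrecoverage)
    (hG : IsAffineHom G.hom) (hGf : Flat G.hom) (hGp : LocallyOfFinitePresentation G.hom)
    (hX : IsAffineHom (pullback.diagonal X.hom)) :
    ∃ (GT : Over S) (γ : GT ⟶ V ⊗ U) (ψ : (yon S).obj GT ⟶ classSp hD hs),
      IsIso ψ ∧ ψ ≫ classTo hD hs (prodProj x y) = (yon S).map γ ∧ IsAffineHom γ.left := by
  have hsurj : Surjective (V ◁ toBase y).left := whiskerLeft_prop @Surjective V _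
    (toBase_prop @Surjective hK (surjective_group (η : 𝟙_ (Over S) ⟶ G)) y)
  exact exists_rep_of_fppf_local (P := @IsAffineHom) le_rfl (classTo hD hs (prodProj x y))
    (κ := PUnit.{u + 1}) (fun _ => V ◁ toBase y)
    (fun _ => whiskerLeft_prop @Flat V _ (toBase_prop @Flat hK hGf y))
    (fun _ => whiskerLeft_prop @LocallyOfFinitePresentation V _
      (toBase_prop @LocallyOfFinitePresentation hK hGp y))
    (fun z => ⟨⟨⟩, hsurj.surj z⟩)
    (fun _ => ⟨_, pairBase x y, pairPoint hD hs, isPullback_pairPoint hD hs,
      isAffineHom_pairBase x y hK hG hX⟩)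

end Groth.Agent.H14Quot
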