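import Groth.Agent.H14Quot.ClassSheaf
import Groth.Agent.H14Quot.Chart

/-!
# The sheaf of isomorphisms between two objects of `[X/G]` is covered by a fibre product of torsors
-/

set_option autoImplicit false
set_option backward.isDefEq.respectTransparency false
set_option backward.isDefEq.respectTransparency.types false

universe u

open CategoryTheory CategoryTheory.Limits MonoidalCategory CartesianMonoidalCategory MonObj GrpObj
open AlgebraicGeometry AlgSt Opposite
open AlgSp (yon J)

namespace Groth.Agent.H14Quot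

open H14Fib H14Stk H14AlgSt

section ProdProj

variable {S : Scheme.{u}} {U V : Over S} {𝒞 : AlgSt.Cat S} {F : FibCat.overCat V ⥤ᵇ 𝒞}
  {F' : FibCat.overCat U ⥤ᵇ 𝒞}

/-- The point of the product underlying an object of a fibre product of slices. -/
noncomputable abbrev prodPt (ξ : (FibCat.fp F F').obj) : ξ.obj.fst.left ⟶ V ⊗ U :=
  lift (ξ.obj.fst.hom : ξ.obj.fst.left ⟶ V)
    (eqToHom (fp_snd_obj ξ).symm ≫ ξ.obj.snd.hom : ξ.obj.fst.left ⟶ U)

lemma fp_snd_left {ξ ζ : (FibCat.fp F F').obj} (m : ξ ⟶ ζ) :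
    m.hom.snd.left = eqToHom (fp_snd_obj ξ) ≫ m.hom.fst.left ≫ eqToHom (fp_snd_obj ζ).symm :=
  Functor.congr_hom (FibCat.fpSnd F F').w m

variable (F F') in
/-- The functor to the slice over the product. -/
noncomputable def prodProj : FibCat.fp F F' ⥤ᵇ FibCat.overCat (V ⊗ U) where
  toFunctor :=
    { obj := fun ξ => Over.mk (prodPt ξ)
      map := fun {ξ ζ} m => Over.homMk m.hom.fst.left (by
        have h2 := Over.w m.hom.snd
        rw [fp_snd_left m] at h2
        change m.hom.fst.left ≫ prodPt ζ = prodPt ξ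
        rw [comp_lift, Over.w m.hom.fst]
        show lift _ _ = lift _ (eqToHom _ ≫ ξ.obj.snd.hom)
        congr 1
        rw [← h2]
        simp) }
  w := rfl

end ProdProj

variable {S : Scheme.{u}} {K : Precoverage Scheme.{u}} [K.HasIsos] [K.IsStableUnderBaseChange]
  {G : Over S} [GrpObj G] {X : Over S} {aX : AlgGrp.Action G X} {U V : Over S}
  (x : FibCat.overCat V ⥤ᵇ QuotSt K G aX) (y : FibCat.overCat U ⥤ᵇ QuotSt K G aX)

lemma ptIso_base {W : Over S} (z : FibCat.overCat W ⥤ᵇ QuotSt K G aX) (p : Over (top z).P) :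
    (ptIso z p).hom.base = eqToHom (z.w_obj (fstObj z p)) := rfl

lemma ptIso_inv_base {W : Over S} (z : FibCat.overCat W ⥤ᵇ QuotSt K G aX) (p : Over (top z).P) :
    (ptIso z p).inv.base = eqToHom (z.w_obj (fstObj z p)).symm := rfl

/-- Trivial torsors at equal points. -/
noncomputable def trivIso {T : Over S} {a b : T ⟶ X} (e : a = b) :
    triv K G aX a ≅ triv K G aX b :=
  (atlas K G aX).toFunctor.mapIso (Over.isoMk (Iso.refl T)
    (show 𝟙 T ≫ b = a by rw [Category.id_comp, e]) : Over.mk a ≅ Over.mk b)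

omit [K.IsStableUnderBaseChange] in
lemma trivIso_hom_base {T : Over S} {a b : T ⟶ X} (e : a = b) :
    (trivIso (K := K) (aX := aX) e).hom.base = 𝟙 T := rfl

omit [K.IsStableUnderBaseChange] in
lemma trivIso_inv_base {T : Over S} {a b : T ⟶ X} (e : a = b) :
    (trivIso (K := K) (aX := aX) e).inv.base = 𝟙 T := rfl

variable {x y}

/-- The isomorphism defined by two points of the torsors with the same image in `X`. -/
noncomputable def pairIso {T : Over S} (p : T ⟶ (top x).P) (r : T ⟶ (top y).P)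
    (e : p ≫ (top x).φ = r ≫ (top y).φ) :
    x.obj (fstObj x (Over.mk p)) ≅ y.obj (fstObj y (Over.mk r)) :=
  ptIso x (Over.mk p) ≪≫ trivIso e ≪≫ (ptIso y (Over.mk r)).symm

lemma pairIso_lift {T : Over S} (p : T ⟶ (top x).P) (r : T ⟶ (top y).P)
    (e : p ≫ (top x).φ = r ≫ (top y).φ) :
    (QuotSt K G aX).p.IsHomLift (𝟙 T) (pairIso p r e).hom := by
  refine IsHomLift.of_fac' (QuotSt K G aX).p (𝟙 T) _ (x.w_obj (fstObj x (Over.mk p)))
    (y.w_obj (fstObj y (Over.mk r))) ?_
  change (ptIso x (Over.mk p)).hom.base ≫ (trivIso e).hom.base ≫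
    (ptIso y (Over.mk r)).inv.base = _
  rw [ptIso_base, trivIso_hom_base, ptIso_inv_base]

/-- The object of the fibre product defined by two points. -/
noncomputable def pairObj {T : Over S} (p : T ⟶ (top x).P) (r : T ⟶ (top y).P)
    (e : p ≫ (top x).φ = r ≫ (top y).φ) : (FibCat.fp x y).obj :=
  fpObj (fstObj x (Over.mk p)) (fstObj y (Over.mk r)) (pairIso p r e) (U := T) rfl
    (pairIso_lift p r e)

lemma pairObj_obj {T : Over S} (p : T ⟶ (top x).P) (r : T ⟶ (top y).P)
    (e : p ≫ (top x).φ = r ≫ (top y).φ) : (FibCat.fp x y).p.obj (pairObj p r e) = T := rfl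

lemma exists_pairHom {T T' : Over S} (g : T' ⟶ T) (p : T ⟶ (top x).P) (r : T ⟶ (top y).P)
    (e : p ≫ (top x).φ = r ≫ (top y).φ) (e' : (g ≫ p) ≫ (top x).φ = (g ≫ r) ≫ (top y).φ) :
    ∃ φ : pairObj (g ≫ p) (g ≫ r) e' ⟶ pairObj p r e, (FibCat.fp x y).p.IsHomLift g φ := by
  let m₁ : Over.mk (g ≫ p) ⟶ Over.mk p := Over.homMk g
  let m₂ : Over.mk (g ≫ r) ⟶ Over.mk r := Over.homMk g
  have hm : (atlas K G aX).map (sndMap x m₁) ≫ (trivIso e).hom =
      (trivIso e').hom ≫ (atlas K G aX).map (sndMap y m₂) := by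
    refine ((atlas K G aX).toFunctor.map_comp _ _).symm.trans
      (Eq.trans (congrArg (atlas K G aX).toFunctor.map (Over.OverMorphism.ext ?_))
        ((atlas K G aX).toFunctor.map_comp _ _))
    exact (Category.comp_id g).trans (Category.id_comp g).symm
  have h₂ : (ptIso y (Over.mk (g ≫ r))).inv ≫ y.map (fstMap y m₂) =
      (atlas K G aX).map (sndMap y m₂) ≫ (ptIso y (Over.mk r)).inv := by
    rw [Iso.inv_comp_eq, ← Category.assoc, ← pt_w y m₂, Category.assoc, Iso.hom_inv_id,
      Category.comp_id]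
  refine ⟨fpHom (fstMap x m₁) (fstMap y m₂) ?_, (fp_isHomLift_iff _ _).2 ?_⟩
  · change x.map (fstMap x m₁) ≫ (pairIso p r e).hom =
      (pairIso (g ≫ p) (g ≫ r) e').hom ≫ y.map (fstMap y m₂)
    simp only [pairIso, Iso.trans_hom, Iso.symm_hom, Category.assoc]
    rw [← Category.assoc (x.map (fstMap x m₁)), pt_w x m₁, Category.assoc, h₂,
      ← Category.assoc _ (trivIso e).hom, hm, Category.assoc]
  · exact IsHomLift.of_fac' (FibCat.overCat V).p g (fstMap x m₁) rfl rfl (by simp; rfl)

lemma pairIso_hom_ptIso {T : Over S} (p : T ⟶ (top x).P) (r : T ⟶ (top y).P)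
    (e : p ≫ (top x).φ = r ≫ (top y).φ) :
    (pairIso p r e).hom ≫ (ptIso y (Over.mk r)).hom =
      (ptIso x (Over.mk p)).hom ≫ (trivIso e).hom := by
  simp [pairIso]

/-- Two points over the same point of the second torsor with isomorphic objects coincide. -/
lemma pair_unique {T : Over S} {p p' : T ⟶ (top x).P} {r : T ⟶ (top y).P}
    {e : p ≫ (top x).φ = r ≫ (top y).φ} {e' : p' ≫ (top x).φ = r ≫ (top y).φ}
    (i : pairObj p r e ≅ pairObj p' r e')
    (hi : (FibCat.fp x y).p.IsHomLift (𝟙 T) i.hom) : p = p' := by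
  let a : fstObj x (Over.mk p) ⟶ fstObj x (Over.mk p') := i.hom.hom.fst
  let b : fstObj y (Over.mk r) ⟶ fstObj y (Over.mk r) := i.hom.hom.snd
  have ha : (FibCat.overCat V).p.IsHomLift (𝟙 T) a := fp_isHomLift_fst (𝟙 T) i.hom
  have hb : (FibCat.overCat U).p.IsHomLift (𝟙 T) b := fp_isHomLift_snd' (𝟙 T) i.hom
  have hal : a.left = 𝟙 T := by
    have := IsHomLift.fac' (FibCat.overCat V).p (𝟙 T) a
    change a.left = _ at this
    simp at this
    exact this
  have hbl : b = 𝟙 _ := by
    apply Over.OverMorphism.ext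
    have := IsHomLift.fac' (FibCat.overCat U).p (𝟙 T) b
    change b.left = _ at this
    simp at this
    exact this
  have hw : x.map a ≫ (pairIso p' r e').hom = (pairIso p r e).hom ≫ y.map b := i.hom.hom.w
  rw [hbl, y.toFunctor.map_id, Category.comp_id] at hw
  have h1 := congrArg (· ≫ (ptIso y (Over.mk r)).hom ≫ (trivIso e').inv ≫ secMor x (Over.mk p')) hw
  simp only [Category.assoc] at h1
  rw [reassoc_of% (pairIso_hom_ptIso p' r e'), Iso.hom_inv_id_assoc, ptIso_hom_comp,
    reassoc_of% (pairIso_hom_ptIso p r e)] at h1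
  have h2 : x.map a ≫ x.map (toTop (fstObj x (Over.mk p'))) =
      (ptIso x (Over.mk p)).hom ≫ secMor x (Over.mk p) := by
    rw [ptIso_hom_comp]
    exact (x.toFunctor.map_comp _ _).symm.trans
      (congrArg x.toFunctor.map (Over.OverMorphism.ext (Over.w a)))
  rw [h2, cancel_epi] at h1
  let c : Over.mk (p ≫ (top x).φ) ⟶ Over.mk (p' ≫ (top x).φ) :=
    Over.homMk (𝟙 T) (show 𝟙 T ≫ p' ≫ (top x).φ = p ≫ (top x).φ by rw [Category.id_comp, e, e'])
  have h3 : (trivIso e).hom ≫ (trivIso e').inv = (atlas K G aX).map c :=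
    ((atlas K G aX).toFunctor.map_comp _ _).symm.trans
      (congrArg (atlas K G aX).toFunctor.map (Over.OverMorphism.ext (Category.id_comp _)))
  rw [← Category.assoc (trivIso e).hom, h3] at h1
  have := eq_of_homOfSec (h1.trans (map_comp_homOfSec p' rfl c))
  exact this.trans (Category.id_comp p')

/-- An object over a point of the second torsor comes from a point of the first one. -/
lemma exists_pair_aux {T : Over S} (v : T ⟶ V) (r : T ⟶ (top y).P)
    (α : x.obj (Over.mk v) ≅ y.obj (fstObj y (Over.mk r)))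
    (hα : (QuotSt K G aX).p.IsHomLift (𝟙 T) α.hom) :
    ∃ (p : T ⟶ (top x).P) (e : p ≫ (top x).φ = r ≫ (top y).φ) (hv : p ≫ toBase x = v),
      (pairIso p r e).hom = x.map (eqToHom (congrArg Over.mk hv)) ≫ α.hom := by
  let h : triv K G aX (r ≫ (top y).φ) ⟶ top x :=
    (ptIso y (Over.mk r)).inv ≫ α.inv ≫ x.map (toTop (Over.mk v))
  have e : secOfHom h ≫ (top x).φ = r ≫ (top y).φ := secOfHom_φ h
  have hα' := @IsHomLift.lift_id_inv _ _ _ _ (QuotSt K G aX).p _ _ _ α hα
  have hαi : α.inv.base = eqToHom ((y.w_obj (fstObj y (Over.mk r))).trans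
      (x.w_obj (Over.mk v)).symm) := by
    have := @IsHomLift.fac' _ _ _ _ (QuotSt K G aX).p _ _ _ _ (𝟙 T) α.inv hα'
    change α.inv.base = _ at this
    rw [this, Category.id_comp, eqToHom_trans]
  have hv : secOfHom h ≫ toBase x = v := by
    rw [← Category.assoc, secOfHom_π]
    change ((ptIso y (Over.mk r)).inv.base ≫ α.inv.base ≫ (x.map (toTop (Over.mk v))).base) ≫ _ = v
    rw [ptIso_inv_base, hαi, Category.assoc, Category.assoc, base_toTop]
    simp
  refine ⟨secOfHom h, e, hv, ?_⟩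
  rw [← cancel_mono (ptIso y (Over.mk r)).hom, pairIso_hom_ptIso, Category.assoc]
  have hαb : α.hom.base = eqToHom ((x.w_obj (Over.mk v)).trans
      (y.w_obj (fstObj y (Over.mk r))).symm) := by
    have := @IsHomLift.fac' _ _ _ _ (QuotSt K G aX).p _ _ _ _ (𝟙 T) α.hom hα
    change α.hom.base = _ at this
    rw [this, Category.id_comp, eqToHom_trans]
  let m : fstObj x (Over.mk (secOfHom h)) ⟶ Over.mk v := eqToHom (congrArg Over.mk hv)
  have hm : m.left = 𝟙 T := by
    change (eqToHom _ : Over.mk _ ⟶ Over.mk v).left = _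
    simp
  refine hom_ext' h ?_ ?_
  · change (ptIso x (Over.mk (secOfHom h))).hom.base ≫ (trivIso e).hom.base =
      (x.map m).base ≫ α.hom.base ≫ (ptIso y (Over.mk r)).hom.base
    rw [ptIso_base, trivIso_hom_base, ptIso_base, base_map, hm, hαb]
    simp
  · have e1 : (trivIso e).hom ≫ h = secMor x (Over.mk (secOfHom h)) := by
      refine (congrArg _ (homOfSec_secOfHom h)).symm.trans
        ((map_comp_homOfSec _ _ _).trans (QuotObj.hom_ext ?_ ?_))
      · change (𝟙 T ≫ secOfHom h) ≫ _ = secOfHom h ≫ _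
        rw [Category.id_comp]
      · change (G ◁ (𝟙 T ≫ secOfHom h)) ≫ _ = (G ◁ secOfHom h) ≫ _
        rw [Category.id_comp]
    rw [Category.assoc, e1, ptIso_hom_comp, Category.assoc]
    simp only [h, Category.assoc, Iso.hom_inv_id_assoc]
    exact ((x.toFunctor.map_comp m _).symm.trans
      (congrArg x.toFunctor.map (Over.OverMorphism.ext (Over.w m)))).symm

section Square

variable (hD : Stk.IsStack (J S) (FibCat.fp x y)) (hs : FibCat.IsFibSetoid (FibCat.fp x y).p)

lemma toSlice_prodProj {T : Over S} (p : T ⟶ (top x).P) (r : T ⟶ (top y).P)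
    (e : p ≫ (top x).φ = r ≫ (top y).φ) :
    toSlice (prodProj x y) (pairObj p r e) (pairObj_obj p r e) =
      lift (p ≫ toBase x) (r ≫ toBase y) := by
  refine (Category.id_comp _).trans ?_
  change lift (p ≫ toBase x) (eqToHom _ ≫ r ≫ toBase y) = _
  rw [eqToHom_refl, Category.id_comp]

/-- The fibre product of the torsors over `X`. -/
noncomputable abbrev pairScheme (x : FibCat.overCat V ⥤ᵇ QuotSt K G aX)
    (y : FibCat.overCat U ⥤ᵇ QuotSt K G aX) : Over S :=
  pullback (top x).φ (top y).φ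

/-- The map of the fibre product of the torsors to the sheaf of isomorphisms. -/
noncomputable def pairPoint : (yon S).obj (pairScheme x y) ⟶ classSp hD hs :=
  point hD hs (pairObj (pullback.fst _ _) (pullback.snd _ _) pullback.condition) rfl

/-- Its map to the base. -/
noncomputable def pairBase (x : FibCat.overCat V ⥤ᵇ QuotSt K G aX)
    (y : FibCat.overCat U ⥤ᵇ QuotSt K G aX) : pairScheme x y ⟶ V ⊗ (top y).P :=
  lift (pullback.fst _ _ ≫ toBase x) (pullback.snd _ _)

lemma map_pairPoint {T : Over S} (g : T ⟶ pairScheme x y)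
    (e : (g ≫ pullback.fst _ _) ≫ (top x).φ = (g ≫ pullback.snd _ _) ≫ (top y).φ) :
    (yon S).map g ≫ pairPoint hD hs =
      point hD hs (pairObj (g ≫ pullback.fst _ _) (g ≫ pullback.snd _ _) e)
        (pairObj_obj _ _ e) := by
  obtain ⟨φ, hφ⟩ := exists_pairHom g _ _ pullback.condition e
  exact map_point hD hs φ g hφ _ _

lemma exists_pair_point {T : Over S} (ξ : (FibCat.fp x y).obj)
    (hξ : (FibCat.fp x y).p.obj ξ = T) (r : T ⟶ (top y).P)
    (hr : toSlice (prodProj x y) ξ hξ ≫ snd V U = r ≫ toBase y) :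
    ∃ (p : T ⟶ (top x).P) (e : p ≫ (top x).φ = r ≫ (top y).φ),
      p ≫ toBase x = toSlice (prodProj x y) ξ hξ ≫ fst V U ∧
        point hD hs (pairObj p r e) (pairObj_obj p r e) = point hD hs ξ hξ := by
  subst hξ
  let T := ξ.obj.fst.left
  let v : T ⟶ V := ξ.obj.fst.hom
  have hu : eqToHom (fp_snd_obj ξ).symm ≫ ξ.obj.snd.hom = r ≫ toBase y := by
    rw [← hr, toSlice, eqToHom_refl, Category.id_comp]
    exact (lift_snd _ _).symm
  let i₁ : Over.mk v ≅ ξ.obj.fst := Over.isoMk (Iso.refl _) (Category.id_comp _)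
  let i₂ : ξ.obj.snd ≅ fstObj y (Over.mk r) := Over.isoMk
    (eqToIso (show ξ.obj.snd.left = T from fp_snd_obj ξ)) (by
    simp only [eqToIso.hom]
    change _ ≫ r ≫ toBase y = _
    rw [← hu]; simp)
  let α : x.obj (Over.mk v) ≅ y.obj (fstObj y (Over.mk r)) :=
    x.toFunctor.mapIso i₁ ≪≫ ξ.obj.iso ≪≫ y.toFunctor.mapIso i₂
  have hi₁ : (FibCat.overCat V).p.IsHomLift (𝟙 T) i₁.hom :=
    IsHomLift.of_fac' _ _ _ rfl rfl (by simp [i₁]; rfl)
  have hi₂ : (FibCat.overCat U).p.IsHomLift (𝟙 T) i₂.hom :=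
    IsHomLift.of_fac' _ _ _ (fp_snd_obj ξ) rfl (by simp [i₂]; rfl)
  have hα : (QuotSt K G aX).p.IsHomLift (𝟙 T) α.hom :=
    homLift_id_comp (BasedFunctor.preserves_isHomLift x (𝟙 T) i₁.hom)
      (homLift_id_comp (fp_iso_isHomLift ξ rfl) (BasedFunctor.preserves_isHomLift y (𝟙 T) i₂.hom))
  obtain ⟨p, e, hv, hp⟩ := exists_pair_aux v r α hα
  refine ⟨p, e, ?_, (point_eq_iff hD hs).2 ?_⟩
  · rw [hv]
    rw [toSlice, eqToHom_refl, Category.id_comp]
    exact (lift_fst _ _).symm
  · let j : fstObj x (Over.mk p) ≅ ξ.obj.fst := eqToIso (congrArg Over.mk hv) ≪≫ i₁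
    refine ⟨fpIsoMk (x := pairObj p r e) (y := ξ) j i₂.symm ?_, fpIsoMk_lift _ _ _ ?_⟩
    · change x.map (eqToHom (congrArg Over.mk hv) ≫ i₁.hom) ≫ ξ.obj.iso.hom = (pairIso p r e).hom ≫ y.map i₂.inv
      have hy : y.map i₂.hom ≫ y.map i₂.inv = 𝟙 _ := by
        rw [← y.toFunctor.map_comp, i₂.hom_inv_id, y.toFunctor.map_id]
      have hα' : α.hom ≫ y.map i₂.inv = x.map i₁.hom ≫ ξ.obj.iso.hom :=
        (Category.assoc _ _ _).trans (congrArg (x.map i₁.hom ≫ ·)
          ((Category.assoc _ _ _).trans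
            ((congrArg (ξ.obj.iso.hom ≫ ·) hy).trans (Category.comp_id _))))
      rw [hp, Category.assoc, hα', x.toFunctor.map_comp, Category.assoc]
    · exact IsHomLift.of_fac' (FibCat.overCat V).p _ _ rfl rfl (by simp [j, i₁, eqToHom_map]; rfl)

lemma pairPoint_w : pairPoint hD hs ≫ classTo hD hs (prodProj x y) =
    (yon S).map (pairBase x y) ≫ (yon S).map (V ◁ toBase y) := by
  rw [pairPoint, point_classTo, toSlice_prodProj, ← Functor.map_comp, pairBase,
    lift_whiskerLeft]

/-- The fibre product of the torsors is the base change of the sheaf of isomorphisms along the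
torsor of the second object. -/
theorem isPullback_pairPoint : IsPullback (pairPoint hD hs) ((yon S).map (pairBase x y))
    (classTo hD hs (prodProj x y)) ((yon S).map (V ◁ toBase y)) := by
  refine isPullback_of_yon (pairPoint_w hD hs) (fun T b c hbc => ?_) fun T a a' h₁ h₂ => ?_
  · obtain ⟨ξ, hξ, rfl⟩ := point_surj hD hs b
    obtain ⟨c, rfl⟩ := (yon S).map_surjective c
    rw [point_classTo, ← Functor.map_comp] at hbc
    have hbc' := (yon S).map_injective hbc
    obtain ⟨p, e, hp, hpt⟩ := exists_pair_point hD hs ξ hξ (c ≫ snd _ _)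
      (by rw [hbc', Category.assoc, whiskerLeft_snd, Category.assoc])
    refine ⟨(yon S).map (pullback.lift p (c ≫ snd _ _) e), ?_, ?_⟩
    · rw [map_pairPoint hD hs _ (by simp only [Category.assoc, pullback.condition]), ← hpt]
      simp only [pullback.lift_fst, pullback.lift_snd]
    · rw [← Functor.map_comp]
      congr 1
      rw [pairBase, comp_lift, pullback.lift_fst_assoc, pullback.lift_snd, hp, hbc',
        Category.assoc, whiskerLeft_fst]
      exact CartesianMonoidalCategory.hom_ext _ _ (lift_fst _ _) (lift_snd _ _)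
  · obtain ⟨g, rfl⟩ := (yon S).map_surjective a
    obtain ⟨g', rfl⟩ := (yon S).map_surjective a'
    rw [← Functor.map_comp, ← Functor.map_comp] at h₂
    have h₂' := congrArg (· ≫ snd _ _) ((yon S).map_injective h₂)
    simp only [pairBase, Category.assoc, lift_snd] at h₂'
    have e' : (g' ≫ pullback.fst (top x).φ (top y).φ) ≫ (top x).φ =
        (g ≫ pullback.snd _ _) ≫ (top y).φ := by
      rw [Category.assoc, pullback.condition, ← Category.assoc, ← h₂']
    have e : (g ≫ pullback.fst (top x).φ (top y).φ) ≫ (top x).φ =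
        (g ≫ pullback.snd _ _) ≫ (top y).φ := by simp [pullback.condition]
    rw [map_pairPoint hD hs g e, map_pairPoint hD hs g' (by simp [pullback.condition])] at h₁
    have h₃ : point hD hs (pairObj _ _ e) (pairObj_obj _ _ e) =
        point hD hs (pairObj _ _ e') (pairObj_obj _ _ e') := by
      refine h₁.trans ?_
      congr 2
      exact h₂'.symm
    obtain ⟨i, hi⟩ := (point_eq_iff hD hs).1 h₃
    congr 1
    exact pullback.hom_ext (pair_unique i hi) h₂'

end Square

end Groth.Agent.H14Quot
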