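import Groth.Agent.H14Quot.Yon
import Groth.Prelude.Def_AlgSt2

/-!
# A sheaf over a scheme covered by cartesian pieces: morphisms out of it glue
-/

set_option autoImplicit false
set_option backward.isDefEq.respectTransparency false
set_option backward.isDefEq.respectTransparency.types false

universe u

open CategoryTheory CategoryTheory.Limits AlgebraicGeometry Opposite
open AlgSp

namespace Groth.Agent.H14Quot

variable {S : Scheme.{u}} {U : Over S} {R : Sieve U}

/-- An arrow of the sieve `R`, as an index. -/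
abbrev Idx (R : Sieve U) : Type (u + 1) := (Stk.sieveCat R).obj

/-- The index of an arrow belonging to `R`. -/
abbrev idxMk {W : Over S} (g : W ⟶ U) (h : R g) : Idx R := ⟨Over.mk g, h⟩

/-- A presentation of a sheaf over `U` by its base changes to the arrows of a sieve. -/
structure Pieces (R : Sieve U) {Q : Sp S} (q : Q ⟶ (yon S).obj U) where
  /-- the piece over an arrow -/
  obj : Idx R → Sp S
  /-- its structure map -/
  proj : ∀ a : Idx R, obj a ⟶ (yon S).obj a.obj.left
  /-- its map to the sheaf -/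
  ι : ∀ a : Idx R, obj a ⟶ Q
  cart : ∀ a : Idx R, IsPullback (ι a) (proj a) q ((yon S).map a.obj.hom)

variable {Q Z : Sp S} {q : Q ⟶ (yon S).obj U}

/-- The pieces given by chosen fibre products. -/
noncomputable def Pieces.canonical (R : Sieve U) (q : Q ⟶ (yon S).obj U) : Pieces R q where
  obj a := pullback q ((yon S).map a.obj.hom)
  proj a := pullback.snd _ _
  ι a := pullback.fst _ _
  cart a := IsPullback.of_hasPullback _ _

variable (D : Pieces R q)

/-- A family on pieces is compatible when it commutes with the induced maps between pieces. -/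
def Pieces.Compatible (f : ∀ a, D.obj a ⟶ Z) : Prop :=
  ∀ (a b : Idx R) (m : a.obj ⟶ b.obj) (k : D.obj a ⟶ D.obj b),
    k ≫ D.ι b = D.ι a → k ≫ D.proj b = D.proj a ≫ (yon S).map m.left → k ≫ f b = f a

/-- The map between pieces induced by a map of arrows. -/
noncomputable def Pieces.trans {a b : Idx R} (m : a.obj ⟶ b.obj) : D.obj a ⟶ D.obj b :=
  (D.cart b).lift (D.ι a) (D.proj a ≫ (yon S).map m.left)
    (by rw [(D.cart a).w, Category.assoc, ← Functor.map_comp, Over.w m])

lemma Pieces.trans_ι {a b : Idx R} (m : a.obj ⟶ b.obj) : D.trans m ≫ D.ι b = D.ι a :=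
  IsPullback.lift_fst _ _ _ _

lemma Pieces.trans_proj {a b : Idx R} (m : a.obj ⟶ b.obj) :
    D.trans m ≫ D.proj b = D.proj a ≫ (yon S).map m.left :=
  IsPullback.lift_snd _ _ _ _

lemma exists_base {T : Over S} (x : (yon S).obj T ⟶ Q) :
    ∃ c : T ⟶ U, x ≫ q = (yon S).map c :=
  ⟨(yon S).preimage (x ≫ q), ((yon S).map_preimage _).symm⟩

/-- The section of a piece through which a point of the sheaf factors. -/
noncomputable def Pieces.sec {W : Over S} (y : (yon S).obj W ⟶ Q) (c : W ⟶ U) (hc : R c)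
    (h : y ≫ q = (yon S).map c) : (yon S).obj W ⟶ D.obj (idxMk c hc) :=
  (D.cart (idxMk c hc)).lift y (𝟙 _) (by rw [h, Category.id_comp]; rfl)

lemma Pieces.sec_ι {W : Over S} (y : (yon S).obj W ⟶ Q) (c : W ⟶ U) (hc : R c)
    (h : y ≫ q = (yon S).map c) : D.sec y c hc h ≫ D.ι (idxMk c hc) = y :=
  IsPullback.lift_fst _ _ _ _

lemma Pieces.sec_proj {W : Over S} (y : (yon S).obj W ⟶ Q) (c : W ⟶ U) (hc : R c)
    (h : y ≫ q = (yon S).map c) : D.sec y c hc h ≫ D.proj (idxMk c hc) = 𝟙 _ :=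
  IsPullback.lift_snd _ _ _ _

variable (hR : R ∈ J S U)

include hR in
/-- Maps out of a sheaf are determined on the pieces. -/
lemma Pieces.hom_ext {f g : Q ⟶ Z} (h : ∀ a, D.ι a ≫ f = D.ι a ≫ g) : f = g := by
  refine H12AlgSp.hom_ext_yon fun T x => ?_
  obtain ⟨c, hc⟩ := exists_base (q := q) x
  refine yon_ext ((J S).pullback_stable c hR) fun W k hk => ?_
  have hy : ((yon S).map k ≫ x) ≫ q = (yon S).map (k ≫ c) := by
    rw [Category.assoc, hc, Functor.map_comp]
  rw [← Category.assoc, ← Category.assoc, ← D.sec_ι _ (k ≫ c) hk hy, Category.assoc, h,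
    Category.assoc]

variable {f : ∀ a, D.obj a ⟶ Z} (hf : D.Compatible f)

include hf in
lemma Pieces.comp_eq {W : Over S} (y : (yon S).obj W ⟶ Q) (c : W ⟶ U) (hc : R c)
    (h : y ≫ q = (yon S).map c) (a : Idx R) (z : (yon S).obj W ⟶ D.obj a)
    (hz : z ≫ D.ι a = y) (t : W ⟶ a.obj.left) (ht : z ≫ D.proj a = (yon S).map t) :
    D.sec y c hc h ≫ f (idxMk c hc) = z ≫ f a := by
  have e : t ≫ a.obj.hom = c := (yon S).map_injective (by
    rw [Functor.map_comp, ← ht, Category.assoc, ← (D.cart a).w, ← Category.assoc, hz, h])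
  let m : (idxMk c hc).obj ⟶ a.obj := Over.homMk t e
  rw [← hf _ a m (D.trans m) (D.trans_ι m) (D.trans_proj m), ← Category.assoc]
  congr 1
  refine (D.cart a).hom_ext ?_ ?_
  · rw [Category.assoc, D.trans_ι, D.sec_ι, hz]
  · rw [Category.assoc, D.trans_proj, reassoc_of% (D.sec_proj y c hc h), ht]
    rfl

include hR hf in
lemma Pieces.exists_pointwise {T : Over S} (x : (yon S).obj T ⟶ Q) :
    ∃ z : (yon S).obj T ⟶ Z, ∀ ⦃W : Over S⦄ (k : W ⟶ T) (c : W ⟶ U) (hc : R c)
      (h : ((yon S).map k ≫ x) ≫ q = (yon S).map c),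
      (yon S).map k ≫ z = D.sec ((yon S).map k ≫ x) c hc h ≫ f (idxMk c hc) := by
  obtain ⟨c₀, hc₀⟩ := exists_base (q := q) x
  have hy : ∀ {W : Over S} (k : W ⟶ T), ((yon S).map k ≫ x) ≫ q = (yon S).map (k ≫ c₀) :=
    fun k => by rw [Category.assoc, hc₀, Functor.map_comp]
  let fam : ∀ ⦃W : Over S⦄ (k : W ⟶ T), (R.pullback c₀) k → ((yon S).obj W ⟶ Z) :=
    fun W k hk => D.sec ((yon S).map k ≫ x) (k ≫ c₀) hk (hy k) ≫ f (idxMk (k ≫ c₀) hk)
  obtain ⟨z, hz⟩ := yon_glue ((J S).pullback_stable c₀ hR) fam fun W W' l k hk => by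
    rw [← Category.assoc]
    refine (D.comp_eq hf _ _ _ _ (idxMk (k ≫ c₀) hk)
      ((yon S).map l ≫ D.sec ((yon S).map k ≫ x) (k ≫ c₀) hk (hy k)) ?_ l ?_).symm
    · rw [Category.assoc, D.sec_ι, Functor.map_comp, Category.assoc]
    · rw [Category.assoc, D.sec_proj, Category.comp_id]
  refine ⟨z, fun W k c hc h => ?_⟩
  obtain rfl : c = k ≫ c₀ := (yon S).map_injective (h.symm.trans (hy k))
  exact hz k hc

include hR hf in
/-- Compatible maps on the pieces glue. -/
lemma Pieces.exists_glue : ∃ F : Q ⟶ Z, ∀ a, D.ι a ≫ F = f a := by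
  choose z hz using fun T x => D.exists_pointwise hR hf (T := T) x
  have nat : ∀ ⦃T T' : Over S⦄ (k : T' ⟶ T) (x : (yon S).obj T ⟶ Q),
      z T' ((yon S).map k ≫ x) = (yon S).map k ≫ z T x := fun T T' k x => by
    obtain ⟨c, hc⟩ := exists_base (q := q) ((yon S).map k ≫ x)
    refine yon_ext ((J S).pullback_stable c hR) fun W l hl => ?_
    have h1 : ((yon S).map l ≫ (yon S).map k ≫ x) ≫ q = (yon S).map (l ≫ c) := by
      rw [Category.assoc, hc, Functor.map_comp]
    have h2 : ((yon S).map (l ≫ k) ≫ x) ≫ q = (yon S).map (l ≫ c) := by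
      rw [← h1, Functor.map_comp, Category.assoc ((yon S).map l)]
    refine (hz _ _ l (l ≫ c) hl h1).trans (Eq.trans ?_
      (((hz T x (l ≫ k) (l ≫ c) hl h2).symm.trans (by rw [Functor.map_comp, Category.assoc]))))
    refine (D.comp_eq hf _ _ _ _ (idxMk (l ≫ c) hl) (D.sec _ (l ≫ c) hl h2) ?_ (𝟙 W) ?_)
    · rw [D.sec_ι, Functor.map_comp, Category.assoc]
    · rw [D.sec_proj, CategoryTheory.Functor.map_id]
  refine ⟨homOfPoints z nat, fun a => H12AlgSp.hom_ext_yon fun T w => ?_⟩
  rw [← Category.assoc, comp_homOfPoints]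
  obtain ⟨t, ht⟩ := exists_base (q := D.proj a) w
  have h : ((yon S).map (𝟙 T) ≫ w ≫ D.ι a) ≫ q = (yon S).map (t ≫ a.obj.hom) := by
    rw [CategoryTheory.Functor.map_id, Category.id_comp, Category.assoc, (D.cart a).w,
      reassoc_of% ht, Functor.map_comp]
  have h3 := (hz _ (w ≫ D.ι a) (𝟙 T) (t ≫ a.obj.hom) (R.downward_closed a.property t) h).trans
    (D.comp_eq hf _ _ _ _ a w
      (by rw [CategoryTheory.Functor.map_id, Category.id_comp]) t ht)
  rwa [CategoryTheory.Functor.map_id, Category.id_comp] at h3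

end Groth.Agent.H14Quot
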