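import Groth.Agent.H14Quot.QuotDiag

/-!
# An affine diagonal of `[X/G]` makes the diagonal of `X` affine
-/

set_option autoImplicit false
set_option backward.isDefEq.respectTransparency false
set_option backward.isDefEq.respectTransparency.types false

universe u

open CategoryTheory CategoryTheory.Limits MonoidalCategory CartesianMonoidalCategory MonObj GrpObj
open AlgebraicGeometry AlgSt Opposite
open AlgSp (yon J)

namespace Groth.Agent.H14Quot

open H14Fib H14Stk H14AlgSt H12AlgSp

variable {S : Scheme.{u}} {K : Precoverage Scheme.{u}} [K.HasIsos] [K.IsStableUnderBaseChange]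
  {G : Over S} [GrpObj G] {X : Over S} {aX : AlgGrp.Action G X}

omit [K.IsStableUnderBaseChange] in
lemma top_atlas_φ : (top (atlas K G aX)).φ = aX.act := by
  change (G ◁ 𝟙 X) ≫ aX.act = _
  rw [MonoidalCategory.whiskerLeft_id, Category.id_comp]

lemma toBase_atlas : toBase (atlas K G aX) = snd G X := by
  change snd G X ≫ eqToHom _ = _
  rw [eqToHom_refl, Category.comp_id]

omit [GrpObj G] in
lemma isPullback_unitBase (act : G ⊗ X ⟶ X) (σ : X ⟶ G ⊗ X) (hσ : σ ≫ act = 𝟙 X) :
    IsPullback (pullback.lift (f := act) (g := act) (𝟙 (G ⊗ X)) (act ≫ σ)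
        (by rw [Category.id_comp, Category.assoc, hσ, Category.comp_id]))
      (lift (snd G X) act) (lift (pullback.fst act act ≫ snd G X) (pullback.snd act act))
      (X ◁ σ) := by
  refine ⟨⟨?_⟩, ⟨PullbackCone.IsLimit.mk ?_ (fun s => s.fst ≫ pullback.fst _ _) (fun s => ?_)
    (fun s => ?_) fun s m hm₁ _ => ?_⟩⟩
  · apply CartesianMonoidalCategory.hom_ext <;> simp <;> exact Category.id_comp _
  · apply CartesianMonoidalCategory.hom_ext <;> simp <;> exact Category.id_comp _
  · have hc := congrArg (· ≫ snd _ _) s.condition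
    simp only [Category.assoc, lift_snd, whiskerLeft_snd] at hc
    have e : (s.fst ≫ pullback.fst act act) ≫ act = (s.fst ≫ pullback.snd act act) ≫ act := by
      simp only [Category.assoc, pullback.condition]
    apply pullback.hom_ext
    · rw [Category.assoc, pullback.lift_fst]
      exact Category.comp_id _
    · rw [Category.assoc, pullback.lift_snd, ← Category.assoc _ act σ, e, hc, Category.assoc,
        Category.assoc, Category.assoc, reassoc_of% hσ]
  · have hc₁ := congrArg (· ≫ fst _ _) s.condition
    have hc₂ := congrArg (· ≫ snd _ _ ≫ act) s.condition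
    simp only [Category.assoc, lift_fst, whiskerLeft_fst] at hc₁
    simp only [Category.assoc, lift_snd_assoc, whiskerLeft_snd_assoc, hσ, Category.comp_id] at hc₂
    rw [comp_lift]
    apply CartesianMonoidalCategory.hom_ext
    · rw [lift_fst, Category.assoc]
      exact hc₁
    · rw [lift_snd, Category.assoc, pullback.condition]
      exact hc₂
  · rw [← hm₁, Category.assoc, pullback.lift_fst]
    exact (Category.comp_id _).symm

lemma isAffineHom_diagonal_aux (hG : IsAffineHom G.hom) (φ π : G ⊗ X ⟶ X) (hφ : φ = aX.act)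
    (hπ : π = snd G X)
    (hb : IsAffineHom (lift (pullback.fst φ φ ≫ π) (pullback.snd φ φ)).left) :
    IsAffineHom (pullback.diagonal X.hom) := by
  subst hφ hπ
  have hsnd : IsAffineHom (snd G X).left := snd_left_of @IsAffineHom X hG
  let σ : X ⟶ G ⊗ X := unitSec G X
  have hσsnd : σ ≫ snd G X = 𝟙 X := lift_snd _ _
  have hσact : σ ≫ aX.act = 𝟙 X := unit_act aX (𝟙 X)
  have hσ : IsAffineHom σ.left := by
    have : IsAffineHom (σ.left ≫ (snd G X).left) := by
      rw [← Over.comp_left, hσsnd]
      exact inferInstanceAs (IsAffineHom (𝟙 X.left))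
    exact IsAffineHom.of_comp σ.left (snd G X).left
  have hψ : IsAffineHom (lift (snd G X) aX.act).left :=
    MorphismProperty.of_isPullback (P := @IsAffineHom)
      ((isPullback_unitBase aX.act σ hσact).map (Over.forget S)) hb
  have e : σ ≫ lift (snd G X) aX.act = lift (𝟙 X) (𝟙 X) := by rw [comp_lift, hσsnd, hσact]
  have h3 := MorphismProperty.comp_mem @IsAffineHom _ _ hσ hψ
  rw [← Over.comp_left, e] at h3
  exact h3

/-- An affine diagonal of the quotient gives an affine diagonal of the scheme. -/
theorem isAffineHom_diagonal_of_repWith (hK : K ≤ Scheme.fppfPrecoverage)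
    (hG : IsAffineHom G.hom)
    (h : RepByAlgSpWith AlgSp.IsAffineMor (FibCat.diag (FibCat.toSelf (QuotSt K G aX)))) :
    IsAffineHom (pullback.diagonal X.hom) := by
  let a := atlas K G aX
  have hD := fp_stack_of_le hK hG a a
  have hs := fp_setoid_slices a a
  have h1 := (repWith_fpDown_iff a a hD hs).1 (repWith_fpDown h a a)
  rw [isAffineMor_eq] at h1
  have h2 := (AlgSp.repBySpWith_hom_iff _ _).1 ((repBySpWith_iff _ _).2 h1) _ _ _
    (isPullback_pairPoint hD hs)
  exact isAffineHom_diagonal_aux hG (top a).φ (toBase a) top_atlas_φ toBase_atlas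
    ((AlgSp.repWith_yon_map_iff @IsAffineHom (pairBase a a)).1 h2.2)

end Groth.Agent.H14Quot
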